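import Groth.Agent.AlgSpDec.DecentDense
import Groth.Agent.AlgSpDec.BddFibres
import Groth.Agent.AlgSpDec.LocFinIrredTfae
import Groth.Agent.AlgSpDec.Basic
import Groth.Agent.AlgSpDec.LimOpen

/-!
# Decent spaces with finitely many irreducible components
-/

set_option autoImplicit false
set_option backward.isDefEq.respectTransparency false
set_option backward.isDefEq.respectTransparency.types false

universe u

open CategoryTheory Limits Opposite AlgebraicGeometry AlgSp Groth.Agent.AlgSpLib Groth.Agent.AlgSpPts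
  Groth.Agent.AlgSpDec TopologicalSpace Order

namespace Groth.Agent.AlgSpOne

variable {S : Scheme.{u}} {X : Sp S}

/-- Any representative of a point represented by a quasi-compact monomorphism is quasi-compact. -/
theorem repWith_qc_of_mono_rep (hX : IsAlgSpace X) (p q : FieldPt X) [Mono p.toHom]
    (hp : RepWith @QuasiCompact p.toHom) (h : Points.mk q = Points.mk p) :
    RepWith @QuasiCompact q.toHom := by
  obtain ⟨c, hc, -⟩ := existsUnique_factor p.toHom (representable_from_yon' hX _) q.toHom (by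
    rw [Points.ofPt_toHom, Points.ofPt_toHom, h])
  have : IsAffine q.pt.left := inferInstanceAs (IsAffine (Spec (CommRingCat.of q.K)))
  have : IsAffine p.pt.left := inferInstanceAs (IsAffine (Spec (CommRingCat.of p.K)))
  have : IsAffineHom c.left := inferInstanceAs (IsAffineHom (show q.pt.left ⟶ p.pt.left from c.left))
  rw [← hc]
  exact repWith_comp ((repWith_yon_map_iff _ _).2 (inferInstanceAs (QuasiCompact c.left))) hp

/-- A point of codimension zero of a scheme is the generic point of a component. -/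
theorem exists_component_of_coheight_zero {T : Scheme.{u}} {x : T} (hx : coheight x = 0) :
    ∃ Z ∈ irreducibleComponents ↥T, IsGenericPoint x Z := by
  refine ⟨closure {x}, ⟨isIrreducible_singleton.closure, fun Z hZ hle => ?_⟩, isGenericPoint_closure⟩
  obtain ⟨η, hη⟩ := QuasiSober.sober hZ.closure isClosed_closure
  have hηx : η ⤳ x := hη.specializes (subset_closure (hle (subset_closure rfl)))
  intro z hz
  have : η = x := eq_of_specializes_of_coheight hx hηx
  rw [← this, hη.def]
  exact subset_closure hz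

/-- The fibre over `g` of the second projection of the relation of a chart is finite when the point
of `g` has a quasi-compact representative. -/
theorem finite_preimage_snd_of_qc {U : Over S} [CompactSpace ↥U.left] {a : (yon S).obj U ⟶ X}
    (ha : RepWith @Etale a) (g : ↥U.left) (hq : RepWith @QuasiCompact (FieldPt.ofPt a g).toHom) :
    ((ha.rep.snd a).left ⁻¹' {g}).Finite := by
  let q := FieldPt.ofPt a g
  let z : q.pt ⟶ U := CategoryTheory.Over.homMk (U.left.fromSpecResidueField g) rfl
  have hqz : q.toHom = (yon S).map z ≫ a := FieldPt.toHom_ofPt a g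
  let T := ha.rep.pullback q.toHom
  let t₁ : T ⟶ U := ha.rep.fst' q.toHom
  let t₂ : T ⟶ q.pt := ha.rep.snd q.toHom
  let R := ha.rep.pullback a
  let r₁ : R ⟶ U := ha.rep.fst' a
  let r₂ : R ⟶ U := ha.rep.snd a
  have sqT : IsPullback ((yon S).map t₁) ((yon S).map t₂) a q.toHom := ha.rep.isPullback' q.toHom
  have sqR : IsPullback ((yon S).map r₁) ((yon S).map r₂) a a := ha.rep.isPullback' a
  have : Etale t₂.left := ha.property_snd q.toHom
  have : QuasiCompact t₁.left := hq.property _ _ _ sqT.flip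
  have : CompactSpace ↥T.left := QuasiCompact.compactSpace_of_compactSpace t₁.left
  have : DiscreteTopology ↥T.left := by
    have h1 := t₂.left.isDiscrete_preimage_singleton (IsLocalRing.closedPoint q.K)
    rw [show t₂.left ⁻¹' {IsLocalRing.closedPoint q.K} = Set.univ from
      Set.eq_univ_of_forall fun x => Subsingleton.elim (α := ↥q.pt.left) _ _] at h1
    exact isDiscrete_univ_iff.1 h1
  have : Finite ↥T.left := finite_of_compact_of_discrete
  obtain ⟨l, hl⟩ := (yon S).map_surjective (sqR.lift ((yon S).map t₁) ((yon S).map (t₂ ≫ z)) (by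
    rw [Functor.map_comp, Category.assoc, ← hqz, sqT.w]))
  have hl₁ : l ≫ r₁ = t₁ := (yon S).map_injective (by rw [Functor.map_comp, hl, sqR.lift_fst])
  have hl₂ : l ≫ r₂ = t₂ ≫ z := (yon S).map_injective (by rw [Functor.map_comp, hl, sqR.lift_snd])
  refine (Set.finite_range l.left).subset fun r hr => ?_
  have sq' : IsPullback ((yon S).map l) ((yon S).map t₂) ((yon S).map r₂) ((yon S).map z) := by
    refine IsPullback.of_right ?_ (by rw [← Functor.map_comp, ← Functor.map_comp, hl₂]) sqR
    rw [← Functor.map_comp, hl₁, ← hqz]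
    exact sqT
  obtain ⟨w, hw, -⟩ := exists_ofPt_of_eq sq' (u := r) (v := IsLocalRing.closedPoint q.K) (by
    rw [Points.ofPt_eq_map_ofScheme, Points.ofPt_eq_map_ofScheme ((yon S).map z)]
    refine (Points.map_yon_map_apply r₂ r).trans ((Points.map_yon_map_apply z _).trans ?_).symm
    exact congrArg (Points.schemeHomeo U) ((Scheme.fromSpecResidueField_apply _ _).trans hr.symm))
  exact ⟨w, hw⟩

theorem isDecent_of_dense_subscheme (hX : IsAlgSpace X) {T : Over S} (j : (yon S).obj T ⟶ X)
    (hj : RepWith @IsOpenImmersion j) (hd : Dense (Set.range (Points.ofPt j)))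
    (hfin : (irreducibleComponents ↥T.left).Finite)
    (hqc : ∀ x : ↥T.left, coheight x = 0 → RepWith @QuasiCompact (FieldPt.ofPt j x).toHom) :
    IsDecent X := by
  intro x
  refine exists_rep_of_finite hX x fun U φ hU hφ R s t sq => ?_
  have : IsAffine U.left := hU
  have hje : RepWith @Etale j :=
    repWith_mono (fun _ _ f (h : IsOpenImmersion f) => (inferInstance : Etale f)) _ hj
  have hmono : Mono j := mono_of_openImm hj
  let s' := (hφ.rep.snd φ).left
  have : Etale s' := hφ.property_snd φ
  have : IsSeparated s' := isSeparated_snd_of_isAffine hφ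
  -- maximal points of the chart over the dense open
  let O : U.left.Opens := ⟨Points.ofPt φ ⁻¹' Set.range (Points.ofPt j),
    ((isOpenMap_ofPt hje).isOpen_range).preimage (Points.continuous_ofPt φ)⟩
  have hOd : Dense (O : Set ↥U.left) := hd.preimage (isOpenMap_ofPt hφ)
  let G : Set ↥U.left := {g | g ∈ O ∧ coheight g = 0}
  have hqcG : ∀ g ∈ G, ∃ p : FieldPt X, Mono p.toHom ∧ RepWith @QuasiCompact p.toHom ∧
      Points.mk p = Points.ofPt φ g ∧ ∃ x₀ : ↥T.left, coheight x₀ = 0 ∧ Points.ofPt j x₀ = Points.ofPt φ g := by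
    rintro g ⟨⟨x₀, hx₀⟩, hg⟩
    have h0 : coheight x₀ = 0 := by rw [coheight_eq_of_charts hje hφ hx₀, hg]
    refine ⟨FieldPt.ofPt j x₀, ?_, hqc x₀ h0, hx₀, x₀, h0, hx₀⟩
    rw [FieldPt.toHom_ofPt]
    have : Mono (CategoryTheory.Over.homMk (U := (FieldPt.ofPt j x₀).pt) (V := T)
        (T.left.fromSpecResidueField x₀) rfl) :=
      (Over.forget S).mono_of_mono_map (inferInstanceAs (Mono (T.left.fromSpecResidueField x₀)))
    exact inferInstance
  have hG : G.Finite := by
    refine Set.Finite.subset ((LocFinIrredTfae.finite_coheight_zero hfin).biUnion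
      (t := fun x₀ => Points.ofPt φ ⁻¹' {Points.mk (FieldPt.ofPt j x₀)})
      fun x₀ hx₀ => finite_fibre_of_repWith hφ _ (hqc x₀ hx₀)) ?_
    rintro g hg
    obtain ⟨-, -, -, -, x₀, h0, hx₀⟩ := hqcG g hg
    exact Set.mem_iUnion₂.2 ⟨x₀, h0, hx₀.symm⟩
  have hGfin : ∀ g ∈ G, Finite ↥(MoreMor.geomFiber s' g) := fun g hg => by
    obtain ⟨p, hm, hpq, hp, -⟩ := hqcG g hg
    exact finite_geomFiber_of_finite_preimage s'
      (finite_preimage_snd_of_qc hφ g (repWith_qc_of_mono_rep hX p _ hpq hp.symm))
  let n : ℕ := hG.toFinset.sup fun g => Nat.card ↥(MoreMor.geomFiber s' g)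
  have hn : ∀ w, ¬ ((n + 1 : ℕ) : ℕ∞) ≤ ENat.card ↥(MoreMor.geomFiber s' w) := by
    intro w hw
    obtain ⟨η, ⟨hη, hηO⟩, hη0⟩ := exists_codimZero_mem
      (⟨_, (EtCount.isOpen_le_card (n + 1) s').inter O.isOpen⟩ : U.left.Opens)
      (hOd.inter_open_nonempty _ (EtCount.isOpen_le_card (n + 1) s') ⟨w, hw⟩)
    have := hGfin η ⟨hηO, hη0⟩
    have h1 : ((n + 1 : ℕ) : ℕ∞) ≤ (Nat.card ↥(MoreMor.geomFiber s' η) : ℕ∞) := by
      rw [← ENat.card_eq_coe_natCard ↥(MoreMor.geomFiber s' η)]
      exact hη
    have h2 : Nat.card ↥(MoreMor.geomFiber s' η) ≤ n :=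
      Finset.le_sup (f := fun g => Nat.card ↥(MoreMor.geomFiber s' g)) (hG.mem_toFinset.2 ⟨hηO, hη0⟩)
    have h3 : n + 1 ≤ Nat.card ↥(MoreMor.geomFiber s' η) := by exact_mod_cast h1
    omega
  have hs : ∀ u, (s' ⁻¹' {u}).Finite := by
    intro u
    haveI : Finite (EtCount.Lifts s' (EtCount.geomPt u)) := by
      rw [← ENat.card_lt_top, ← EtCount.card_geomFiber]
      exact lt_of_lt_of_le (not_le.1 (hn u)) le_top
    exact (Set.finite_range fun l : EtCount.Lifts s' (EtCount.geomPt u) =>
      l.1 (IsLocalRing.closedPoint _)).subset fun r hr => exists_lift_through s' hr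
  have hfib : (Points.ofPt φ ⁻¹' {x}).Finite := by
    rcases (Points.ofPt φ ⁻¹' {x}).eq_empty_or_nonempty with h | ⟨u, hu⟩
    · rw [h]; exact Set.finite_empty
    refine ((hs u).image (hφ.rep.fst' φ).left).subset fun v hv => ?_
    obtain ⟨r, hr₁, hr₂⟩ := exists_ofPt_of_eq (hφ.rep.isPullback' φ) (u := v) (v := u)
      (Eq.trans hv hu.symm)
    exact ⟨r, hr₂, hr₁⟩
  -- transport to the given relation
  obtain ⟨k, hk⟩ := (yon S).map_surjective (sq.flip.lift ((yon S).map (hφ.rep.snd φ))
    ((yon S).map (hφ.rep.fst' φ)) (hφ.rep.isPullback' φ).w.symm)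
  have hk₁ : k ≫ t = hφ.rep.fst' φ := (yon S).map_injective (by rw [Functor.map_comp, hk, sq.flip.lift_snd])
  have hk₂ : k ≫ s = hφ.rep.snd φ := (yon S).map_injective (by rw [Functor.map_comp, hk, sq.flip.lift_fst])
  refine ((hfib.biUnion fun u _ => hs u).image k.left).subset fun r hr => ?_
  have hru : Points.ofPt φ (t.left r) = x := by rw [← ofPt_comp]; exact hr
  obtain ⟨l, hl⟩ := (yon S).map_surjective ((hφ.rep.isPullback' φ).lift ((yon S).map t) ((yon S).map s) sq.w)
  have hl₁ : l ≫ hφ.rep.fst' φ = t := (yon S).map_injective (by rw [Functor.map_comp, hl, IsPullback.lift_fst])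
  have hl₂ : l ≫ hφ.rep.snd φ = s := (yon S).map_injective (by rw [Functor.map_comp, hl, IsPullback.lift_snd])
  have hlk : l ≫ k = 𝟙 R := (yon S).map_injective (sq.hom_ext
    (by rw [← Functor.map_comp, Category.assoc, hk₁, hl₁, CategoryTheory.Functor.map_id, Category.id_comp])
    (by rw [← Functor.map_comp, Category.assoc, hk₂, hl₂, CategoryTheory.Functor.map_id, Category.id_comp]))
  refine ⟨l.left r, Set.mem_iUnion₂.2 ⟨s'  (l.left r), ?_, rfl⟩, ?_⟩
  · show Points.ofPt φ ((hφ.rep.snd φ).left (l.left r)) = x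
    rw [← ofPt_fst_eq_snd hφ, ← Scheme.Hom.comp_apply, ← Over.comp_left, hl₁, hru]
  · rw [← Scheme.Hom.comp_apply, ← Over.comp_left, hlk]
    rfl

theorem finite_components_of_dense_subscheme {T : Over S} (j : (yon S).obj T ⟶ X)
    (hd : Dense (Set.range (Points.ofPt j))) (hfin : (irreducibleComponents ↥T.left).Finite) :
    (irreducibleComponents (Points X)).Finite := by
  obtain ⟨G, hG, hcov⟩ := EtaPtLib.exists_generators hfin
  refine EtaPtLib.finite_components_of_generators (hG.image (Points.ofPt j)) fun y => ?_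
  have hcl : IsClosed (⋃ g ∈ G, closure {Points.ofPt j g}) := hG.isClosed_biUnion fun _ _ => isClosed_closure
  have hy : y ∈ ⋃ g ∈ G, closure {Points.ofPt j g} := by
    refine closure_minimal ?_ hcl (hd y)
    rintro _ ⟨t, rfl⟩
    obtain ⟨g, hg, hgt⟩ := hcov t
    exact Set.mem_iUnion₂.2 ⟨g, hg, specializes_iff_mem_closure.1 (hgt.map (Points.continuous_ofPt j))⟩
  obtain ⟨g, hg, hgy⟩ := Set.mem_iUnion₂.1 hy
  exact ⟨_, ⟨g, hg, rfl⟩, specializes_iff_mem_closure.2 hgy⟩

theorem exists_dense_subscheme_of_decent (hX : IsAlgSpace X) (hdec : IsDecent X)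
    (hfin : (irreducibleComponents (Points X)).Finite) :
    ∃ (T : Over S) (j : (yon S).obj T ⟶ X), RepWith @IsOpenImmersion j ∧
      Dense (Set.range (Points.ofPt j)) ∧ (irreducibleComponents ↥T.left).Finite ∧
      ∀ x : ↥T.left, RepWith @QuasiCompact (FieldPt.ofPt j x).toHom := by
  obtain ⟨X', j, hj, hr, hd⟩ := exists_dense_open_subscheme_of_isDecent ⟨X, hX⟩ hdec
  obtain ⟨T, ⟨e⟩⟩ := hr.has_representation
  let i := isoOfRepresentableBy e
  let k := i.hom ≫ j.hom
  have hk : RepWith @IsOpenImmersion k := repWith_comp (repWith_of_isIso _ i.hom) hj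
  have hke : RepWith @Etale k :=
    repWith_mono (fun _ _ f (h : IsOpenImmersion f) => (inferInstance : Etale f)) _ hk
  have hmono : Mono k := mono_of_openImm hk
  have hdk : Dense (Set.range (Points.ofPt k)) := by
    refine hd.mono ?_
    rintro _ ⟨z, rfl⟩
    obtain ⟨t, ht⟩ := (Points.schemeHomeo T).surjective (Points.map i.inv z)
    refine ⟨t, ?_⟩
    rw [Points.ofPt_eq_map_ofScheme]
    show Points.map k (Points.schemeHomeo T t) = _
    rw [ht, ← Points.map_comp, i.inv_hom_id_assoc]
  refine ⟨T, k, hk, hdk, ?_, fun x => ?_⟩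
  · have := t0Space_points hX hdec
    have := quasiSober_points hX hdec
    let _ := specializationOrder (Points X)
    refine LocFinIrredTfae.finite_components_of_coheight_zero ?_
    have hinj : Function.Injective (Points.ofPt k) := fun u v huv => by
      refine (Points.schemeHomeo T).injective (injective_points_map_of_mono k ?_)
      exact ((Points.ofPt_eq_map_ofScheme k u).symm.trans huv).trans (Points.ofPt_eq_map_ofScheme k v)
    refine Set.Finite.of_finite_image ?_ hinj.injOn
    refine (Set.Finite.subset (s := {y : Points X | ∃ Z ∈ irreducibleComponents (Points X), IsGenericPoint y Z})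
      ?_ ?_)
    · refine (hfin.biUnion (t := fun Z => {y | IsGenericPoint y Z})
        fun Z _ => Set.Subsingleton.finite fun a ha b hb => ha.eq hb).subset ?_
      rintro y ⟨Z, hZ, hy⟩
      exact Set.mem_iUnion₂.2 ⟨Z, hZ, hy⟩
    · rintro _ ⟨u, hu, rfl⟩
      refine (isGenericPoint_component_iff _).2 ?_
      rw [coheight_ofPt hdec hke]
      exact hu
  · obtain ⟨p, hp, hm, hq⟩ := hdec (Points.ofPt k x)
    exact repWith_qc_of_mono_rep hX p _ hq hp.symm

end Groth.Agent.AlgSpOne
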