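import Groth.Agent.AlgSpDec.LqfChart
import Groth.Agent.AlgSpDec.DecentDense
import Groth.Agent.AlgSpOne.DecentFinComp
import Groth.Agent.GrpdSplit.Loops

/-!
# Elementary etale neighbourhoods of the points of a decent space
-/

set_option autoImplicit false
set_option backward.isDefEq.respectTransparency false
set_option backward.isDefEq.respectTransparency.types false

universe u

open CategoryTheory Limits Opposite AlgebraicGeometry AlgSp Groth.Agent.AlgSpLib Groth.Agent.AlgSpPts
  Groth.Agent.AlgSpDec Grpd TopologicalSpace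

namespace Groth.Agent.AlgSpOne.ElemNbhd

variable {S : Scheme.{u}} {X : Sp S}

/-- An affine chart in which the point has a single preimage. -/
theorem exists_chart_single {U : Over S} [IsAffine U.left] (hdec : IsDecent X) {a : (yon S).obj U ⟶ X}
    (ha : RepWith @Etale a) (u : ↥U.left) :
    ∃ (V : Over S) (ι : V ⟶ U) (v : ↥V.left), IsAffine V.left ∧ IsOpenImmersion ι.left ∧ ι.left v = u ∧
      ∀ w, Points.ofPt ((yon S).map ι ≫ a) w = Points.ofPt a u → w = v := by
  have hfin : (Points.ofPt a ⁻¹' {Points.ofPt a u}).Finite := by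
    obtain ⟨p, hp, -, hq⟩ := hdec (Points.ofPt a u)
    exact hp ▸ finite_fibre_of_repWith ha p hq
  let M : Set ↥U.left := (Points.ofPt a ⁻¹' {Points.ofPt a u}) \ {u}
  obtain ⟨A, hA, huA, hAM⟩ := exists_isAffineOpen_mem_and_subset (x := u)
    (U := (⟨(⋃ η ∈ M, closure {η})ᶜ, (hfin.sdiff.isClosed_biUnion fun _ _ => isClosed_closure).isOpen_compl⟩ :
      U.left.Opens))
    (fun hmem => by
      obtain ⟨η, hη, huη⟩ := Set.mem_iUnion₂.1 hmem
      exact hη.2 (eq_of_specializes_of_isDecent hdec ha hη.1.symm (specializes_iff_mem_closure.2 huη)).symm)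
  refine ⟨Over.mk (A.ι ≫ U.hom), CategoryTheory.Over.homMk A.ι rfl, ⟨u, huA⟩, hA,
    inferInstanceAs (IsOpenImmersion A.ι), rfl, fun w hw => A.ι.injective ?_⟩
  by_contra hne
  rw [ofPt_comp] at hw
  exact hAM w.2 (Set.mem_iUnion₂.2 ⟨A.ι w, ⟨hw, hne⟩, subset_closure rfl⟩)

/-- A chart with an open piece of the relation which is finite and contains all loops at a point. -/
structure Piece (X : Sp S) (x : Points X) where
  /-- the chart -/
  U : Over S
  /-- the relation -/
  R : Over S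
  /-- the piece -/
  P : Over S
  /-- the map of the chart -/
  a : (yon S).obj U ⟶ X
  /-- the target -/
  t : R ⟶ U
  /-- the source -/
  s : R ⟶ U
  /-- the inclusion of the piece -/
  j : P ⟶ R
  /-- the point -/
  u : ↥U.left
  affU : IsAffine U.left
  etale : RepWith @Etale a
  hu : Points.ofPt a u = x
  sq : IsPullback ((yon S).map t) ((yon S).map s) a a
  openj : IsOpenImmersion j.left
  fin : IsFinite (j ≫ s).left
  eqv : IsEqvRel (j ≫ s) (j ≫ t)
  loops : ∀ r : ↥R.left, t.left r = u → s.left r = u → r ∈ Set.range j.left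

theorem exists_piece (hX : IsAlgSpace X) (hdec : IsDecent X) (x : Points X) : Nonempty (Piece X x) := by
  obtain ⟨U₁, a₁, u₁, hU₁, ha₁, rfl⟩ := exists_affine_chart_at hX x
  haveI : IsAffine U₁.left := hU₁
  let R₁ := ha₁.rep.pullback a₁
  let s₁ : R₁ ⟶ U₁ := ha₁.rep.snd a₁
  let t₁ : R₁ ⟶ U₁ := ha₁.rep.fst' a₁
  have sq₁ : IsPullback ((yon S).map t₁) ((yon S).map s₁) a₁ a₁ := ha₁.rep.isPullback' a₁
  haveI hse : Etale s₁.left := ha₁.property_snd a₁
  haveI hssep : IsSeparated s₁.left := isSeparated_snd_of_isAffine ha₁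
  have hfin : (s₁.left ⁻¹' {u₁}).Finite := by
    obtain ⟨p, hp, hm, hq⟩ := hdec (Points.ofPt a₁ u₁)
    exact finite_preimage_snd_of_qc ha₁ u₁ (repWith_qc_of_mono_rep hX p _ hq hp.symm)
  obtain ⟨G, hGU, hGR, hGs, hGt, hGpU, hGpR⟩ := exists_groupoid_over sq₁
  obtain ⟨GU, GR, pU, pR, gs, gt, ge, gi, gc, h1, h2, h3, h4, h5, h6, h7, h8, h9, h10, h11, h12, h13⟩ := G
  subst hGU hGR
  obtain rfl : gs = s₁.left := eq_of_heq hGs
  obtain rfl : gt = t₁.left := eq_of_heq hGt
  obtain rfl : pU = U₁.hom := eq_of_heq hGpU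
  obtain rfl : pR = R₁.hom := eq_of_heq hGpR
  let G : GroupoidScheme S :=
    ⟨_, _, U₁.hom, R₁.hom, _, _, ge, gi, gc, h1, h2, h3, h4, h5, h6, h7, h8, h9, h10, h11, h12, h13⟩
  haveI : IsAffine G.U := hU₁
  haveI : IsSeparated G.s := hssep
  haveI : Etale G.s := hse
  haveI : Flat G.s := inferInstance
  haveI : LocallyOfFinitePresentation G.s := inferInstance
  haveI : LocallyQuasiFinite G.s := AlgSpLib.locallyQuasiFinite_of_formallyUnramified G.s
  let Sg : Set G.R := {r | G.s r = u₁ ∧ G.t r = u₁}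
  obtain ⟨G', φ, u', hG'aff, hφe, hφu, -, hsq, P, ιP, hιP, ⟨eP, heP⟩, ⟨iP, hiP⟩, ⟨cP, hcP⟩, hfinP, -, hloops⟩ :=
    GrpdSplit.exists_split (G := G) u₁ Sg (hfin.subset fun r hr => hr.1) (fun r hr => hr)
      (fun r _ => G.s.quasiFiniteAt r)
      ⟨by rw [← Scheme.Hom.comp_apply, G.e_s]; rfl, by rw [← Scheme.Hom.comp_apply, G.e_t]; rfl⟩
      (fun w hw => by
        have hs : G.s (G.c w) = u₁ := by
          rw [← Scheme.Hom.comp_apply, GrpdSplit.c_s', Scheme.Hom.comp_apply]; exact hw.1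
        have ht : G.t (G.c w) = G.t (pullback.fst G.s G.t w) := by
          rw [← Scheme.Hom.comp_apply, GrpdSplit.c_t', Scheme.Hom.comp_apply]
        have hf : G.s (pullback.fst G.s G.t w) = u₁ := by
          rw [← Scheme.Hom.comp_apply, pullback.condition, Scheme.Hom.comp_apply]; exact hw.2
        exact ⟨fun h => ⟨hs, ht.trans h.2⟩, fun h => ⟨hf, ht ▸ h.2⟩⟩)
  -- the new chart
  let U : Over S := Over.mk G'.pU
  let φU : U ⟶ U₁ := CategoryTheory.Over.homMk φ.fU φ.fU_over
  let a : (yon S).obj U ⟶ X := (yon S).map φU ≫ a₁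
  have ha : RepWith @Etale a := repWith_comp ((repWith_yon_map_iff _ φU).2 hφe) ha₁
  let R := ha.rep.pullback a
  let t : R ⟶ U := ha.rep.fst' a
  let s : R ⟶ U := ha.rep.snd a
  have sq : IsPullback ((yon S).map t) ((yon S).map s) a a := ha.rep.isPullback' a
  let R' : Over S := Over.mk G'.pR
  let t' : R' ⟶ U := CategoryTheory.Over.homMk G'.t G'.t_over
  let s' : R' ⟶ U := CategoryTheory.Over.homMk G'.s G'.s_over
  let φR : R' ⟶ R₁ := CategoryTheory.Over.homMk φ.fR (by
    change φ.fR ≫ R₁.hom = G'.pR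
    rw [← Over.w s₁, ← Category.assoc]
    erw [φ.comm_s]
    rw [Category.assoc]
    exact (congrArg (G'.s ≫ ·) φ.fU_over).trans G'.s_over)
  have hφt : φR ≫ t₁ = t' ≫ φU := Over.OverMorphism.ext φ.comm_t
  have hφs : φR ≫ s₁ = s' ≫ φU := Over.OverMorphism.ext φ.comm_s
  obtain ⟨θ, hθt, hθs⟩ := exists_rel_lift sq t' s' (by
    simp only [a, ← Functor.map_comp_assoc]
    rw [← hφt, ← hφs, Functor.map_comp, Functor.map_comp, Category.assoc, Category.assoc, sq₁.w])
  obtain ⟨r₀, hr₀t, hr₀s⟩ := exists_rel_lift sq₁ (t ≫ φU) (s ≫ φU) (by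
    rw [Functor.map_comp, Functor.map_comp, Category.assoc, Category.assoc]
    exact sq.w)
  have hrt : r₀.left ≫ G.t = t.left ≫ φ.fU := congrArg CommaMorphism.left hr₀t
  have hrs : r₀.left ≫ G.s = s.left ≫ φ.fU := congrArg CommaMorphism.left hr₀s
  obtain ⟨η, hη₁, hη₂⟩ := hsq.exists_lift r₀.left
    (pullback.lift t.left s.left ((Over.w t).trans (Over.w s).symm)) (by
      apply pullback.hom_ext
      · simp only [GroupoidScheme.j, Category.assoc, pullback.lift_fst, pullback.lift_fst_assoc]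
        exact hrt
      · simp only [GroupoidScheme.j, Category.assoc, pullback.lift_snd, pullback.lift_snd_assoc]
        exact hrs)
  have hηt : η ≫ G'.t = t.left := by
    have := congrArg (· ≫ pullback.fst G'.pU G'.pU) hη₂
    simpa [GroupoidScheme.j] using this
  have hηs : η ≫ G'.s = s.left := by
    have := congrArg (· ≫ pullback.snd G'.pU G'.pU) hη₂
    simpa [GroupoidScheme.j] using this
  have hθη : θ.left ≫ η = 𝟙 G'.R := by
    refine hsq.hom_ext ?_ (pullback.hom_ext ?_ ?_)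
    · refine rel_ext sq₁ ?_ ?_
      · simp only [Category.assoc, Category.id_comp, reassoc_of% hη₁]
        rw [show r₀.left ≫ t₁.left = t.left ≫ φ.fU from hrt, show φ.fR ≫ t₁.left = G'.t ≫ φ.fU from φ.comm_t,
          ← Category.assoc, show θ.left ≫ t.left = G'.t from congrArg CommaMorphism.left hθt]
        exact (Category.id_comp _).symm
      · simp only [Category.assoc, Category.id_comp, reassoc_of% hη₁]
        rw [show r₀.left ≫ s₁.left = s.left ≫ φ.fU from hrs, show φ.fR ≫ s₁.left = G'.s ≫ φ.fU from φ.comm_s,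
          ← Category.assoc, show θ.left ≫ s.left = G'.s from congrArg CommaMorphism.left hθs]
        exact (Category.id_comp _).symm
    · simp only [GroupoidScheme.j, Category.assoc, Category.id_comp, pullback.lift_fst]
      rw [hηt]; exact congrArg CommaMorphism.left hθt
    · simp only [GroupoidScheme.j, Category.assoc, Category.id_comp, pullback.lift_snd]
      rw [hηs]; exact congrArg CommaMorphism.left hθs
  have hηθ : η ≫ θ.left = 𝟙 R.left := rel_ext sq
    (by rw [Category.assoc, show θ.left ≫ t.left = G'.t from congrArg CommaMorphism.left hθt, hηt, Category.id_comp])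
    (by rw [Category.assoc, show θ.left ≫ s.left = G'.s from congrArg CommaMorphism.left hθs, hηs, Category.id_comp])
  haveI : IsIso θ.left := ⟨η, hθη, hηθ⟩
  -- the piece
  haveI : IsOpenImmersion ιP := hιP
  let P' : Over S := Over.mk (ιP ≫ G'.pR)
  let ι : P' ⟶ R' := CategoryTheory.Over.homMk ιP rfl
  let j : P' ⟶ R := ι ≫ θ
  haveI hjo : IsOpenImmersion j.left := inferInstanceAs (IsOpenImmersion (ιP ≫ θ.left))
  haveI : Mono j := (Over.forget S).mono_of_mono_map (inferInstanceAs (Mono j.left))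
  have hjt : j ≫ t = ι ≫ t' := by rw [Category.assoc, hθt]
  have hjs : j ≫ s = ι ≫ s' := by rw [Category.assoc, hθs]
  let e₀ : U ⟶ P' := CategoryTheory.Over.homMk eP (by
    change eP ≫ ιP ≫ G'.pR = G'.pU
    rw [reassoc_of% heP, ← G'.s_over, reassoc_of% G'.e_s])
  let i₀ : P' ⟶ P' := CategoryTheory.Over.homMk iP (by
    change iP ≫ ιP ≫ G'.pR = ιP ≫ G'.pR
    rw [reassoc_of% hiP, ← G'.s_over, reassoc_of% G'.i_s, G'.t_over, G'.s_over])
  have hie : e₀ ≫ ι ≫ t' = 𝟙 U ∧ e₀ ≫ ι ≫ s' = 𝟙 U :=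
    ⟨Over.OverMorphism.ext (by
      change eP ≫ ιP ≫ G'.t = 𝟙 G'.U
      rw [reassoc_of% heP, G'.e_t]), Over.OverMorphism.ext (by
      change eP ≫ ιP ≫ G'.s = 𝟙 G'.U
      rw [reassoc_of% heP, G'.e_s])⟩
  have hii : i₀ ≫ ι ≫ t' = ι ≫ s' ∧ i₀ ≫ ι ≫ s' = ι ≫ t' :=
    ⟨Over.OverMorphism.ext (by
      change iP ≫ ιP ≫ G'.t = ιP ≫ G'.s
      rw [reassoc_of% hiP, G'.i_t]), Over.OverMorphism.ext (by
      change iP ≫ ιP ≫ G'.s = ιP ≫ G'.t
      rw [reassoc_of% hiP, G'.i_s])⟩
  have heqv : IsEqvRel (j ≫ s) (j ≫ t) := by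
    refine ⟨fun T r r' h1 h2 => (cancel_mono j).1 ((yon S).map_injective (sq.hom_ext ?_ ?_)),
      fun T => ⟨fun w => ?_, ?_, ?_⟩⟩
    · rw [← Functor.map_comp, ← Functor.map_comp]
      exact congrArg _ ((Category.assoc _ _ _).trans (h1.trans (Category.assoc _ _ _).symm))
    · rw [← Functor.map_comp, ← Functor.map_comp]
      exact congrArg _ ((Category.assoc _ _ _).trans (h2.trans (Category.assoc _ _ _).symm))
    · refine ⟨w ≫ e₀, ?_, ?_⟩
      · rw [hjt, Category.assoc, hie.1, Category.comp_id]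
      · rw [hjs, Category.assoc, hie.2, Category.comp_id]
    · rintro v w ⟨r, rfl, rfl⟩
      refine ⟨r ≫ i₀, ?_, ?_⟩
      · rw [hjt, hjs, Category.assoc, hii.1]
      · rw [hjt, hjs, Category.assoc, hii.2]
    · rintro v w z ⟨r, rfl, hrw⟩ ⟨r', hrw', rfl⟩
      have hw : (r ≫ ι ≫ s').left = (r' ≫ ι ≫ t').left := by rw [← hjs, ← hjt, hrw, hrw']
      let l : T.left ⟶ pullback (ιP ≫ G'.s) (ιP ≫ G'.t) := pullback.lift r.left r'.left hw
      have hlc : (l ≫ cP) ≫ ιP =
          pullback.lift (r.left ≫ ιP) (r'.left ≫ ιP) (by simpa [ι, s', t'] using hw) ≫ G'.c := by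
        rw [Category.assoc, hcP, ← Category.assoc]
        congr 1
        apply pullback.hom_ext <;> simp [l]
      let rr : T ⟶ P' := CategoryTheory.Over.homMk (l ≫ cP) (by
        change (l ≫ cP) ≫ ιP ≫ G'.pR = T.hom
        rw [← Category.assoc _ ιP, hlc, ← G'.s_over, ← Category.assoc, G'.comp_s, Category.assoc, Category.assoc,
          G'.s_over]
        exact Over.w r')
      refine ⟨rr, ?_, ?_⟩
      · rw [hjt]
        refine Over.OverMorphism.ext ?_
        change (l ≫ cP) ≫ ιP ≫ G'.t = r.left ≫ ιP ≫ G'.t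
        rw [← Category.assoc _ ιP, hlc, G'.comp_t, Category.assoc]
      · rw [hjs]
        refine Over.OverMorphism.ext ?_
        change (l ≫ cP) ≫ ιP ≫ G'.s = r'.left ≫ ιP ≫ G'.s
        rw [← Category.assoc _ ιP, hlc, G'.comp_s, Category.assoc]
  refine ⟨⟨U, R, P', a, t, s, j, u', hG'aff, ha, ?_, sq, hjo, ?_, heqv, fun r hrt' hrs' => ?_⟩⟩
  · rw [ofPt_comp]
    exact congrArg _ hφu
  · rw [hjs]
    exact hfinP
  · obtain ⟨p, hp⟩ := hloops (η r) (by rw [← Scheme.Hom.comp_apply, hηs]; exact hrs')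
      (by rw [← Scheme.Hom.comp_apply, hηt]; exact hrt')
      ⟨by rw [show φ.fR (η r) = r₀.left r by rw [← Scheme.Hom.comp_apply, hη₁],
            ← Scheme.Hom.comp_apply, hrs, Scheme.Hom.comp_apply, hrs']; exact hφu,
       by rw [show φ.fR (η r) = r₀.left r by rw [← Scheme.Hom.comp_apply, hη₁],
            ← Scheme.Hom.comp_apply, hrt, Scheme.Hom.comp_apply, hrt']; exact hφu⟩
    refine ⟨p, ?_⟩
    show θ.left (ιP p) = r
    rw [hp]
    exact (Scheme.Hom.comp_apply η θ.left r).symm.trans (by rw [hηθ]; rfl)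

theorem exists_elem_nbhd (hX : IsAlgSpace X) (hdec : IsDecent X) (x : Points X) :
    ∃ (U : Over S) (a : (yon S).obj U ⟶ X) (u : ↥U.left), IsAffine U.left ∧ RepWith @Etale a ∧
      Points.ofPt a u = x ∧ Mono (FieldPt.ofPt a u).toHom ∧ Points.ofPt a ⁻¹' {x} = {u} := by
  obtain ⟨D⟩ := exists_piece hX hdec x
  haveI : IsAffine D.U.left := D.affU
  haveI : IsOpenImmersion D.j.left := D.openj
  haveI hse : Etale D.s.left := D.etale.property _ _ _ D.sq
  haveI hte : Etale D.t.left := D.etale.property _ _ _ D.sq.flip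
  let tP := D.j ≫ D.t
  let sP := D.j ≫ D.s
  haveI : Etale sP.left := inferInstanceAs (Etale (D.j.left ≫ D.s.left))
  haveI : IsFinite sP.left := D.fin
  haveI : Flat sP.left := inferInstance
  haveI : LocallyOfFinitePresentation sP.left := inferInstance
  obtain ⟨G, aG, sqG, hls⟩ : ∃ (G : Sp S) (a : (yon S).obj D.U ⟶ G),
      IsPullback ((yon S).map tP) ((yon S).map sP) a a ∧ Sheaf.IsLocallySurjective a := by
    refine ⟨_, quotMap sP tP, isPullback_quotMap D.eqv, ?_⟩
    have : Epi (QuotSh.quotπ Scheme.fppfPrecoverage sP tP) := by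
      unfold QuotSh.quotπ
      infer_instance
    exact (CategoryTheory.Sheaf.isLocallySurjective_iff_epi (quotMap sP tP)).2 (epi_comp _ _)
  obtain ⟨g, hg⟩ := exists_desc_of_kernelPair sqG D.a (by
    simp only [tP, sP, Functor.map_comp, Category.assoc]
    exact congrArg ((yon S).map D.j ≫ ·) D.sq.w)
  obtain ⟨W, q, m₀, hWa, hq, hm₀, hqm⟩ := exists_quot_of_finite_relation sqG
  let m := m₀ ≫ g
  have hqc : (yon S).map q ≫ m = D.a := by rw [← Category.assoc, hqm, hg]
  have hqq : IsPullback tP sP q q := by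
    have hw : tP ≫ q = sP ≫ q := (yon S).map_injective ((cancel_mono m₀).1 (by
      simp only [Functor.map_comp, Category.assoc, hqm]
      simpa [tP, sP] using sqG.w))
    refine IsPullback.of_map (yon S) hw ⟨⟨by rw [← Functor.map_comp, ← Functor.map_comp, hw]⟩,
      ⟨PullbackCone.isLimitAux' _ fun c => ?_⟩⟩
    refine ⟨sqG.lift c.fst c.snd (by rw [← hqm, reassoc_of% c.condition]), sqG.lift_fst _ _ _,
      sqG.lift_snd _ _ _, fun {x} h1 h2 => sqG.hom_ext (h1.trans (sqG.lift_fst _ _ _).symm)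
        (h2.trans (sqG.lift_snd _ _ _).symm)⟩
  have hm : Representable m := representable_from_yon' hX _
  have sqR : IsPullback ((yon S).map D.t) ((yon S).map D.s) ((yon S).map q ≫ m) ((yon S).map q ≫ m) := by
    rw [hqc]; exact D.sq
  have hdiag : RepWith @IsOpenImmersion (pullback.diagonal m) := repWith_openImm_diagonal hm hq sqR (j := D.j) hqq
  have hme : RepWith @Etale m := repWith_etale_of_cover hm hq
    (by rw [hqc]; exact repWith_mono (fun _ _ e (_ : Etale e) => (inferInstance : Flat e)) _ D.etale)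
    (by rw [hqc]; exact repWith_mono (fun _ _ e (_ : Etale e) => (inferInstance : LocallyOfFinitePresentation e)) _ D.etale)
    hdiag
  haveI : IsAffine W.left := hWa
  let w₀ := q.left D.u
  have hw₀ : Points.ofPt m w₀ = x := by rw [← ofPt_comp, hqc, D.hu]
  -- every pair over the point is diagonal
  let M := hm.pullback m
  let aM : M ⟶ W := hm.fst' m
  let bM : M ⟶ W := hm.snd m
  have sqM : IsPullback ((yon S).map aM) ((yon S).map bM) m m := hm.isPullback' m
  obtain ⟨δ, hδa, hδb⟩ := exists_rel_lift sqM (𝟙 W) (𝟙 W) rfl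
  haveI : IsOpenImmersion δ.left := by
    haveI : Etale bM.left := hme.property _ _ _ sqM
    haveI : Etale (δ.left ≫ bM.left) := by rw [← Over.comp_left, hδb]; exact inferInstanceAs (Etale (𝟙 W.left))
    haveI : Etale δ.left := Etale.of_comp δ.left bM.left
    haveI : Mono (δ.left ≫ bM.left) := by rw [← Over.comp_left, hδb]; exact inferInstanceAs (Mono (𝟙 W.left))
    haveI : Mono δ.left := mono_of_mono δ.left bM.left
    exact IsOpenImmersion.of_flat_of_mono _
  have key : ∀ μ : ↥M.left, aM.left μ = w₀ → bM.left μ = w₀ → μ ∈ Set.range δ.left := by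
    intro μ hμa hμb
    let N₁ : Over S := pullback bM q
    obtain ⟨ξ, hξ1, hξ2⟩ : ∃ ξ : N₁.left, (pullback.fst bM q).left ξ = μ ∧ (pullback.snd bM q).left ξ = D.u :=
      Scheme.exists_preimage_of_isPullback ((IsPullback.of_hasPullback bM q).map (Over.forget S)) μ D.u hμb
    let f₁ : N₁ ⟶ M := pullback.fst bM q
    let N₂ : Over S := pullback (f₁ ≫ aM) q
    obtain ⟨ζ, hζ1, hζ2⟩ : ∃ ζ : N₂.left, (pullback.fst (f₁ ≫ aM) q).left ζ = ξ ∧
        (pullback.snd (f₁ ≫ aM) q).left ζ = D.u :=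
      Scheme.exists_preimage_of_isPullback ((IsPullback.of_hasPullback (f₁ ≫ aM) q).map (Over.forget S)) ξ D.u (by
        show (f₁ ≫ aM).left ξ = q.left D.u
        rw [Over.comp_left, Scheme.Hom.comp_apply, hξ1, hμa])
    let f₂ : N₂ ⟶ N₁ := pullback.fst (f₁ ≫ aM) q
    let c₁ : N₂ ⟶ D.U := pullback.snd (f₁ ≫ aM) q
    let c₂ : N₂ ⟶ D.U := f₂ ≫ pullback.snd bM q
    have hc₁ : c₁ ≫ q = f₂ ≫ f₁ ≫ aM := pullback.condition.symm
    have hc₂ : c₂ ≫ q = f₂ ≫ f₁ ≫ bM := by rw [Category.assoc, ← pullback.condition]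
    obtain ⟨ψ, hψt, hψs⟩ := exists_rel_lift sqR c₁ c₂ (by
      rw [← Functor.map_comp_assoc, ← Functor.map_comp_assoc, hc₁, hc₂]
      simp only [Functor.map_comp, Category.assoc]
      rw [sqM.w])
    obtain ⟨ρ, hρa, hρb⟩ := exists_rel_lift sqM (D.t ≫ q) (D.s ≫ q) (by
      rw [Functor.map_comp, Functor.map_comp, Category.assoc, Category.assoc, sqR.w])
    have hψρ : ψ ≫ ρ = f₂ ≫ f₁ := (yon S).map_injective (sqM.hom_ext
      (by rw [← Functor.map_comp, ← Functor.map_comp, Category.assoc, hρa, reassoc_of% hψt, hc₁, Category.assoc])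
      (by rw [← Functor.map_comp, ← Functor.map_comp, Category.assoc, hρb, reassoc_of% hψs, hc₂, Category.assoc]))
    have hjρ : D.j ≫ ρ = (tP ≫ q) ≫ δ := (yon S).map_injective (sqM.hom_ext
      (by rw [← Functor.map_comp, ← Functor.map_comp, Category.assoc, hρa, Category.assoc, hδa, Category.comp_id,
        Category.assoc])
      (by rw [← Functor.map_comp, ← Functor.map_comp, Category.assoc, hρb, Category.assoc, hδb, Category.comp_id,
        hqq.w, Category.assoc]))
    obtain ⟨p, hp⟩ := D.loops (ψ.left ζ)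
      (by rw [← Scheme.Hom.comp_apply, ← Over.comp_left, hψt]; exact hζ2)
      (by rw [← Scheme.Hom.comp_apply, ← Over.comp_left, hψs, Over.comp_left, Scheme.Hom.comp_apply]
          show (pullback.snd bM q).left (f₂.left ζ) = D.u
          rw [show f₂.left ζ = ξ from hζ1, hξ2])
    refine ⟨(tP ≫ q).left p, ?_⟩
    rw [← Scheme.Hom.comp_apply, ← Over.comp_left, ← hjρ, Over.comp_left, Scheme.Hom.comp_apply, hp,
      ← Scheme.Hom.comp_apply, ← Over.comp_left, hψρ, Over.comp_left, Scheme.Hom.comp_apply,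
      show f₂.left ζ = ξ from hζ1]
    exact hξ1
  obtain ⟨V, ι, v, hV, hι, hιv, huniq⟩ := exists_chart_single hdec hme w₀
  haveI := hι
  let b := (yon S).map ι ≫ m
  have hb : RepWith @Etale b := repWith_comp ((repWith_yon_map_iff _ ι).2 (inferInstanceAs (Etale ι.left))) hme
  have hbv : Points.ofPt b v = x := by rw [ofPt_comp, hιv, hw₀]
  refine ⟨V, b, v, hV, hb, hbv, ?_, ?_⟩
  · let p := FieldPt.ofPt b v
    let jv : p.pt ⟶ V := CategoryTheory.Over.homMk (V.left.fromSpecResidueField v) rfl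
    have hp : p.toHom = (yon S).map (jv ≫ ι) ≫ m := by
      rw [FieldPt.toHom_ofPt, Functor.map_comp, Category.assoc]
    haveI : Mono (jv ≫ ι) := by
      haveI : Mono ((Over.forget S).map (jv ≫ ι)) :=
        inferInstanceAs (Mono (V.left.fromSpecResidueField v ≫ ι.left))
      exact (Over.forget S).mono_of_mono_map this
    have hr : Representable p.toHom := representable_from_yon' hX _
    let k₁ := hr.fst' p.toHom
    let k₂ := hr.snd p.toHom
    have sqK : IsPullback ((yon S).map k₁) ((yon S).map k₂) p.toHom p.toHom := hr.isPullback' p.toHom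
    obtain ⟨L, hLa, hLb⟩ := exists_rel_lift sqM (k₁ ≫ jv ≫ ι) (k₂ ≫ jv ≫ ι) (by
      erw [Functor.map_comp, Functor.map_comp]
      simp only [Category.assoc]
      exact (congrArg _ hp.symm).trans (sqK.w.trans (congrArg _ hp)))
    have hrange : Set.range L.left ⊆ Set.range δ.left := by
      have hpt : ∀ (K : Over S) (k : K ⟶ p.pt) (z : ↥K.left), (k ≫ jv ≫ ι).left z = w₀ := fun K k z => by
        rw [Over.comp_left, Over.comp_left, Scheme.Hom.comp_apply, Scheme.Hom.comp_apply,
          show jv.left (k.left z) = v from Scheme.fromSpecResidueField_apply _ _, hιv]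
      rintro _ ⟨z, rfl⟩
      refine key _ ?_ ?_
      · rw [← Scheme.Hom.comp_apply, ← Over.comp_left, hLa]; exact hpt _ _ z
      · rw [← Scheme.Hom.comp_apply, ← Over.comp_left, hLb]; exact hpt _ _ z
    let l := IsOpenImmersion.lift δ.left L.left hrange
    have hl : l ≫ δ.left = L.left := IsOpenImmersion.lift_fac _ _ _
    have hk : k₁ = k₂ := by
      refine (cancel_mono (jv ≫ ι)).1 (Over.OverMorphism.ext ?_)
      rw [← hLa, ← hLb, Over.comp_left, Over.comp_left, ← hl, Category.assoc, Category.assoc,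
        ← Over.comp_left, hδa, ← Over.comp_left, hδb]
    refine ⟨fun g₁ g₂ h => ?_⟩
    exact (sqK.lift_fst g₁ g₂ h).symm.trans ((congrArg (sqK.lift g₁ g₂ h ≫ (yon S).map ·) hk).trans (sqK.lift_snd g₁ g₂ h))
  · refine Set.Subset.antisymm (fun w hw => huniq w ?_) (by rintro _ rfl; exact hbv)
    exact (show Points.ofPt b w = x from hw).trans hw₀.symm

end Groth.Agent.AlgSpOne.ElemNbhd
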