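import Groth.Agent.AlgSpDec.PointLocusInst
import Groth.Agent.AlgSpDec.FieldFibre
import Groth.Agent.AlgSpDec.CodimZero
import Groth.Agent.AlgSpPts.Dim
import Groth.Agent.FibDim.Top

/-!
# Quasi-finiteness over points of codimension zero
-/

set_option autoImplicit false
set_option backward.isDefEq.respectTransparency false
set_option backward.isDefEq.respectTransparency.types false

universe u

open CategoryTheory Limits Opposite AlgebraicGeometry AlgSp Groth.Agent.AlgSpLib Groth.Agent.AlgSpPts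
  Groth.Agent.AlgSpDec Groth.Agent.AlgSpDec.PointLocus TopologicalSpace Order

namespace Groth.Agent.AlgSpOne

variable {S : Scheme.{u}} {X Y : Sp S}

/-- The local form of quasi-finiteness at a point used in the statements. -/
abbrev IsQfAt {F G : Sp S} (f : F ⟶ G) (x : Points F) : Prop :=
  HasAtMor (fun U _ h u => ∃ W : U.Opens, u ∈ W ∧ LocallyQuasiFinite (W.ι ≫ h) ∧
    LocallyOfFiniteType (W.ι ≫ h)) f x

theorem qfAt_iff_fibreDimAt {U V : Scheme.{u}} (h : U ⟶ V) [LocallyOfFiniteType h] (u : ↥U) :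
    (∃ W : U.Opens, u ∈ W ∧ LocallyQuasiFinite (W.ι ≫ h) ∧ LocallyOfFiniteType (W.ι ≫ h)) ↔
      FlatMor.fibreDimAt h u = 0 := by
  constructor
  · rintro ⟨W, hu, hl, -⟩
    have := fibreDimAt_eq_zero_of_lqf (W.ι ≫ h) (⟨u, hu⟩ : ↥(W : Scheme.{u}))
    rw [fibreDimAt_etale_comp] at this
    exact this
  · intro h0
    let W : U.Opens := ⟨{x | FlatMor.fibreDimAt h x = 0}, ptProp_lqf.isOpen h⟩
    refine ⟨W, h0, (lqf_iff_fibreDimAt (W.ι ≫ h)).2 fun z => ?_, inferInstance⟩
    rw [fibreDimAt_etale_comp]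
    exact z.2

theorem isQfAt_iff {f : X ⟶ Y} (hf : LocP @LocallyOfFiniteType f) (x : Points X) :
    IsQfAt f x ↔ At (fun {_ _} h u => FlatMor.fibreDimAt h u = 0) f x := by
  constructor
  · rintro ⟨U, V, a, b, h, u, ha, hb, w, hx, hQ⟩
    haveI : LocallyOfFiniteType h.left := hf a b h ha hb w
    exact ⟨U, V, a, b, h, u, ha, hb, w, hx, (qfAt_iff_fibreDimAt h.left u).1 hQ⟩
  · rintro ⟨U, V, a, b, h, u, ha, hb, w, hx, hQ⟩
    haveI : LocallyOfFiniteType h.left := hf a b h ha hb w
    exact ⟨U, V, a, b, h, u, ha, hb, w, hx, (qfAt_iff_fibreDimAt h.left u).2 hQ⟩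

theorem isQfAt_iff_chart {f : X ⟶ Y} (hf : LocP @LocallyOfFiniteType f) {U V : Over S}
    {a : (yon S).obj U ⟶ X} {b : (yon S).obj V ⟶ Y} {h : U ⟶ V} (ha : RepWith @Etale a)
    (hb : RepWith @Etale b) (w : a ≫ f = (yon S).map h ≫ b) (u : ↥U.left) :
    IsQfAt f (Points.ofPt a u) ↔ FlatMor.fibreDimAt h.left u = 0 :=
  (isQfAt_iff hf _).trans (at_iff_chart ptProp_lqf hf ha hb w u)

theorem hasAt_codimZero_iff {U : Over S} {a : (yon S).obj U ⟶ X} (ha : RepWith @Etale a) (u : ↥U.left) :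
    HasAt (fun U u => ringKrullDim ↥(U.presheaf.stalk u) = 0) X (Points.ofPt a u) ↔ coheight u = 0 := by
  constructor
  · rintro ⟨V, b, v, hb, hbv, hv⟩
    rw [coheight_eq_of_charts ha hb hbv.symm]
    rw [ringKrullDim_stalk_eq_coheight] at hv
    exact_mod_cast hv
  · intro h
    refine ⟨U, a, u, ha, rfl, ?_⟩
    show ringKrullDim _ = 0
    rw [ringKrullDim_stalk_eq_coheight, h]
    rfl

theorem coheight_eq_zero_of_fibreDimAt {U V : Scheme.{u}} (h : U ⟶ V) [LocallyOfFiniteType h] {u : ↥U}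
    (hv : coheight (h u) = 0) (h0 : FlatMor.fibreDimAt h u = 0) : coheight u = 0 := by
  refine coheight_eq_zero.2 fun z hz => ?_
  have hzu : z ⤳ u := Scheme.le_iff_specializes.1 hz
  have he : h z = h u := eq_of_specializes_of_coheight hv (hzu.map h.continuous)
  by_contra hne
  have := FibDim.rd_lt (f := h) hzu (fun hh => hne (hh ▸ le_refl _)) he
  rw [(FieldFibre.fibreDimAt_eq_zero_iff_rd h u).1 h0 z hzu he] at this
  exact Nat.not_lt_zero _ this

theorem coheight_eq_zero_of_qf_generic {U V : Scheme.{u}} (h : U ⟶ V) [LocallyOfFiniteType h] {u : ↥U}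
    (hv : coheight (h u) = 0)
    (hqf : ∀ η : ↥U, h η = h u → coheight η = 0 → FlatMor.fibreDimAt h η = 0) : coheight u = 0 := by
  obtain ⟨η, hη, hmax⟩ := FibDim.exists_maximal_generization u
  have hη0 : coheight η = 0 := coheight_eq_zero.2 fun z hz => by
    rw [hmax z (Scheme.le_iff_specializes.1 hz)]
  have he : h η = h u := eq_of_specializes_of_coheight hv (hη.map h.continuous)
  by_contra hne
  have := FibDim.rd_lt (f := h) hη (fun hh => hne (hh ▸ hη0)) he
  rw [(FieldFibre.fibreDimAt_eq_zero_iff_rd h η).1 (hqf η he hη0) η specializes_rfl rfl] at this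
  exact Nat.not_lt_zero _ this

theorem fibreDimAt_eq_zero_of_coheight {U V : Scheme.{u}} (h : U ⟶ V) [LocallyOfFiniteType h] {u : ↥U}
    (hall : ∀ z : ↥U, h z = h u → coheight z = 0) : FlatMor.fibreDimAt h u = 0 := by
  refine (FieldFibre.fibreDimAt_eq_zero_iff_rd h u).2 fun z _ he => ?_
  exact DimFormula.rd_eq_zero_of_closed h fun x' hx' hsp =>
    (eq_of_specializes_of_coheight (hall x' (hx'.trans he)) hsp).symm

theorem codimZero_qf_tfae (hX : IsAlgSpace X) (hY : IsAlgSpace Y) (f : X ⟶ Y)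
    (hf : LocP @LocallyOfFiniteType f) (y : Points Y)
    (hy : HasAt (fun U u => ringKrullDim ↥(U.presheaf.stalk u) = 0) Y y) :
    ((∀ x : Points X, Points.map f x = y → HasAt (fun U u => ringKrullDim ↥(U.presheaf.stalk u) = 0) X x) ↔
      (∀ x : Points X, Points.map f x = y → IsQfAt f x)) ∧
      ((∀ x : Points X, Points.map f x = y → HasAt (fun U u => ringKrullDim ↥(U.presheaf.stalk u) = 0) X x →
          IsQfAt f x) →
        ∀ x : Points X, Points.map f x = y → HasAt (fun U u => ringKrullDim ↥(U.presheaf.stalk u) = 0) X x) := by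
  obtain ⟨U, V, a, b, h, ha, ha', hb, -, w⟩ := exists_chart hX hY f
  haveI : LocallyOfFiniteType h.left := hf a b h ha hb w
  have hm : ∀ u, Points.map f (Points.ofPt a u) = Points.ofPt b (h.left u) := fun u => by
    rw [Points.map_ofPt, w, ofPt_comp]
  have hv : ∀ u, Points.map f (Points.ofPt a u) = y → coheight (h.left u) = 0 := fun u hu =>
    (hasAt_codimZero_iff hb _).1 (by rw [← hm, hu]; exact hy)
  have key : (∀ x : Points X, Points.map f x = y →
      HasAt (fun U u => ringKrullDim ↥(U.presheaf.stalk u) = 0) X x → IsQfAt f x) →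
      ∀ x : Points X, Points.map f x = y → HasAt (fun U u => ringKrullDim ↥(U.presheaf.stalk u) = 0) X x := by
    intro H x hx
    obtain ⟨u, rfl⟩ := surjective_ofPt ha' x
    rw [hasAt_codimZero_iff ha]
    refine coheight_eq_zero_of_qf_generic h.left (hv u hx) fun η hη hη0 => ?_
    refine (isQfAt_iff_chart hf ha hb w η).1 (H _ ?_ ((hasAt_codimZero_iff ha η).2 hη0))
    rw [hm, hη, ← hm, hx]
  refine ⟨⟨fun H x hx => ?_, fun H => key fun x hx _ => H x hx⟩, key⟩
  obtain ⟨u, rfl⟩ := surjective_ofPt ha' x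
  rw [isQfAt_iff_chart hf ha hb w]
  refine fibreDimAt_eq_zero_of_coheight h.left fun z hz => ?_
  exact (hasAt_codimZero_iff ha z).1 (H _ (by rw [hm, hz, ← hm, hx]))

end Groth.Agent.AlgSpOne
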