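import Groth.Agent.AlgSpOne.AbsFlat
import Mathlib.FieldTheory.IsAlgClosed.AlgebraicClosure

/-!
# Absolutely flat covers of affine schemes
-/

set_option autoImplicit false
set_option backward.isDefEq.respectTransparency false
set_option backward.isDefEq.respectTransparency.types false

universe u

open CategoryTheory CategoryTheory.Limits AlgebraicGeometry

namespace Groth.Agent.AlgSpOne

/-- An affine scheme receives a surjection from an absolutely flat affine scheme with algebraically
closed residue fields. -/
theorem exists_absFlat_cover (W : Scheme.{u}) [IsAffine W] :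
    ∃ (A : CommRingCat.{u}) (z : Spec A ⟶ W), Surjective z ∧ AbsFlat.IsAbsClosedFlat A := by
  let K : W → Type u := fun w => AlgebraicClosure (W.residueField w)
  let pr : ∀ w, CommRingCat.of (∀ w, K w) ⟶ CommRingCat.of (K w) := fun w => CommRingCat.ofHom (Pi.evalRingHom K w)
  let emb : ∀ w, W.residueField w ⟶ CommRingCat.of (K w) := fun w => CommRingCat.ofHom (algebraMap (W.residueField w) (AlgebraicClosure (W.residueField w)))
  let φ : Γ(W, ⊤) ⟶ CommRingCat.of (∀ w, K w) := CommRingCat.ofHom
    (Pi.ringHom fun w => (W.evaluation ⊤ w trivial ≫ emb w).hom)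
  let z : Spec (CommRingCat.of (∀ w, K w)) ⟶ W := Spec.map φ ≫ W.isoSpec.inv
  refine ⟨_, z, ⟨fun w => ?_⟩, AbsFlat.pi_isAbsClosedFlat K⟩
  have hw : Spec.map (pr w) ≫ z = Spec.map (emb w) ≫ W.fromSpecResidueField w := by
    have h1 : φ ≫ pr w = W.evaluation ⊤ w trivial ≫ emb w := rfl
    simp only [z]
    rw [← Category.assoc, ← Spec.map_comp, h1, Spec.map_comp, Category.assoc]
    congr 1
    simp only [Scheme.evaluation, Spec.map_comp, Category.assoc, Scheme.fromSpecResidueField]
    congr 1
    rw [← IsAffineOpen.fromSpecStalk_eq_fromSpecStalk (isAffineOpen_top W) (x := w) trivial,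
      IsAffineOpen.fromSpecStalk, IsAffineOpen.fromSpec_top]
  refine ⟨Spec.map (pr w) (IsLocalRing.closedPoint (K w)), ?_⟩
  rw [← Scheme.Hom.comp_apply, hw, Scheme.Hom.comp_apply, Scheme.fromSpecResidueField_apply]

end Groth.Agent.AlgSpOne
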