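import Mathlib.AlgebraicGeometry.ResidueField
import Mathlib.AlgebraicGeometry.Morphisms.QuasiFinite
import Mathlib.AlgebraicGeometry.Morphisms.QuasiSeparated
import Mathlib.AlgebraicGeometry.Morphisms.QuasiCompact
import Mathlib.FieldTheory.IsAlgClosed.Basic
import Mathlib.Algebra.Polynomial.Lifts
import Groth.Agent.AlgSpDec.ResTrdeg

/-!
# Absolutely flat rings with algebraically closed residue fields
-/

set_option autoImplicit false
set_option backward.isDefEq.respectTransparency false
set_option backward.isDefEq.respectTransparency.types false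

universe u v

open CategoryTheory CategoryTheory.Limits AlgebraicGeometry TopologicalSpace

namespace Groth.Agent.AlgSpOne.AbsFlat

/-- A regular ring in which every monic polynomial has a root. -/
structure IsAbsClosedFlat (R : Type u) [CommRing R] : Prop where
  reg : ∀ a : R, ∃ x, a * a * x = a
  root : ∀ p : Polynomial R, p.Monic → p.natDegree ≠ 0 → ∃ r, p.eval r = 0

theorem pi_isAbsClosedFlat {ι : Type v} (K : ι → Type u) [∀ i, Field (K i)] [∀ i, IsAlgClosed (K i)] :
    IsAbsClosedFlat (∀ i, K i) := by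
  refine ⟨fun a => ⟨fun i => (a i)⁻¹, funext fun i => ?_⟩, fun p hp hd => ?_⟩
  · by_cases h : a i = 0
    · simp [h]
    · simp [mul_assoc, mul_inv_cancel₀ h]
  · have hdeg : ∀ i, (p.map (Pi.evalRingHom K i)).degree ≠ 0 := fun i => by
      rw [Polynomial.degree_eq_natDegree ((hp.map _).ne_zero), hp.natDegree_map]
      exact_mod_cast hd
    choose r hr using fun i => IsAlgClosed.exists_root (p.map (Pi.evalRingHom K i)) (hdeg i)
    refine ⟨r, funext fun i => ?_⟩
    have h := Polynomial.hom_eval₂ p (RingHom.id _) (Pi.evalRingHom K i) r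
    rw [RingHom.comp_id] at h
    exact h.trans (((Polynomial.eval_map _ _).symm).trans (hr i))

variable {R : CommRingCat.{u}}

theorem eq_of_specializes_spec (h : IsAbsClosedFlat R) {z z' : Spec R} (hz : z ⤳ z') : z = z' := by
  have hle : z.asIdeal ≤ z'.asIdeal := (PrimeSpectrum.le_iff_specializes z z').2 hz
  refine PrimeSpectrum.ext (le_antisymm hle fun a ha => ?_)
  obtain ⟨x, hx⟩ := h.reg a
  have h0 : a * (a * x - 1) = 0 := by linear_combination hx
  rcases z.isPrime.mem_or_mem (show a * (a * x - 1) ∈ z.asIdeal from h0 ▸ z.asIdeal.zero_mem) with h' | h'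
  · exact h'
  · refine absurd ?_ z'.isPrime.ne_top
    rw [Ideal.eq_top_iff_one, show (1 : R) = a * x - (a * x - 1) by ring]
    exact z'.asIdeal.sub_mem (z'.asIdeal.mul_mem_right _ ha) (hle h')

theorem isAlgClosed_residueField_spec (h : IsAbsClosedFlat R) (z : Spec R) :
    IsAlgClosed ((Spec R).residueField z) := by
  let ev : R →+* (Spec R).residueField z :=
    ((Scheme.ΓSpecIso R).inv ≫ (Spec R).evaluation ⊤ z trivial).hom
  have hev : Function.Surjective ev := by
    intro x
    obtain ⟨s, rfl⟩ := Scheme.residue_surjective _ z x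
    let _ := (Spec R).presheaf.algebra_section_stalk (⟨z, trivial⟩ : (⊤ : (Spec R).Opens))
    have := (isAffineOpen_top (Spec R)).isLocalization_stalk ⟨z, trivial⟩
    obtain ⟨⟨a, b⟩, hab⟩ := IsLocalization.surj
      ((isAffineOpen_top (Spec R)).primeIdealOf ⟨z, trivial⟩).asIdeal.primeCompl s
    obtain ⟨a, rfl⟩ := (ConcreteCategory.bijective_of_isIso (Scheme.ΓSpecIso R).inv).2 a
    obtain ⟨b', hb'⟩ := (ConcreteCategory.bijective_of_isIso (Scheme.ΓSpecIso R).inv).2 b.1
    obtain ⟨y, hy⟩ := h.reg b'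
    have hbne : ev b' ≠ 0 := by
      change ((Spec R).residue z).hom ((Spec R).presheaf.germ ⊤ z trivial ((Scheme.ΓSpecIso R).inv b')) ≠ 0
      rw [hb']
      exact ((IsLocalization.map_units _ b).map ((Spec R).residue z).hom).ne_zero
    refine ⟨a * y, ?_⟩
    have hby : ev b' * ev y = 1 := by
      have := congrArg ev hy
      rw [map_mul, map_mul, mul_assoc] at this
      exact mul_left_cancel₀ hbne (this.trans (mul_one _).symm)
    have hs : ((Spec R).residue z).hom s * ev b' = ev a := by
      change _ * ((Spec R).residue z).hom ((Spec R).presheaf.germ ⊤ z trivial ((Scheme.ΓSpecIso R).inv b')) = _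
      rw [hb', ← map_mul]
      exact congrArg ((Spec R).residue z).hom hab
    rw [map_mul, ← hs, mul_assoc, hby, mul_one]
  refine IsAlgClosed.of_exists_root _ fun p hp hirr => ?_
  obtain ⟨q, hq, hqd, hqm⟩ := Polynomial.lifts_and_natDegree_eq_and_monic
    ((Polynomial.lifts_iff_coeff_lifts p).2 fun n => hev _) hp
  obtain ⟨r, hr⟩ := h.root q hqm (by rw [hqd]; exact hirr.natDegree_pos.ne')
  refine ⟨ev r, ?_⟩
  rw [← hq, Polynomial.eval_map, Polynomial.eval₂_at_apply, hr, map_zero]

/-- Over a scheme with closed points, a locally quasi-finite scheme has closed points. -/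
theorem eq_of_specializes_of_lqf {Q Z : Scheme.{u}} (q : Q ⟶ Z) [LocallyQuasiFinite q]
    (hZ : ∀ {z z' : Z}, z ⤳ z' → z = z') {x y : Q} (h : x ⤳ y) : x = y := by
  by_contra hne
  have he : q x = q y := hZ (h.map q.continuous)
  obtain ⟨U, hU, hUy⟩ := isOpen_induced_iff.1 (by
    have := (isDiscrete_iff_discreteTopology.1 (q.isDiscrete_preimage_singleton (q y)))
    exact isOpen_discrete ({⟨y, rfl⟩} : Set ↥(q ⁻¹' {q y})))
  have hyU : y ∈ U := by
    have : (⟨y, rfl⟩ : ↥(q ⁻¹' {q y})) ∈ Subtype.val ⁻¹' U := by rw [hUy]; rfl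
    exact this
  have hx : (⟨x, he⟩ : ↥(q ⁻¹' {q y})) ∈ Subtype.val ⁻¹' U := h.mem_open hU hyU
  rw [hUy] at hx
  exact hne (congrArg Subtype.val hx)

/-- In a quasi-separated scheme with closed points any two points are separated by a clopen set. -/
theorem exists_clopen_separating {Q : Scheme.{u}} [QuasiSeparatedSpace Q]
    (hQ : ∀ {x y : Q}, x ⤳ y → x = y) {a b : Q} (hne : a ≠ b) :
    ∃ C : Set Q, IsClopen C ∧ a ∈ C ∧ b ∉ C := by
  have hb : IsClosed ({b} : Set Q) := closure_eq_iff_isClosed.1 (Set.Subset.antisymm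
    (fun x hx => (hQ (specializes_iff_mem_closure.2 hx)).symm) subset_closure)
  obtain ⟨_, ⟨K, hK, rfl⟩, haK, hKb⟩ := Q.isBasis_affineOpens.exists_subset_of_mem_open
    (show a ∈ ({b} : Set Q)ᶜ from hne) hb.isOpen_compl
  have : IsAffine (Scheme.Opens.toScheme K) := hK
  have : QuasiCompact (Scheme.Opens.ι K) := inferInstance
  have hcl : IsClosedMap (Scheme.Opens.ι K) := by
    refine (isClosedMap_iff_specializingMap (Scheme.Opens.ι K)).2 fun x y hy => ⟨x, specializes_rfl, hQ hy⟩
  refine ⟨K, ⟨?_, K.isOpen⟩, haK, fun h => hKb h rfl⟩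
  have := hcl.isClosed_range
  rwa [Scheme.Opens.range_ι] at this

theorem exists_factor_residueField {Q : Scheme.{u}} {K : Type u} [Field K] (s : Spec (.of K) ⟶ Q)
    {a : Q} (h : s (IsLocalRing.closedPoint K) = a) :
    ∃ φ, s = Spec.map φ ≫ Q.fromSpecResidueField a := by
  subst h
  exact ⟨_, (Scheme.descResidueField_stalkClosedPointTo_fromSpecResidueField K Q s).symm⟩

/-- Two points with values in a field at the same point are equal when they agree over a base with
algebraically closed residue fields. -/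
theorem fieldPoint_ext {Q Z : Scheme.{u}} (q : Q ⟶ Z) [LocallyQuasiFinite q] [LocallyOfFiniteType q]
    (hZ : ∀ z : Z, IsAlgClosed (Z.residueField z)) {K : Type u} [Field K] (s₁ s₂ : Spec (.of K) ⟶ Q)
    (h : s₁ (IsLocalRing.closedPoint K) = s₂ (IsLocalRing.closedPoint K)) (hq : s₁ ≫ q = s₂ ≫ q) : s₁ = s₂ := by
  obtain ⟨a, ha⟩ : ∃ a, s₂ (IsLocalRing.closedPoint K) = a := ⟨_, rfl⟩
  obtain ⟨φ₁, rfl⟩ := exists_factor_residueField s₁ (h.trans ha)
  obtain ⟨φ₂, rfl⟩ := exists_factor_residueField s₂ ha
  clear h ha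
  simp only [Category.assoc, ← Scheme.Hom.SpecMap_residueFieldMap_fromSpecResidueField] at hq
  rw [← Category.assoc, ← Category.assoc, cancel_mono, ← Spec.map_comp, ← Spec.map_comp] at hq
  have hq' := Spec.map_injective hq
  have hfin : (q.residueFieldMap a).hom.Finite :=
    CycLib.finite_residueFieldMap_of_rd_eq_zero q a (FibDim.rd_eq_zero_of_quasiFinite q a)
  have := hZ (q a)
  let _ := (q.residueFieldMap a).hom.toAlgebra
  have : Module.Finite (Z.residueField (q a)) (Q.residueField a) := hfin
  have hbij : Function.Bijective (q.residueFieldMap a).hom :=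
    IsAlgClosed.algebraMap_bijective_of_isIntegral (k := Z.residueField (q a)) (K := Q.residueField a)
  congr 2
  exact CommRingCat.hom_ext (RingHom.ext fun x => by
    obtain ⟨y, rfl⟩ := hbij.2 x
    exact congrArg (fun m : Z.residueField (q a) ⟶ CommRingCat.of K => m.hom y) hq')

end Groth.Agent.AlgSpOne.AbsFlat
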