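import Groth.Agent.AlgSpOne.AbsNormScheme
import Groth.Agent.AlgSpOne.AbsCover
import Groth.Agent.AlgSpDec.AffineLocal
import Groth.Agent.AlgSpDec.LimDescentDiag

/-!
# Integral surjective covers by schemes
-/

set_option autoImplicit false
set_option backward.isDefEq.respectTransparency false
set_option backward.isDefEq.respectTransparency.types false

universe u

open CategoryTheory CategoryTheory.Limits AlgebraicGeometry AlgSp Groth.Agent.AlgSpLib TopologicalSpace

namespace Groth.Agent.AlgSpOne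

variable {S : Scheme.{u}}

theorem exists_scheme_integral_surjective [QuasiSeparatedSpace ↥S] {X : Sp S} (hX : IsAlgSpace X)
    (hqc : IsQuasiCompactSp X) (hqs : IsQuasiSeparatedSp X)
    {U : Over S} (b : (yon S).obj U ⟶ X) (hb : RepWith @Etale b) (hbs : RepWith @Surjective b) :
    ∃ (Y : Over S) (g : (yon S).obj Y ⟶ X), RepWith @IsIntegralHom g ∧ RepWith @Surjective g ∧
      ∀ y : ↥Y.left, ∃ (W : Y.left.Opens) (c : Over.mk (W.ι ≫ Y.hom) ⟶ U), y ∈ W ∧
        (yon S).map c ≫ b = (yon S).map (Over.homMk W.ι rfl : Over.mk (W.ι ≫ Y.hom) ⟶ Y) ≫ g := by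
  obtain ⟨W₀, b₀, hW₀, hb₀e, hb₀s⟩ := AlgSpLib.CartierRegular.exists_affine_atlas hX hqc
  obtain ⟨W, π, u₀, hW, hπe, hπs, hπ⟩ := AlgSpDec.exists_affine_cover_lift hb hbs b₀
  let bW : (yon S).obj W ⟶ X := (yon S).map π ≫ b₀
  have hbWe : RepWith @Etale bW := repWith_comp ((repWith_yon_map_iff _ π).2 hπe) hb₀e
  have hbWs : RepWith @Surjective bW := repWith_comp ((repWith_yon_map_iff _ π).2 hπs) hb₀s
  obtain ⟨A, z, hz, hA⟩ := exists_absFlat_cover W.left
  let Zs : Over S := Over.mk (z ≫ W.hom)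
  let zO : Zs ⟶ W := Over.homMk z rfl
  let g₀ : (yon S).obj Zs ⟶ X := (yon S).map zO ≫ bW
  have : IsAffine Zs.left := inferInstanceAs (IsAffine (Spec A))
  have H : NormHyp g₀ := ⟨IsAlgSpace.yon_obj _, hX,
    AlgSpPts.isQuasiCompactMor_of_qc_qs (IsAlgSpace.yon_obj _) hX AlgSpVal.isQuasiCompactSp_yon hqs g₀,
    AlgSpDec.isQuasiSeparatedMor_of_sp g₀ (LfpLimitSp.isQuasiSeparatedSp_yon_affine Zs) hqs⟩
  let c : NChart X := ⟨W, hW, bW, hbWe⟩
  let m := chartMap H c
  have hms : RepWith @Surjective m := repWith_of_isPullback (isPullback_chartMap H c).flip hbWs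
  choose N hvN hN using fun v : (H.N c).left => exists_mono_nbhd hA (Zs := Zs) rfl H hqs c v
  let T : (H.N c).left → Over S := fun v => Over.mk ((N v).ι ≫ (H.N c).hom)
  let jN : ∀ v, T v ⟶ H.N c := fun v => Over.homMk (N v).ι rfl
  have hcov : ∀ x, ∃ v w, Points.ofPt ((yon S).map (jN v) ≫ m) w = x := fun x => by
    obtain ⟨v, rfl⟩ := surjective_ofPt hms x
    exact ⟨v, ⟨v, hvN v⟩, by rw [ofPt_comp]; rfl⟩
  obtain ⟨Y, ⟨e⟩⟩ := AlgSpDec.exists_rep_of_points (isAlgSpace_normSp H) fun x => by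
    obtain ⟨v, w, hw⟩ := hcov x
    exact ⟨T v, _, w, hN v, hw⟩
  have hint : RepWith @IsIntegralHom (e.hom ≫ normMap H) :=
    MorphismProperty.RespectsIso.precomp _ e.hom _ (AlgSpDec.isIntegralMor_iff_repWith.1 (isIntegralMor_normMap H))
  refine ⟨Y, e.hom ≫ normMap H, hint, repWith_surjective_of_surjective hint.rep fun x => ?_, fun y => ?_⟩
  · obtain ⟨w, rfl⟩ := surjective_ofPt hbWs x
    obtain ⟨ζ, rfl⟩ := hz.surj w
    refine ⟨Points.ofPt (toNorm H ≫ e.inv) (ζ : Zs.left), ?_⟩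
    rw [Points.map_ofPt, Category.assoc, e.inv_hom_id_assoc, toNorm_normMap]
    exact ofPt_comp zO bW (ζ : Zs.left)
  obtain ⟨v, w, hw⟩ := hcov (Points.ofPt e.hom y)
  obtain ⟨j, hj⟩ := (yon S).map_surjective (((yon S).map (jN v) ≫ m) ≫ e.inv)
  have : IsOpenImmersion j.left := (repWith_yon_map_iff _ j).1 (by
    rw [hj]; exact MorphismProperty.RespectsIso.postcomp _ e.inv _ (hN v))
  have hjy : j.left w = y := by
    refine (Points.schemeHomeo Y).injective ?_
    have h := congrArg (Points.map e.inv) hw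
    rw [Points.map_ofPt, Points.map_ofPt, ← hj, e.hom_inv_id, ← Category.comp_id ((yon S).map j), ofPt_comp] at h
    exact h
  let W' := j.left.opensRange
  let i : Over.mk (W'.ι ≫ Y.hom) ⟶ T v :=
    Over.homMk (IsOpenImmersion.lift j.left W'.ι (by rintro _ ⟨⟨x, hx⟩, rfl⟩; exact hx)) (by
      change IsOpenImmersion.lift j.left W'.ι _ ≫ (T v).hom = W'.ι ≫ Y.hom
      rw [← Over.w j, ← Category.assoc, IsOpenImmersion.lift_fac])
  refine ⟨W', i ≫ jN v ≫ H.n c ≫ u₀, ⟨w, hjy⟩, ?_⟩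
  have hij : i ≫ j = (Over.homMk W'.ι rfl : Over.mk (W'.ι ≫ Y.hom) ⟶ Y) :=
    Over.OverMorphism.ext (IsOpenImmersion.lift_fac _ _ _)
  rw [← hij, (yon S).map_comp i j, Category.assoc, hj]
  simp only [Functor.map_comp, Category.assoc, e.inv_hom_id_assoc, ← hπ]
  rw [show m ≫ normMap H = (yon S).map (H.n c) ≫ c.q from chartMap_normMap H c]

end Groth.Agent.AlgSpOne
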