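import Groth.Agent.AlgSpOne.LfpLimit
import Groth.Agent.AlgSpDec.LimHomScheme
import Groth.Agent.AlgSpDec.LimAffineStage

/-!
# Morphisms locally of finite presentation and limits of qcqs spaces
-/

set_option autoImplicit false
set_option backward.isDefEq.respectTransparency false
set_option backward.isDefEq.respectTransparency.types false

universe u

open CategoryTheory Limits Opposite AlgebraicGeometry AlgSp Groth.Agent.AlgSpLib Groth.Agent.AlgSpPts
  Groth.Agent.AlgSpDec

namespace Groth.Agent.AlgSpOne.LfpLimitSp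

variable {S : Scheme.{u}} {X Y : Sp S}

theorem exists_eq_stage (hX : IsAlgSpace X) (hY : IsAlgSpace Y) (f : X ⟶ Y) (hf : LocP @LocallyOfFiniteType f)
    {I : Type u} [SmallCategory I] [IsCofiltered I] (D : I ⥤ Sp S)
    (hDa : ∀ (i j : I) (φ : i ⟶ j), IsAffineMor (D.map φ)) (hqc : ∀ i, IsQuasiCompactSp (D.obj i))
    (c : Cone D) (hc : IsLimit c) {i : I} (a b : D.obj i ⟶ X) (h : a ≫ f = b ≫ f)
    (he : c.π.app i ≫ a = c.π.app i ≫ b) : ∃ (l : I) (g : l ⟶ i), D.map g ≫ a = D.map g ≫ b := by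
  obtain ⟨U, u, hU, hu, hus⟩ := exists_affine_atlas (hqc i)
  haveI : IsAffine U.left := hU
  obtain ⟨W, cW, hcW, p, fst, aW, bW, haw, sqW, hwb, hA, hWA, sqj, hfst, hp⟩ :=
    exists_limit_square'' D hDa c hc i u
  haveI := IsCofiltered.isConnected (Over i)
  let top : Over i := Over.mk (𝟙 i)
  obtain ⟨l, g, hl⟩ := LfpLimit.exists_eq_stage hX hY f hf W hWA cW (isLimitOfPreserves (Over.forget S) hcW)
    (k := top) ((yon S).map (bW top) ≫ u ≫ a) ((yon S).map (bW top) ≫ u ≫ b)
    (by simp only [Category.assoc, h])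
    (by
      rw [← Functor.map_comp_assoc, ← Functor.map_comp_assoc, ← hp top, ← Category.assoc, ← Category.assoc,
        ← sqW.w, Category.assoc, Category.assoc, he])
  rw [← Functor.map_comp_assoc, ← Functor.map_comp_assoc, hwb g, ← reassoc_of% (sqj l).w,
    ← reassoc_of% (sqj l).w] at hl
  haveI : Epi (aW l) := (Sheaf.isLocallySurjective_iff_epi _).1 (isLocallySurjective_of_etale_surjective
    (repWith_of_isPullback (sqj l).flip hu) (repWith_of_isPullback (sqj l).flip hus))
  exact ⟨l.left, l.hom, (cancel_epi (aW l)).1 hl⟩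

theorem exists_hom_stage [QuasiSeparatedSpace ↥S] (hX : IsAlgSpace X) (hY : IsAlgSpace Y) (f : X ⟶ Y)
    (hf : LocP @LocallyOfFinitePresentation f) {I : Type u} [SmallCategory I] [IsCofiltered I] (D : I ⥤ Sp S)
    (hDa : ∀ (i j : I) (φ : i ⟶ j), IsAffineMor (D.map φ))
    (hqc : ∀ i, IsQuasiCompactSp (D.obj i)) (hqs : ∀ i, IsQuasiSeparatedSp (D.obj i)) (c : Cone D) (hc : IsLimit c)
    (x : c.pt ⟶ X) {i : I} (y : D.obj i ⟶ Y) (hxy : x ≫ f = c.π.app i ≫ y) :
    ∃ (k : I) (φ : k ⟶ i) (x' : D.obj k ⟶ X), c.π.app k ≫ x' = x ∧ x' ≫ f = D.map φ ≫ y := by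
  have hfft : LocP @LocallyOfFiniteType f := fun U V a b h ha hb e =>
    have : LocallyOfFinitePresentation h.left := hf a b h ha hb e
    inferInstance
  obtain ⟨U, a, hU, ha, has⟩ := exists_affine_atlas (hqc i)
  have : IsAffine U.left := hU
  obtain ⟨W, cW, hcW, p, fst, aW, bW, haw, sqW, hwb, hA, hWA, sqj, hfst, hp⟩ :=
    exists_limit_square'' D hDa c hc i a
  haveI := IsCofiltered.isConnected (Over i)
  let top : Over i := Over.mk (𝟙 i)
  obtain ⟨j, φ₀, g, hg, hgy⟩ := LfpLimit.exists_point_stage hX hY f hf W hWA cW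
    (isLimitOfPreserves (Over.forget S) hcW) hA (fst ≫ x) (i := top) ((yon S).map (bW top) ≫ a ≫ y) (by
      rw [Category.assoc, hxy, ← Functor.map_comp_assoc, ← hp top, reassoc_of% sqW.w])
  have hje : RepWith @Etale (aW j) := repWith_of_isPullback (sqj j).flip ha
  have hjs : RepWith @Surjective (aW j) := repWith_of_isPullback (sqj j).flip has
  have hgy' : g ≫ f = aW j ≫ D.map j.hom ≫ y := by
    rw [hgy, ← Functor.map_comp_assoc, hwb φ₀, ← reassoc_of% (sqj j).w]
  let R := hje.rep.pullback (aW j)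
  have sR : IsPullback ((yon S).map (hje.rep.fst' (aW j))) ((yon S).map (hje.rep.snd (aW j))) (aW j) (aW j) :=
    hje.rep.isPullback' (aW j)
  have : IsAffine (W.obj j).left := hWA j
  have : QuasiCompact (hje.rep.snd (aW j)).left := quasiCompact_fibreProd (hqs j.left) sR
  have : CompactSpace ↥R.left := QuasiCompact.compactSpace_of_compactSpace (hje.rep.snd (aW j)).left
  obtain ⟨Z', r, hZ', hr, hrs⟩ := exists_affine_atlas ((isQuasiCompactSp_yon_iff R).2 inferInstance)
  have : IsAffine Z'.left := hZ'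
  obtain ⟨r', rfl⟩ := (yon S).map_surjective r
  let t := r' ≫ hje.rep.fst' (aW j)
  let s := r' ≫ hje.rep.snd (aW j)
  have hts : (yon S).map t ≫ aW j = (yon S).map s ≫ aW j := by
    rw [Functor.map_comp, Functor.map_comp, Category.assoc, Category.assoc, sR.w]
  obtain ⟨W', cW', hcW', p', fst', aW', bW', haw', sqW', hwb', hA', hWA', sqj', hfst', hp'⟩ :=
    exists_limit_square'' D hDa c hc j.left ((yon S).map t ≫ aW j)
  haveI := IsCofiltered.isConnected (Over j.left)
  have hsk : IsPullback fst ((yon S).map (cW.π.app j)) (c.π.app j.left) (aW j) := by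
    refine IsPullback.of_bot ?_ (hfst j) (sqj j)
    rw [← Functor.map_comp, ← hp j, c.w]
    exact sqW
  have hlim : (yon S).map p' ≫ (yon S).map t ≫ g = (yon S).map p' ≫ (yon S).map s ≫ g := by
    have e₁ : fst' ≫ c.π.app j.left = ((yon S).map p' ≫ (yon S).map t) ≫ aW j := by
      rw [sqW'.w, Category.assoc]
    have e₂ : fst' ≫ c.π.app j.left = ((yon S).map p' ≫ (yon S).map s) ≫ aW j := by
      rw [sqW'.w, hts, Category.assoc]
    have f₁ := hsk.lift_snd _ _ e₁
    have f₂ := hsk.lift_snd _ _ e₂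
    rw [← Category.assoc, ← Category.assoc, ← f₁, ← f₂, Category.assoc, Category.assoc, hg, ← Category.assoc,
      ← Category.assoc, hsk.lift_fst, hsk.lift_fst]
  let k₀ : Over j.left := Over.mk (𝟙 j.left)
  obtain ⟨k, ω, hk⟩ := LfpLimit.exists_eq_stage hX hY f hfft W' hWA' cW' (isLimitOfPreserves (Over.forget S) hcW')
    (k := k₀) ((yon S).map (bW' k₀ ≫ t) ≫ g) ((yon S).map (bW' k₀ ≫ s) ≫ g)
    (by simp only [Functor.map_comp, Category.assoc, hgy', reassoc_of% hts])
    (by
      rw [← Functor.map_comp_assoc, ← Functor.map_comp_assoc, ← Category.assoc, ← Category.assoc _ (bW' k₀) s,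
        ← hp' k₀, Functor.map_comp_assoc, Functor.map_comp_assoc]
      exact hlim)
  rw [← Functor.map_comp_assoc, ← Functor.map_comp_assoc, reassoc_of% (hwb' ω), reassoc_of% (hwb' ω),
    Functor.map_comp_assoc, Functor.map_comp_assoc] at hk
  -- descend at the stage `k`
  let l : Over i := Over.mk (k.hom ≫ j.hom)
  let φ : l ⟶ j := CategoryTheory.Over.homMk k.hom rfl
  have sφ : IsPullback (aW l) ((yon S).map (W.map φ)) (D.map k.hom) (aW j) := by
    refine IsPullback.of_bot ?_ (haw φ).symm (sqj j)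
    rw [← Functor.map_comp, hwb, ← D.map_comp]
    exact sqj l
  have hle : RepWith @Etale (aW l) := repWith_of_isPullback (sqj l).flip ha
  have hls : RepWith @Surjective (aW l) := repWith_of_isPullback (sqj l).flip has
  have sRl : IsPullback ((yon S).map (hle.rep.fst' (aW l))) ((yon S).map (hle.rep.snd (aW l))) (aW l) (aW l) :=
    hle.rep.isPullback' (aW l)
  let tl := hle.rep.fst' (aW l)
  let sl := hle.rep.snd (aW l)
  have hm : (((yon S).map (tl ≫ W.map φ))) ≫ aW j = (yon S).map (sl ≫ W.map φ) ≫ aW j := by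
    rw [Functor.map_comp, Functor.map_comp, Category.assoc, Category.assoc, ← sφ.w, ← Category.assoc, sRl.w,
      Category.assoc]
  let m := sR.lift _ _ hm
  let w : (yon S).obj (hle.rep.pullback (aW l)) ⟶ D.obj k.left := (yon S).map tl ≫ aW l
  have hcond : (pullback.fst m ((yon S).map r') ≫ w) ≫ D.map k.hom = pullback.snd m ((yon S).map r') ≫
      (yon S).map t ≫ aW j := by
    have e : w ≫ D.map k.hom = m ≫ (yon S).map (hje.rep.fst' (aW j)) ≫ aW j := by
      rw [sR.lift_fst_assoc, Functor.map_comp, Category.assoc, Category.assoc, sφ.w]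
    rw [Category.assoc, e, pullback.condition_assoc, Functor.map_comp, Category.assoc]
  let n := (sqj' k).lift _ _ hcond
  have hn : n ≫ (yon S).map (bW' k) = pullback.snd m ((yon S).map r') := (sqj' k).lift_snd _ _ _
  have hep : Epi (pullback.fst m ((yon S).map r')) := by
    have sQ := IsPullback.of_hasPullback m ((yon S).map r')
    have he' : RepWith @Etale (pullback.fst m ((yon S).map r')) := repWith_of_isPullback sQ.flip hr
    have hs' : RepWith @Surjective (pullback.fst m ((yon S).map r')) := repWith_of_isPullback sQ.flip hrs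
    exact (Sheaf.isLocallySurjective_iff_epi _).1 (isLocallySurjective_of_etale_surjective he' hs')
  have hdesc : (yon S).map tl ≫ (yon S).map (W.map φ) ≫ g = (yon S).map sl ≫ (yon S).map (W.map φ) ≫ g := by
    refine (cancel_epi (pullback.fst m ((yon S).map r'))).1 ?_
    have e₁ : pullback.fst m ((yon S).map r') ≫ (yon S).map tl ≫ (yon S).map (W.map φ) ≫ g =
        n ≫ (yon S).map (bW' k) ≫ (yon S).map t ≫ g := by
      simp only [t, Functor.map_comp, Category.assoc]
      rw [reassoc_of% hn, ← pullback.condition_assoc, sR.lift_fst_assoc, Functor.map_comp, Category.assoc]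
    have e₂ : pullback.fst m ((yon S).map r') ≫ (yon S).map sl ≫ (yon S).map (W.map φ) ≫ g =
        n ≫ (yon S).map (bW' k) ≫ (yon S).map s ≫ g := by
      simp only [s, Functor.map_comp, Category.assoc]
      rw [reassoc_of% hn, ← pullback.condition_assoc, sR.lift_snd_assoc, Functor.map_comp, Category.assoc]
    rw [e₁, e₂]
    simp only [t, s, Functor.map_comp, Category.assoc] at hk ⊢
    rw [hk]
  have := isLocallySurjective_of_etale_surjective hle hls
  obtain ⟨zi, hzi⟩ := exists_desc_of_kernelPair sRl ((yon S).map (W.map φ) ≫ g) hdesc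
  refine ⟨k.left, k.hom ≫ j.hom, zi, ?_, ?_⟩
  · have hfe : Epi fst := (Sheaf.isLocallySurjective_iff_epi _).1 (isLocallySurjective_of_etale_surjective
      (repWith_of_isPullback sqW.flip ha) (repWith_of_isPullback sqW.flip has))
    rw [← cancel_epi fst, ← Category.assoc]
    rw [show fst ≫ c.π.app k.left = (yon S).map (cW.π.app l) ≫ aW l from hfst l, Category.assoc, hzi,
      ← Functor.map_comp_assoc, cW.w, hg]
  · have : Epi (aW l) := (Sheaf.isLocallySurjective_iff_epi _).1 inferInstance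
    rw [← cancel_epi (aW l), reassoc_of% hzi, hgy', ← reassoc_of% sφ.w, D.map_comp, Category.assoc]

/-- The affine system of spaces of an affine system of schemes. -/
theorem isQuasiSeparatedSp_yon_affine [QuasiSeparatedSpace ↥S] (U : Over S) [IsAffine U.left] :
    IsQuasiSeparatedSp ((yon S).obj U) :=
  (isQuasiSeparatedSp_yon_iff' U).2 (quasiSeparated_hom_of_affine U)

theorem locP_lfp_iff [QuasiSeparatedSpace ↥S] (hX : IsAlgSpace X) (hY : IsAlgSpace Y) (f : X ⟶ Y) :
    LocP @LocallyOfFinitePresentation f ↔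
      ∀ ⦃I : Type u⦄ [SmallCategory I] [IsCofiltered I] (D : I ⥤ Sp S),
        (∀ i, IsAlgSpace (D.obj i)) → (∀ (i j : I) (φ : i ⟶ j), IsAffineMor (D.map φ)) →
        (∀ i, IsQuasiCompactSp (D.obj i)) → (∀ i, IsQuasiSeparatedSp (D.obj i)) →
        ∀ (c : Cone D) (_ : IsLimit c),
          IsPullback (colimMap (Functor.whiskerLeft D.op (yoneda.map f)))
            (colimit.desc (D.op ⋙ yoneda.obj X) ((yoneda.obj X).mapCocone c.op))
            (colimit.desc (D.op ⋙ yoneda.obj Y) ((yoneda.obj Y).mapCocone c.op))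
            ((yoneda.map f).app (Opposite.op c.pt)) := by
  have e1 : ∀ ⦃I : Type u⦄ [SmallCategory I] (D : I ⥤ Sp S) (i : I) (x : D.obj i ⟶ X),
      colimMap (Functor.whiskerLeft D.op (yoneda.map f)) (colimit.ι (D.op ⋙ yoneda.obj X) (Opposite.op i) x) =
        colimit.ι (D.op ⋙ yoneda.obj Y) (Opposite.op i) (x ≫ f) := fun I _ D i x =>
    congrArg (fun k : (D.op ⋙ yoneda.obj X).obj (Opposite.op i) ⟶ _ => k x)
      (ι_colimMap (Functor.whiskerLeft D.op (yoneda.map f)) (Opposite.op i))
  have e2 : ∀ ⦃I : Type u⦄ [SmallCategory I] (D : I ⥤ Sp S) (c : Cone D) (P : Sp S) (i : I) (x : D.obj i ⟶ P),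
      colimit.desc (D.op ⋙ yoneda.obj P) ((yoneda.obj P).mapCocone c.op)
        (colimit.ι (D.op ⋙ yoneda.obj P) (Opposite.op i) x) = c.π.app i ≫ x := fun I _ D c P i x =>
    congrArg (fun k : (D.op ⋙ yoneda.obj P).obj (Opposite.op i) ⟶ _ => k x)
      (colimit.ι_desc ((yoneda.obj P).mapCocone c.op) (Opposite.op i))
  constructor
  · intro hf I _ _ D hD hDa hqc hqs c hc
    have hfft : LocP @LocallyOfFiniteType f := fun U V a b h ha hb e =>
      have : LocallyOfFinitePresentation h.left := hf a b h ha hb e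
      inferInstance
    rw [Types.isPullback_iff]
    refine ⟨?_, ?_, ?_⟩
    · refine ConcreteCategory.hom_ext _ _ fun w => ?_
      obtain ⟨i, x, rfl⟩ := Types.jointly_surjective' w
      rw [ConcreteCategory.comp_apply, ConcreteCategory.comp_apply]
      erw [e1 D i.unop x, e2 D c X i.unop x, e2 D c Y i.unop]
      exact (Category.assoc _ _ _).symm
    · rintro w₁ w₂ ⟨h1, h2⟩
      obtain ⟨i, x, rfl⟩ := Types.jointly_surjective' w₁
      obtain ⟨j, x', rfl⟩ := Types.jointly_surjective' w₂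
      erw [e1 D i.unop x, e1 D j.unop x'] at h1
      erw [e2 D c X i.unop x, e2 D c X j.unop x'] at h2
      obtain ⟨k, g, g', hk⟩ := (Types.FilteredColimit.colimit_eq_iff _).1 h1
      obtain ⟨l, e, he⟩ := exists_eq_stage hX hY f hfft D hDa hqc c hc (i := k.unop)
        (D.map g.unop ≫ x) (D.map g'.unop ≫ x') ((Category.assoc _ _ _).trans (Eq.trans hk (Category.assoc (D.map g'.unop) x' f).symm))
        (by rw [reassoc_of% (c.w g.unop), reassoc_of% (c.w g'.unop)]; exact h2)
      refine (Types.FilteredColimit.colimit_eq_iff _).2 ⟨Opposite.op l, g ≫ e.op, g' ≫ e.op, ?_⟩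
      change D.map (e ≫ g.unop) ≫ x = D.map (e ≫ g'.unop) ≫ x'
      rw [D.map_comp, D.map_comp, Category.assoc, Category.assoc]
      exact he
    · intro w x hw
      obtain ⟨i, y, rfl⟩ := Types.jointly_surjective' w
      erw [e2 D c Y i.unop y] at hw
      obtain ⟨k, φ, z, hzx, hz⟩ := exists_hom_stage hX hY f hf D hDa hqc hqs c hc x y hw.symm
      refine ⟨colimit.ι (D.op ⋙ yoneda.obj X) (Opposite.op k) z, ?_, (e2 D c X k z).trans hzx⟩
      refine (e1 D k z).trans ((congrArg _ hz).trans ?_)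
      exact congrArg (fun q : (D.op ⋙ yoneda.obj Y).obj i ⟶ _ => q y) (colimit.w (D.op ⋙ yoneda.obj Y) φ.op)
  · intro H
    refine LfpOfLimit.locP_lfp_of_surjective f fun I _ _ D c hc hA hT x i y hxy => ?_
    haveI : ∀ j, IsAffine (D.obj j).left := hA
    haveI := IsCofiltered.isConnected I
    obtain ⟨-, -, hs⟩ := (Types.isPullback_iff _ _ _ _).1 (H (D ⋙ yon S) (fun j => IsAlgSpace.yon_obj _)
      (fun j k g => LfpLimit.isAffineMor_yon_map (D.map g))
      (fun j => (isQuasiCompactSp_yon_iff _).2 inferInstance) (fun j => isQuasiSeparatedSp_yon_affine _)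
      ((yon S).mapCone c) (isLimitOfPreserves (yon S) (isLimitOfReflects (Over.forget S) hc)))
    obtain ⟨w, hw, hwx⟩ := hs (colimit.ι ((D ⋙ yon S).op ⋙ yoneda.obj Y) (Opposite.op i) y) x
      ((e2 (D ⋙ yon S) ((yon S).mapCone c) Y i y).trans hxy.symm)
    obtain ⟨j, z, rfl⟩ := Types.jointly_surjective' w
    obtain ⟨k, g, g', hk⟩ := (Types.FilteredColimit.colimit_eq_iff _).1 ((e1 (D ⋙ yon S) j.unop z).symm.trans hw)
    refine ⟨k.unop, g'.unop, (yon S).map (D.map g.unop) ≫ z, ?_, (Category.assoc _ _ _).trans hk⟩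
    rw [← Functor.map_comp_assoc, c.w g.unop]
    exact (e2 (D ⋙ yon S) ((yon S).mapCone c) X j.unop z).symm.trans hwx

end Groth.Agent.AlgSpOne.LfpLimitSp
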