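import Groth.Agent.AlgSpOne.NormCodim
import Groth.Agent.AlgSpOne.AbsFlat
import Groth.Agent.AlgSpLib.FpqcDescent
import Groth.Agent.AlgSpDec.LqfScheme
import Groth.Agent.HensCouple7.Gamma
import Groth.Agent.FibDim.Comp
import Groth.Agent.AlgSpOne.LfpLimitSp
import Mathlib.AlgebraicGeometry.Morphisms.UniversallyOpen
import Mathlib.AlgebraicGeometry.Morphisms.FlatMono

/-!
# Normalization in an absolutely flat scheme is a scheme
-/

set_option autoImplicit false
set_option backward.isDefEq.respectTransparency false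
set_option backward.isDefEq.respectTransparency.types false

universe u

open CategoryTheory CategoryTheory.Limits AlgebraicGeometry AlgSp Groth.Agent.AlgSpLib TopologicalSpace

namespace Groth.Agent.AlgSpOne

variable {S : Scheme.{u}} {X Y : Sp S} {f : Y ⟶ X}

theorem isClopen_basicOpen_of_idem {V : Scheme.{u}} {ε : Γ(V, ⊤)} (h : ε * ε = ε) :
    IsClopen (V.basicOpen ε : Set V) :=
  ⟨⟨by rw [← HensCouple7.basicOpen_compl_of_idem h]; exact (V.basicOpen (1 - ε)).isOpen⟩, (V.basicOpen ε).isOpen⟩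

theorem mem_iff_of_specializes {α : Type u} [TopologicalSpace α] {D : Set α} (hD : IsClopen D) {x y : α}
    (h : x ⤳ y) : x ∈ D ↔ y ∈ D :=
  ⟨fun hx => h.mem_closed hD.isClosed hx, fun hy => h.mem_open hD.isOpen hy⟩

theorem exists_idem_lift (H : NormHyp f) (c : NChart X) {Q : Over S} (e : (yon S).obj Q ≅ pullback f c.q)
    (γ : Q ⟶ H.N c) (hγ : (yon S).map γ = e.hom ≫ H.f' c) {e₀ : Γ(Q.left, ⊤)} (he₀ : e₀ * e₀ = e₀) :
    ∃ ε : Γ((H.N c).left, ⊤), ε * ε = ε ∧ γ.left.appTop.hom ε = e₀ := by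
  have := c.aff
  let R₀ := Γ(c.T.left, ⊤)
  let B : CommRingCat.{u} := CommRingCat.of (Γ(c.T.left, ⊤) × Γ(c.T.left, ⊤))
  let δ : Γ(c.T.left, ⊤) ⟶ B := CommRingCat.ofHom ((RingHom.id _).prod (RingHom.id _))
  let Z : Over S := Over.mk ((Spec.map δ ≫ c.T.left.isoSpec.inv) ≫ c.T.hom)
  let π : Z ⟶ c.T := Over.homMk (Spec.map δ ≫ c.T.left.isoSpec.inv) rfl
  have : IsAffine Z.left := inferInstanceAs (IsAffine (Spec B))
  have hπ : IsIntegralHom π.left := by
    have : IsIntegralHom (Spec.map δ) := IsIntegralHom.SpecMap_iff.2 fun b => by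
      refine ⟨(Polynomial.X - Polynomial.C b.1) * (Polynomial.X - Polynomial.C b.2),
        (Polynomial.monic_X_sub_C _).mul (Polynomial.monic_X_sub_C _), ?_⟩
      simp only [Polynomial.eval₂_mul, Polynomial.eval₂_sub, Polynomial.eval₂_X, Polynomial.eval₂_C]
      refine Prod.ext ?_ ?_
      · change (b.1 - b.1) * (b.1 - b.2) = 0
        simp
      · change (b.2 - b.1) * (b.2 - b.2) = 0
        simp
    change IsIntegralHom (Spec.map δ ≫ c.T.left.isoSpec.inv)
    infer_instance
  have hπθ : π.left.appTop = δ ≫ (Scheme.ΓSpecIso B).inv := by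
    change (Spec.map δ ≫ c.T.left.isoSpec.inv).appTop = δ ≫ (Scheme.ΓSpecIso B).inv
    rw [Scheme.Hom.comp_appTop, Scheme.ΓSpecIso_inv_naturality]
    congr 1
    rw [← cancel_mono c.T.left.isoSpec.hom.appTop, ← Scheme.Hom.comp_appTop, Iso.hom_inv_id]
    simp [Scheme.isoSpec]
  let q : Q ⟶ c.T := γ ≫ H.n c
  let φ : B →+* Γ(Q.left, ⊤) :=
    { toFun := fun b => e₀ * q.left.appTop.hom b.1 + (1 - e₀) * q.left.appTop.hom b.2
      map_one' := by
        change e₀ * q.left.appTop.hom (1 : Γ(c.T.left, ⊤)) + (1 - e₀) * q.left.appTop.hom (1 : Γ(c.T.left, ⊤)) = 1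
        rw [map_one]; ring
      map_mul' := fun x y => by
        change e₀ * q.left.appTop.hom (x.1 * y.1) + (1 - e₀) * q.left.appTop.hom (x.2 * y.2) = _
        rw [map_mul, map_mul]
        linear_combination (q.left.appTop.hom x.1 * q.left.appTop.hom y.2 + q.left.appTop.hom x.2 * q.left.appTop.hom y.1
          - q.left.appTop.hom x.1 * q.left.appTop.hom y.1 - q.left.appTop.hom x.2 * q.left.appTop.hom y.2) * he₀
      map_zero' := by
        change e₀ * q.left.appTop.hom (0 : Γ(c.T.left, ⊤)) + (1 - e₀) * q.left.appTop.hom (0 : Γ(c.T.left, ⊤)) = 0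
        rw [map_zero]; ring
      map_add' := fun x y => by
        change e₀ * q.left.appTop.hom (x.1 + y.1) + (1 - e₀) * q.left.appTop.hom (x.2 + y.2) = _
        rw [map_add, map_add]; ring }
  obtain ⟨g₀, hg₀, hg₀π⟩ := exists_overHom π q ((Scheme.ΓSpecIso B).hom ≫ CommRingCat.ofHom φ) (by
    rw [hπθ, Category.assoc, Iso.inv_hom_id_assoc]
    refine CommRingCat.hom_ext (RingHom.ext fun a => ?_)
    change e₀ * q.left.appTop.hom a + (1 - e₀) * q.left.appTop.hom a = q.left.appTop.hom a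
    ring)
  obtain ⟨h, ⟨h1, h2⟩, -⟩ := H.up_self c π hπ (e.inv ≫ (yon S).map g₀) (by
    rw [Category.assoc, ← Functor.map_comp, hg₀π, Functor.map_comp, hγ, Category.assoc, H.f'_n,
      e.inv_hom_id_assoc])
  obtain ⟨h, rfl⟩ := (yon S).map_surjective h
  have hγh : γ ≫ h = g₀ := (yon S).map_injective (by
    rw [Functor.map_comp, hγ, Category.assoc, h1, e.hom_inv_id_assoc])
  let one : Γ(Z.left, ⊤) := (Scheme.ΓSpecIso B).inv.hom ((1, 0) : Γ(c.T.left, ⊤) × Γ(c.T.left, ⊤))
  refine ⟨h.left.appTop.hom one, ?_, ?_⟩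
  · rw [← map_mul]
    refine congrArg _ ?_
    refine (map_mul (Scheme.ΓSpecIso B).inv.hom _ _).symm.trans (congrArg (Scheme.ΓSpecIso B).inv.hom ?_)
    exact Prod.ext (one_mul 1) (mul_zero 0)
  · have h3 := congrArg (fun m : Q ⟶ Z => m.left.appTop.hom one) hγh
    refine (show γ.left.appTop.hom (h.left.appTop.hom one) = g₀.left.appTop.hom one from h3).trans ?_
    rw [hg₀]
    change φ ((Scheme.ΓSpecIso B).hom.hom ((Scheme.ΓSpecIso B).inv.hom _)) = e₀
    rw [← RingHom.comp_apply (Scheme.ΓSpecIso B).hom.hom, ← CommRingCat.hom_comp, Iso.inv_hom_id]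
    change e₀ * q.left.appTop.hom (1 : Γ(c.T.left, ⊤)) + (1 - e₀) * q.left.appTop.hom (0 : Γ(c.T.left, ⊤)) = e₀
    simp

theorem exists_mono_nbhd {A : CommRingCat.{u}} (hA : AbsFlat.IsAbsClosedFlat A) {Zs : Over S}
    (hZs : Zs.left = Spec A) {g₀ : (yon S).obj Zs ⟶ X} (H : NormHyp g₀) [QuasiSeparatedSpace ↥S]
    (hXqs : IsQuasiSeparatedSp X) (c : NChart X) (v : ↥(H.N c).left) :
    ∃ N : (H.N c).left.Opens, v ∈ N ∧ RepWith @IsOpenImmersion
      ((yon S).map (Over.homMk N.ι rfl : Over.mk (N.ι ≫ (H.N c).hom) ⟶ H.N c) ≫ chartMap H c) := by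
  obtain ⟨Zl, Zstr, rfl⟩ := Over.mk_surjective Zs
  change Zl = Spec A at hZs
  subst hZs
  have := c.aff
  have := H.affine_N c
  let V := H.N c
  let m : (yon S).obj V ⟶ normSp H := chartMap H c
  have hm : RepWith @Etale m := repWith_of_isPullback (isPullback_chartMap H c).flip c.et
  have hcq : IsQuasiCompactMor c.q :=
    AlgSpPts.isQuasiCompactMor_of_qc_qs (IsAlgSpace.yon_obj _) H.target AlgSpVal.isQuasiCompactSp_yon hXqs c.q
  have hmqc : IsQuasiCompactMor m := AlgSpPts.isQuasiCompactMor_of_isPullback (isPullback_chartMap H c).flip hcq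
  -- the scheme over the absolutely flat source
  have hQet : RepWith @Etale (pullback.fst g₀ c.q) :=
    repWith_of_isPullback (IsPullback.of_hasPullback g₀ c.q).flip c.et
  let Q : Over S := c.et.rep.pullback g₀
  have sqQ : IsPullback (c.et.rep.fst g₀) ((yon S).map (c.et.rep.snd g₀)) c.q g₀ := c.et.rep.isPullback g₀
  let e : (yon S).obj Q ≅ pullback g₀ c.q := sqQ.flip.isoPullback
  let qZ : Q ⟶ Over.mk Zstr := c.et.rep.snd g₀
  have hqZ : (yon S).map qZ = e.hom ≫ pullback.fst g₀ c.q := sqQ.flip.isoPullback_hom_fst.symm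
  have hqZe : Etale qZ.left := c.et.2 _ _ _ sqQ
  obtain ⟨γ, hγ⟩ := (yon S).map_surjective (e.hom ≫ H.f' c)
  have sq₃ : IsPullback (pullback.fst g₀ c.q) (H.f' c) (toNorm H) m :=
    IsPullback.of_bot (by rw [toNorm_normMap, H.f'_n]; exact IsPullback.of_hasPullback g₀ c.q)
      (f'_chartMap H c).symm (isPullback_chartMap H c)
  have hlqf : LocallyQuasiFinite qZ.left := inferInstance
  have hZcl : ∀ {z z' : Spec A}, z ⤳ z' → z = z' := AbsFlat.eq_of_specializes_spec hA
  have hQcl : ∀ {x y : Q.left}, x ⤳ y → x = y := AbsFlat.eq_of_specializes_of_lqf qZ.left hZcl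
  have hP : IsAlgSpace (pullback g₀ c.q) := isAlgSpace_pullback H.source (IsAlgSpace.yon_obj _) H.target g₀ c.q
  have hPqc : IsQuasiCompactSp (pullback g₀ c.q) :=
    AlgSpPts.isQuasiCompactMor_of_isPullback (IsPullback.of_hasPullback g₀ c.q) H.qc (IsAlgSpace.yon_obj _)
      AlgSpVal.isQuasiCompactSp_yon (𝟙 _) (𝟙 _) (pullback.snd g₀ c.q) (IsPullback.of_horiz_isIso ⟨by simp⟩)
  have hQqs : QuasiSeparatedSpace Q.left := by
    have : QuasiSeparated qZ.left := (isQuasiSeparatedMor_yon_map_iff qZ).1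
      (AlgSpPts.isQuasiSeparatedMor_of_isPullback sqQ
        (AlgSpDec.isQuasiSeparatedMor_of_sp c.q (LfpLimitSp.isQuasiSeparatedSp_yon_affine c.T) hXqs))
    have : QuasiSeparatedSpace (Over.mk Zstr : Over S).left := inferInstanceAs (QuasiSeparatedSpace (Spec A))
    exact quasiSeparatedSpace_of_quasiSeparated qZ.left
  obtain ⟨W, b, hW, hbe, hbs⟩ := AlgSpLib.CartierRegular.exists_affine_atlas hP hPqc
  obtain ⟨wQ, hwQ⟩ := (yon S).map_surjective (b ≫ e.inv)
  have hγinj : Function.Injective (wQ ≫ γ).left.appTop.hom :=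
    injective_appTop_of_f' H c hW hbe hbs _ (by rw [Functor.map_comp, hwQ, hγ, Category.assoc, e.inv_hom_id_assoc])
  have hmin : ∀ x : V.left, (∀ z, z ⤳ x → z = x) → ∃ a, γ.left a = x := by
    intro x hx
    obtain ⟨w, hw, -⟩ := exists_codimZero_preimage (wQ ≫ γ).left hγinj x (by
      rw [ringKrullDim_stalk_eq_coheight, Order.coheight_eq_zero.2 (fun z hz =>
        Scheme.le_iff_specializes.2 ((hx z (Scheme.le_iff_specializes.1 hz)) ▸ specializes_rfl))]
      rfl)
    exact ⟨wQ.left w, hw⟩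
  -- the relation
  let R : Over S := hm.rep.pullback m
  let p₁ : R ⟶ V := hm.rep.fst' m
  let p₂ : R ⟶ V := hm.rep.snd m
  have sqR : IsPullback ((yon S).map p₁) ((yon S).map p₂) m m := hm.rep.isPullback' m
  have : Etale p₁.left := hm.2 _ _ _ sqR.flip
  have hRc : CompactSpace R.left := by
    have h := hmqc (IsAlgSpace.yon_obj V) AlgSpVal.isQuasiCompactSp_yon m _ _ sqR
    have := (AlgSpPts.isQuasiCompactSp_iff (IsAlgSpace.yon_obj R)).1 h
    exact (Points.schemeHomeo R).symm.compactSpace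
  obtain ⟨δ, hδ⟩ := (yon S).map_surjective (sqR.lift (𝟙 _) (𝟙 _) rfl)
  have hδ₁ : δ ≫ p₁ = 𝟙 V := (yon S).map_injective (by
    rw [Functor.map_comp, hδ, sqR.lift_fst, CategoryTheory.Functor.map_id])
  have hδ₂ : δ ≫ p₂ = 𝟙 V := (yon S).map_injective (by
    rw [Functor.map_comp, hδ, sqR.lift_snd, CategoryTheory.Functor.map_id])
  let l : R.left ⟶ pullback V.hom V.hom := pullback.lift p₁.left p₂.left (by rw [Over.w p₁, Over.w p₂])
  have : Mono l := ⟨fun {T₀} a b hab => by
    have h₁ : a ≫ p₁.left = b ≫ p₁.left := by simpa [l] using hab =≫ pullback.fst V.hom V.hom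
    have h₂ : a ≫ p₂.left = b ≫ p₂.left := by simpa [l] using hab =≫ pullback.snd V.hom V.hom
    let a' : Over.mk (a ≫ R.hom) ⟶ R := Over.homMk a rfl
    let b' : Over.mk (a ≫ R.hom) ⟶ R := Over.homMk b (by
      change b ≫ R.hom = a ≫ R.hom
      rw [← Over.w p₁, reassoc_of% h₁])
    have e1 : a' ≫ p₁ = b' ≫ p₁ := Over.OverMorphism.ext h₁
    have e2 : a' ≫ p₂ = b' ≫ p₂ := Over.OverMorphism.ext h₂
    have hh : a' = b' := (yon S).map_injective (sqR.hom_ext
      (by rw [← Functor.map_comp, ← Functor.map_comp, e1]) (by rw [← Functor.map_comp, ← Functor.map_comp, e2]))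
    exact congrArg CommaMorphism.left hh⟩
  have hp₁sep : IsSeparated p₁.left := by
    have : IsSeparated V.hom := inferInstance
    rw [show p₁.left = l ≫ pullback.fst V.hom V.hom from (pullback.lift_fst _ _ _).symm]
    infer_instance
  have hδ₁' : δ.left ≫ p₁.left = 𝟙 _ := by rw [← Over.comp_left, hδ₁]; rfl
  have : IsClosedImmersion δ.left := by
    have : IsClosedImmersion (δ.left ≫ p₁.left) := by rw [hδ₁']; infer_instance
    exact IsClosedImmersion.of_comp δ.left p₁.left
  have : IsOpenImmersion δ.left := by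
    have : Etale (δ.left ≫ p₁.left) := by rw [hδ₁']; infer_instance
    have := Etale.of_comp δ.left p₁.left
    exact IsOpenImmersion.of_flat_of_mono δ.left
  have hsep : ∀ r : R.left, r ∉ Set.range δ.left →
      ∃ D : Set V.left, IsClopen D ∧ p₁.left r ∈ D ∧ p₂.left r ∉ D := by
    intro r hr
    obtain ⟨r₀, hr₀, hr₀m⟩ := FibDim.exists_maximal_generization r
    have hr₀δ : r₀ ∉ Set.range δ.left := fun h => hr (hr₀.mem_closed δ.left.isClosedEmbedding.isClosed_range h)
    have hxm : ∀ z, z ⤳ p₁.left r₀ → z = p₁.left r₀ := fun z hz => by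
      obtain ⟨r', hr', rfl⟩ := Flat.generalizingMap p₁.left hz
      rw [hr₀m r' hr']
    obtain ⟨a, ha⟩ := hmin _ hxm
    let R' : Over S := pullback γ p₁
    obtain ⟨x, hx₁, hx₂⟩ : ∃ x : R'.left, (pullback.fst γ p₁).left x = a ∧ (pullback.snd γ p₁).left x = r₀ := by
      obtain ⟨x, hx₁, hx₂⟩ := exists_point_of_isPullback ((IsPullback.of_hasPullback γ p₁).map (yon S))
        (x := Points.schemeHomeo Q a) (y := Points.schemeHomeo R r₀) (by
          rw [Points.map_yon_map_apply, Points.map_yon_map_apply, ha])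
      obtain ⟨x, rfl⟩ := (Points.schemeHomeo R').surjective x
      exact ⟨x, (Points.schemeHomeo Q).injective ((Points.map_yon_map_apply _ _).symm.trans hx₁),
        (Points.schemeHomeo R).injective ((Points.map_yon_map_apply _ _).symm.trans hx₂)⟩
    obtain ⟨b₂, hb₂⟩ := (yon S).map_surjective (sq₃.lift
      ((yon S).map (pullback.fst γ p₁) ≫ e.hom ≫ pullback.fst g₀ c.q) ((yon S).map (pullback.snd γ p₁ ≫ p₂)) (by
        simp only [Category.assoc, Functor.map_comp]
        rw [← sqR.w, ← f'_chartMap H c, ← reassoc_of% hγ, ← Functor.map_comp_assoc, ← Functor.map_comp_assoc,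
          pullback.condition]) ≫ e.inv)
    have hb₂γ : b₂ ≫ γ = pullback.snd γ p₁ ≫ p₂ := (yon S).map_injective (by
      rw [Functor.map_comp, hb₂]
      refine (congrArg (_ ≫ ·) hγ).trans ?_
      rw [Category.assoc, e.inv_hom_id_assoc, sq₃.lift_snd])
    have hb₂q : b₂ ≫ qZ = pullback.fst γ p₁ ≫ qZ := (yon S).map_injective (by
      rw [Functor.map_comp, hb₂, hqZ, Category.assoc, e.inv_hom_id_assoc, sq₃.lift_fst, Functor.map_comp, hqZ])
    have hne : a ≠ b₂.left x := by
      intro hab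
      refine hr₀δ ?_
      let ξ := R'.left.fromSpecResidueField x
      have hs : ξ ≫ (pullback.fst γ p₁).left = ξ ≫ b₂.left := by
        refine AbsFlat.fieldPoint_ext qZ.left (AbsFlat.isAlgClosed_residueField_spec hA) _ _ ?_ ?_
        · simp only [Scheme.Hom.comp_apply]
          exact ((congrArg (pullback.fst γ p₁).left (Scheme.fromSpecResidueField_apply _ _)).trans
            (hx₁.trans hab)).trans (congrArg b₂.left (Scheme.fromSpecResidueField_apply _ _)).symm
        · simp only [Category.assoc, ← Over.comp_left, hb₂q]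
      let O : Over S := Over.mk (ξ ≫ R'.hom)
      let o : O ⟶ R' := Over.homMk ξ rfl
      have hos : o ≫ pullback.fst γ p₁ = o ≫ b₂ := Over.OverMorphism.ext hs
      have h12 : (o ≫ pullback.snd γ p₁) ≫ p₁ = (o ≫ pullback.snd γ p₁) ≫ p₂ := by
        simp only [Category.assoc, ← pullback.condition, ← hb₂γ, reassoc_of% hos]
      have hfac : o ≫ pullback.snd γ p₁ = ((o ≫ pullback.snd γ p₁) ≫ p₁) ≫ δ :=
        (yon S).map_injective (sqR.hom_ext (by
          rw [← Functor.map_comp, ← Functor.map_comp, Category.assoc _ δ, hδ₁, Category.comp_id]) (by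
          rw [← Functor.map_comp, ← Functor.map_comp, Category.assoc _ δ, hδ₂, Category.comp_id, h12]))
      refine ⟨((o ≫ pullback.snd γ p₁) ≫ p₁).left (IsLocalRing.closedPoint _), ?_⟩
      rw [← Scheme.Hom.comp_apply, ← Over.comp_left, ← hfac, Over.comp_left, Scheme.Hom.comp_apply]
      change (pullback.snd γ p₁).left (ξ _) = r₀
      rw [Scheme.fromSpecResidueField_apply, hx₂]
    obtain ⟨C, hC, haC, hbC⟩ := AbsFlat.exists_clopen_separating hQcl hne
    obtain ⟨e₀, he₀, he₀C⟩ := HensCouple7.exists_idempotent_of_isClopen hC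
    obtain ⟨ε, hε, hεe⟩ := exists_idem_lift H c e γ hγ he₀
    have hpre : γ.left ⁻¹' (V.left.basicOpen ε : Set V.left) = C := by
      rw [← he₀C, ← hεe]
      exact congrArg SetLike.coe (Scheme.preimage_basicOpen γ.left ε)
    have h2 : p₂.left r₀ = γ.left (b₂.left x) := by
      rw [← Scheme.Hom.comp_apply, ← Over.comp_left, hb₂γ, Over.comp_left, Scheme.Hom.comp_apply, hx₂]
    refine ⟨_, isClopen_basicOpen_of_idem hε, ?_, ?_⟩
    · rw [← mem_iff_of_specializes (isClopen_basicOpen_of_idem hε) (hr₀.map p₁.left.continuous), ← ha]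
      exact (Set.ext_iff.1 hpre a).2 haC
    · rw [← mem_iff_of_specializes (isClopen_basicOpen_of_idem hε) (hr₀.map p₂.left.continuous), h2]
      exact fun h => hbC ((Set.ext_iff.1 hpre _).1 h)
  choose D hD hD₁ hD₂ using hsep
  obtain ⟨t, ht⟩ := (isClosed_compl_iff.2 δ.left.isOpenEmbedding.isOpen_range).isCompact.elim_finite_subcover
    (fun r : ↥(Set.range δ.left)ᶜ => p₁.left ⁻¹' D r r.2 ∩ p₂.left ⁻¹' (D r r.2)ᶜ)
    (fun r => ((hD r r.2).isOpen.preimage p₁.left.continuous).inter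
      ((hD r r.2).compl.isOpen.preimage p₂.left.continuous))
    (fun r hr => Set.mem_iUnion.2 ⟨⟨r, hr⟩, hD₁ r hr, hD₂ r hr⟩)
  classical
  let N : V.left.Opens := ⟨⋂ r ∈ t, if v ∈ D r r.2 then D r r.2 else (D r r.2)ᶜ,
    isOpen_biInter_finset fun r _ => by
      split_ifs
      · exact (hD r r.2).isOpen
      · exact (hD r r.2).compl.isOpen⟩
  have hvN : v ∈ N := Set.mem_iInter₂.2 fun r _ => by split_ifs with h <;> exact h
  let TN : Over S := Over.mk (N.ι ≫ V.hom)
  let j : TN ⟶ V := Over.homMk N.ι rfl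
  have hje : RepWith @Etale ((yon S).map j ≫ m) :=
    repWith_comp ((repWith_yon_map_iff _ j).2 (inferInstanceAs (Etale N.ι))) hm
  have : Mono j := Over.mono_of_mono_left j
  have : Mono ((yon S).map j ≫ m) := mono_of_yon_injective fun O a b hab => by
    obtain ⟨a, rfl⟩ := (yon S).map_surjective a
    obtain ⟨b, rfl⟩ := (yon S).map_surjective b
    obtain ⟨lO, hlO⟩ := (yon S).map_surjective (sqR.lift ((yon S).map (a ≫ j)) ((yon S).map (b ≫ j)) (by
      simpa only [Functor.map_comp, Category.assoc] using hab))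
    have hl₁ : lO ≫ p₁ = a ≫ j := (yon S).map_injective (by rw [Functor.map_comp, hlO, sqR.lift_fst])
    have hl₂ : lO ≫ p₂ = b ≫ j := (yon S).map_injective (by rw [Functor.map_comp, hlO, sqR.lift_snd])
    have hran : Set.range lO.left ⊆ Set.range δ.left := by
      rintro _ ⟨o, rfl⟩
      by_contra ho
      obtain ⟨r, hr, h1, h2⟩ := Set.mem_iUnion₂.1 (ht ho)
      have e1 : p₁.left (lO.left o) ∈ N := by
        rw [← Scheme.Hom.comp_apply, ← Over.comp_left, hl₁]
        exact (a.left o).2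
      have e2 : p₂.left (lO.left o) ∈ N := by
        rw [← Scheme.Hom.comp_apply, ← Over.comp_left, hl₂]
        exact (b.left o).2
      have e1' := Set.mem_iInter₂.1 e1 r hr
      have e2' := Set.mem_iInter₂.1 e2 r hr
      by_cases hv : v ∈ D r r.2
      · rw [if_pos hv] at e2'; exact h2 e2'
      · rw [if_neg hv] at e1'; exact e1' h1
    have hfac : IsOpenImmersion.lift δ.left lO.left hran ≫ δ.left = lO.left := IsOpenImmersion.lift_fac _ _ _
    have hab' : (a ≫ j).left = (b ≫ j).left := by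
      rw [← hl₁, ← hl₂, Over.comp_left, Over.comp_left, ← hfac, Category.assoc, Category.assoc, ← Over.comp_left,
        ← Over.comp_left, hδ₁, hδ₂]
    rw [(cancel_mono j).1 (Over.OverMorphism.ext hab')]
  exact ⟨N, hvN, repWith_isOpenImmersion_of_mono_of_etale (IsAlgSpace.yon_obj _) (isAlgSpace_normSp H) _
    (locP_of_repWith hje)⟩

end Groth.Agent.AlgSpOne
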