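import Groth.Agent.AlgSpDec.LimScheme
import Groth.Agent.AlgSpDec.LimAffineBase
import Groth.Agent.AlgSpDec.LimAffineStage

/-!
# Spaces over an affine limit which are schemes over the limit
-/

set_option autoImplicit false
set_option backward.isDefEq.respectTransparency false
set_option backward.isDefEq.respectTransparency.types false

universe u

open CategoryTheory Limits Opposite AlgebraicGeometry AlgSp Groth.Agent.AlgSpLib Groth.Agent.AlgSpPts
  Groth.Agent.AlgSpDec

namespace Groth.Agent.AlgSpOne.BaseSystem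

variable {S : Scheme.{u}}

theorem isRepresentable_congr {P P' : Sp S} (e : P ≅ P') (h : P.obj.IsRepresentable) : P'.obj.IsRepresentable := by
  obtain ⟨Z, ⟨r⟩⟩ := h.has_representation
  exact (r.ofIso ((sheafToPresheaf _ _).mapIso e)).isRepresentable

/-- A space over a base whose base change to an affine limit is a scheme is a scheme over some stage. -/
theorem exists_isRepresentable_baseChange' [QuasiSeparatedSpace ↥S] {X : Sp S} (hX : IsAlgSpace X)
    (q : X ⟶ (yon S).obj (Over.mk (𝟙 S))) (hqc : ∀ Z : Over S, IsAffine Z.left → IsQuasiCompactSp (pullback q ((yon S).map (Over.homMk Z.hom : Z ⟶ Over.mk (𝟙 S))))) (hqs : IsQuasiSeparatedMor q)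
    {I : Type u} [SmallCategory I] [IsCofiltered I] (W : I ⥤ Over S) (hW : ∀ i, IsAffine (W.obj i).left)
    (cW : Cone W) (hc : IsLimit ((Over.forget S).mapCone cW)) {P : Sp S} {fst : P ⟶ X} {snd : P ⟶ (yon S).obj cW.pt}
    (sq : IsPullback fst snd q ((yon S).map (Over.homMk cW.pt.hom))) (hP : P.obj.IsRepresentable) :
    ∃ i, (pullback q ((yon S).map (Over.homMk (W.obj i).hom : W.obj i ⟶ Over.mk (𝟙 S)))).obj.IsRepresentable := by
  haveI : ∀ i, IsAffine (W.obj i).left := hW
  haveI := IsCofiltered.isConnected I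
  let one : Over S := Over.mk (𝟙 S)
  let τ : ∀ Z : Over S, Z ⟶ one := fun Z => Over.homMk Z.hom (Category.comp_id _)
  have hτ : ∀ {Z Z' : Over S} (φ : Z ⟶ Z'), φ ≫ τ Z' = τ Z := fun φ => Over.OverMorphism.ext (Over.w φ)
  let m : ∀ {i j : I} (_ : i ⟶ j), pullback q ((yon S).map (τ (W.obj i))) ⟶ pullback q ((yon S).map (τ (W.obj j))) :=
    fun {i j} φ => pullback.map _ _ _ _ (𝟙 _) ((yon S).map (W.map φ)) (𝟙 _) (by simp)
      (by rw [Category.comp_id, ← Functor.map_comp, hτ])
  let D : I ⥤ Sp S :=
    { obj := fun i => pullback q ((yon S).map (τ (W.obj i)))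
      map := fun φ => m φ
      map_id := fun i => pullback.hom_ext (by simp [m]) (by simp [m])
      map_comp := fun φ ψ => pullback.hom_ext (by simp [m]) (by simp [m]) }
  have hsq : ∀ {i j : I} (φ : i ⟶ j), IsPullback (pullback.snd _ _) (D.map φ) ((yon S).map (W.map φ))
      (pullback.snd q ((yon S).map (τ (W.obj j)))) := fun {i j} φ => by
    refine IsPullback.of_bot ?_ (pullback.lift_snd _ _ _).symm (IsPullback.of_hasPullback q _).flip
    rw [← Functor.map_comp, hτ, pullback.lift_fst, Category.comp_id]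
    exact (IsPullback.of_hasPullback q _).flip
  have hlw : ∀ i, (yon S).map (τ cW.pt) = (yon S).map (cW.π.app i) ≫ (yon S).map (τ (W.obj i)) := fun i => by
    rw [← Functor.map_comp, hτ]; rfl
  let cD : Cone D :=
    { pt := P
      π :=
        { app := fun i => pullback.lift fst (snd ≫ (yon S).map (cW.π.app i)) (by rw [Category.assoc, ← hlw]; exact sq.w)
          naturality := fun i j φ => by
            refine (Category.id_comp _).trans ?_
            refine pullback.hom_ext ?_ ?_
            · simp [D, m]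
            · simp only [D, m, Category.assoc, pullback.lift_snd, pullback.lift_snd_assoc]
              rw [← Functor.map_comp, cW.w] } }
  have hcY : IsLimit ((yon S).mapCone cW) := isLimitOfPreserves (yon S) (isLimitOfReflects (Over.forget S) hc)
  obtain ⟨i₀⟩ := IsCofiltered.nonempty (C := I)
  let sY : Cone D → Cone (W ⋙ yon S) := fun s =>
    { pt := s.pt
      π := { app := fun i => s.π.app i ≫ pullback.snd _ _
             naturality := fun i j φ => by
               dsimp
               rw [Category.id_comp, ← s.w φ]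
               simp [D, m] } }
  have hf : ∀ (s : Cone D) (i j : I), s.π.app i ≫ pullback.fst _ _ = s.π.app j ≫ pullback.fst _ _ := fun s i j => by
    obtain ⟨l, u, v, -⟩ := IsCofilteredOrEmpty.cone_objs i j
    rw [← s.w u, ← s.w v]
    simp [D, m]
  have hw : ∀ s : Cone D, (s.π.app i₀ ≫ pullback.fst _ _) ≫ q = hcY.lift (sY s) ≫ (yon S).map (τ cW.pt) := fun s => by
    rw [hlw i₀, ← Category.assoc (hcY.lift (sY s))]
    refine Eq.trans ?_ (congrArg (· ≫ (yon S).map (τ (W.obj i₀))) (hcY.fac (sY s) i₀)).symm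
    simp [sY, pullback.condition]
  let hcD : IsLimit cD :=
    { lift := fun s => sq.lift _ _ (hw s)
      fac := fun s i => pullback.hom_ext (by simp [cD, hf s i i₀]) (by
        simp only [cD, Category.assoc, pullback.lift_snd]
        rw [IsPullback.lift_snd_assoc]
        exact hcY.fac (sY s) i)
      uniq := fun s l hl => sq.hom_ext (by simp [← hl i₀, cD]) (hcY.hom_ext fun i => by
        refine Eq.trans ?_ ((congrArg (· ≫ ((yon S).mapCone cW).π.app i) (sq.lift_snd _ _ (hw s))).trans
          (hcY.fac (sY s) i)).symm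
        simp [sY, ← hl i, cD]) }
  obtain ⟨T, ⟨r⟩⟩ := hP.has_representation
  refine exists_isRepresentable_stage D (fun i => isAlgSpace_pullback hX (IsAlgSpace.yon_obj _) (IsAlgSpace.yon_obj _) _ _)
    (fun i j φ => isAffineMor_of_isPullback (hsq φ) (isAffineMor_of_repWith le_rfl
      ((repWith_yon_map_iff @IsAffineHom (W.map φ)).2 inferInstance)))
    (fun i => ?_) (fun i => ?_) cD hcD (AlgSp.isoOfRepresentableBy r)
  · exact hqc (W.obj i) (hW i)
  · have h₁ := isQuasiSeparatedMor_of_isPullback (IsPullback.of_hasPullback q ((yon S).map (τ (W.obj i)))) hqs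
    have h₂ := (isQuasiSeparatedSp_yon_iff' (W.obj i)).2 (quasiSeparated_hom_of_affine (W.obj i))
    rw [isQuasiSeparatedSp_iff_mor] at h₂ ⊢
    rw [(isTerminalYon S).hom_ext ((isTerminalYon S).from _)
      (pullback.snd q ((yon S).map (τ (W.obj i))) ≫ (isTerminalYon S).from _)]
    exact isQuasiSeparatedMor_comp h₁ h₂

theorem exists_isRepresentable_baseChange [QuasiSeparatedSpace ↥S] {X : Sp S} (hX : IsAlgSpace X)
    (q : X ⟶ (yon S).obj (Over.mk (𝟙 S))) (hqc : IsQuasiCompactMor q) (hqs : IsQuasiSeparatedMor q)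
    {I : Type u} [SmallCategory I] [IsCofiltered I] (W : I ⥤ Over S) (hW : ∀ i, IsAffine (W.obj i).left)
    (cW : Cone W) (hc : IsLimit ((Over.forget S).mapCone cW)) {P : Sp S} {fst : P ⟶ X} {snd : P ⟶ (yon S).obj cW.pt}
    (sq : IsPullback fst snd q ((yon S).map (Over.homMk cW.pt.hom))) (hP : P.obj.IsRepresentable) :
    ∃ i, (pullback q ((yon S).map (Over.homMk (W.obj i).hom : W.obj i ⟶ Over.mk (𝟙 S)))).obj.IsRepresentable :=
  exists_isRepresentable_baseChange' hX q (fun Z hZ => isQuasiCompactSp_of_mor (IsAlgSpace.yon_obj _)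
    (isQuasiCompactMor_of_isPullback (IsPullback.of_hasPullback q _) hqc)
    ((isQuasiCompactSp_yon_iff _).2 inferInstance)) hqs W hW cW hc sq hP

end Groth.Agent.AlgSpOne.BaseSystem
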