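import Groth.Agent.AlgSpOne.GenFiniteSp
import Groth.Agent.AlgSpOne.DecentFinComp
import Groth.Agent.AlgSpDec.LimDescent
import Groth.Agent.AlgSpDec.LimDescentRep
import Groth.Agent.AlgSpDec.Glue
import Groth.Agent.S10182
import Groth.Agent.S10272

/-!
# Finiteness near a point of codimension zero for quasi-compact or separated morphisms
-/

set_option autoImplicit false
set_option backward.isDefEq.respectTransparency false
set_option backward.isDefEq.respectTransparency.types false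

universe u

open CategoryTheory Limits Opposite AlgebraicGeometry AlgSp Groth.Agent.AlgSpLib Groth.Agent.AlgSpPts
  Groth.Agent.AlgSpDec Groth.Agent.AlgSpDec.PointLocus TopologicalSpace Order

namespace Groth.Agent.AlgSpOne

variable {S : Scheme.{u}}

theorem isPullback_id_of_mono {C : Type*} [Category C] {A B D : C} {a : A ⟶ B} {m : B ⟶ D} [Mono m]
    {c : A ⟶ D} (h : a ≫ m = c) : IsPullback (𝟙 A) a c m :=
  ⟨⟨by rw [Category.id_comp, h]⟩, ⟨PullbackCone.IsLimit.mk _ (fun s => s.fst) (fun s => Category.comp_id _)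
    (fun s => by rw [← cancel_mono m, Category.assoc, h, s.condition])
    (fun s n h1 _ => by rw [← h1, Category.comp_id])⟩⟩

/-- The hypotheses on a space over an affine scheme near a point `v` of codimension zero. -/
structure GenHyp {P : Sp S} {V : Over S} (q : P ⟶ (yon S).obj V) (v : ↥V.left) : Prop where
  coh : coheight v = 0
  lft : LocP @LocallyOfFiniteType q
  gen : ∀ (U : Over S) (a : (yon S).obj U ⟶ P) (h : U ⟶ V), RepWith @Etale a → a ≫ q = (yon S).map h →
      ∀ u : ↥U.left, coheight u = 0 → h.left u = v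
  qf : ∀ (U : Over S) (a : (yon S).obj U ⟶ P) (h : U ⟶ V), RepWith @Etale a → a ≫ q = (yon S).map h →
      ∀ u : ↥U.left, h.left u = v → FlatMor.fibreDimAt h.left u = 0

theorem GenHyp.restrict {P : Sp S} (hP : IsAlgSpace P) {V V₁ : Over S} {q : P ⟶ (yon S).obj V} {v : ↥V.left}
    (H : GenHyp q v) (ι : V₁ ⟶ V) [IsOpenImmersion ι.left] (v₁ : ↥V₁.left) (hv₁ : ι.left v₁ = v) :
    GenHyp (pullback.snd q ((yon S).map ι)) v₁ := by
  have hι : RepWith @Etale ((yon S).map ι) := (repWith_yon_map_iff _ _).2 (inferInstanceAs (Etale ι.left))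
  have hf : RepWith @Etale (pullback.fst q ((yon S).map ι)) :=
    repWith_of_isPullback (IsPullback.of_hasPullback q ((yon S).map ι)).flip hι
  have key : ∀ (U : Over S) (a : (yon S).obj U ⟶ pullback q ((yon S).map ι)) (h : U ⟶ V₁),
      a ≫ pullback.snd q ((yon S).map ι) = (yon S).map h →
      (a ≫ pullback.fst q ((yon S).map ι)) ≫ q = (yon S).map (h ≫ ι) := fun U a h w => by
    rw [Category.assoc, pullback.condition, reassoc_of% w, Functor.map_comp]
  refine ⟨by rw [coheight_eq_of_etale ι.left v₁, hv₁, H.coh],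
    locP_of_isPullback (IsPullback.of_hasPullback _ _) hP (IsAlgSpace.yon_obj _) (IsAlgSpace.yon_obj _) H.lft,
    fun U a h ha w u hu => ι.left.injective ?_, fun U a h ha w u hu => ?_⟩
  · rw [hv₁]
    exact H.gen U _ _ (repWith_comp ha hf) (key U a h w) u hu
  · haveI : LocallyOfFiniteType h.left :=
      locP_of_isPullback (IsPullback.of_hasPullback q ((yon S).map ι)) hP (IsAlgSpace.yon_obj _) (IsAlgSpace.yon_obj _)
        H.lft a (𝟙 _) h ha (repWith_id _ _) (by rw [Category.comp_id]; exact w)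
    have h1 := H.qf U _ _ (repWith_comp ha hf) (key U a h w) u (by
      rw [Over.comp_left, Scheme.Hom.comp_apply, hu, hv₁])
    rw [Over.comp_left, fibreDimAt_comp_etale] at h1
    exact h1

theorem isFiniteMor_snd_comp {P : Sp S} {V V₁ V₂ : Over S} (q : P ⟶ (yon S).obj V) (ι : V₁ ⟶ V) (j : V₂ ⟶ V₁)
    (h : IsFiniteMor (pullback.snd (pullback.snd q ((yon S).map ι)) ((yon S).map j))) :
    IsFiniteMor (pullback.snd q ((yon S).map (j ≫ ι))) := by
  have sq := (IsPullback.of_hasPullback (pullback.snd q ((yon S).map ι)) ((yon S).map j)).paste_horiz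
    (IsPullback.of_hasPullback q ((yon S).map ι))
  rw [← Functor.map_comp] at sq
  refine isFiniteMor_iff_repWith.2 ?_
  rw [← sq.isoPullback_inv_snd]
  exact repWith_comp (repWith_of_isIso _ _) (isFiniteMor_iff_repWith.1 h)

/-- A morphism to a scheme which is dominated by a quasi-compact one is quasi-compact. -/
theorem isQuasiCompactMor_of_chart {P : Sp S} (hP : IsAlgSpace P) {V W : Over S} (q : P ⟶ (yon S).obj V)
    {a : (yon S).obj W ⟶ P} (ha : Function.Surjective (Points.map a)) {g : W ⟶ V}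
    (hg : a ≫ q = (yon S).map g) [QuasiCompact g.left] : IsQuasiCompactMor q := by
  intro Z Z' hZ hZc g' fst snd sq
  let Z'' := pullback fst a
  have sqa : IsPullback (pullback.fst fst a) (pullback.snd fst a) fst a := IsPullback.of_hasPullback _ _
  have hZ' : IsAlgSpace Z' := isAlgSpace_of_isPullback sq hP hZ (IsAlgSpace.yon_obj V)
  have hZ'' : IsAlgSpace Z'' := isAlgSpace_pullback hZ' (IsAlgSpace.yon_obj W) hP fst a
  have h2 : IsPullback (pullback.snd fst a) (pullback.fst fst a ≫ snd) ((yon S).map g) g' := by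
    rw [← hg]
    exact sqa.flip.paste_vert sq
  haveI : CompactSpace (Points Z'') := (isQuasiCompactSp_iff hZ'').1
    (isQuasiCompactMor_of_repWith ((repWith_yon_map_iff _ _).2 ‹QuasiCompact g.left›) hZ hZc g' _ _ h2)
  refine (isQuasiCompactSp_iff hZ').2 ⟨?_⟩
  have hs : Function.Surjective (Points.map (pullback.fst fst a)) := fun t => by
    obtain ⟨w, hw⟩ := ha (Points.map fst t)
    obtain ⟨z, hz, -⟩ := exists_point_of_isPullback sqa (x := t) (y := w) hw.symm
    exact ⟨z, hz⟩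
  rw [← hs.range_eq]
  exact isCompact_range (Points.continuous_map _)

theorem exists_finite_nhd_of_separated {P : Sp S} (hP : IsAlgSpace P) {V : Over S} [IsAffine V.left]
    (q : P ⟶ (yon S).obj V) (hsep : IsSeparatedMor q) (v : ↥V.left) (H : GenHyp q v)
    (hfin : {t : Points P | Points.map q t = Points.schemeHomeo V v}.Finite) :
    ∃ (V' : Over S) (j : V' ⟶ V), IsOpenImmersion j.left ∧ v ∈ Set.range j.left ∧
      IsFiniteMor (pullback.snd q ((yon S).map j)) := by
  obtain ⟨U, a, ha, has⟩ := hP.atlas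
  obtain ⟨h, hh⟩ := (yon S).map_surjective (a ≫ q)
  haveI := hfin.to_subtype
  obtain ⟨n, ⟨e⟩⟩ := Finite.exists_equiv_fin {t : Points P | Points.map q t = Points.schemeHomeo V v}
  choose u hu using fun i : ULift.{u} (Fin n) => surjective_ofPt has (e.symm i.down).1
  choose B hB huB _hle using fun i => exists_isAffineOpen_mem_and_subset (U := (⊤ : U.left.Opens)) (x := u i) trivial
  let T : ULift.{u} (Fin n) → Over S := fun i => Over.mk ((B i).ι ≫ U.hom)
  haveI : ∀ i, IsAffine (T i).left := hB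
  let W : Over S := sigmaOver T
  haveI : IsAffine W.left := inferInstanceAs (IsAffine (∐ fun i => (T i).left))
  let k : W ⟶ U := CategoryTheory.Over.homMk (Sigma.desc fun i => (B i).ι) (Sigma.hom_ext _ _ fun i => by
    change Sigma.ι _ i ≫ Sigma.desc _ ≫ U.hom = Sigma.ι _ i ≫ Sigma.desc _
    rw [Sigma.ι_desc_assoc, Sigma.ι_desc]
    rfl)
  have hke : Etale k.left := by
    refine IsZariskiLocalAtSource.of_openCover (sigmaOpenCover fun i => (T i).left) fun i => ?_
    change Etale (Sigma.ι (fun i => (T i).left) i ≫ Sigma.desc _)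
    rw [Sigma.ι_desc]
    exact inferInstanceAs (Etale (B i).ι)
  let aW : (yon S).obj W ⟶ P := (yon S).map k ≫ a
  have haW : RepWith @Etale aW := repWith_comp ((repWith_yon_map_iff _ _).2 hke) ha
  let hW := k ≫ h
  have hhW : aW ≫ q = (yon S).map hW := by rw [Category.assoc, ← hh, Functor.map_comp]
  have hcov : ∀ t : Points P, Points.map q t = Points.schemeHomeo V v → ∃ w, Points.ofPt aW w = t := by
    intro t ht
    let i : ULift.{u} (Fin n) := ⟨e ⟨t, ht⟩⟩
    refine ⟨(sigmaι T i).left ⟨u i, huB i⟩, ?_⟩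
    rw [ofPt_comp, ← Scheme.Hom.comp_apply,
      show (sigmaι T i).left ≫ k.left = (B i).ι from Sigma.ι_desc _ i]
    exact (hu i).trans (congrArg Subtype.val (e.symm_apply_apply ⟨t, ht⟩))
  haveI : LocallyOfFiniteType hW.left :=
    H.lft aW (𝟙 _) hW haW (repWith_id _ _) (by rw [Category.comp_id]; exact hhW)
  haveI : QuasiCompact hW.left := HasAffineProperty.iff_of_isAffine.2 (inferInstanceAs (CompactSpace ↥W.left))
  haveI : IsAffineHom hW.left := inferInstance
  have hfib : (hW.left ⁻¹' {v}).Finite := (FieldFibre.finite_qf_points hW.left v).subset fun w hw =>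
    ⟨hw, H.qf W aW hW haW hhW w hw⟩
  have hη : closure {v} ∈ irreducibleComponents ↥V.left := by
    obtain ⟨Z₀, hZ₀, hgen⟩ := exists_component_of_coheight_zero H.coh
    rwa [hgen.def]
  obtain ⟨A, hA, hvA, hAfin⟩ := (Groth.Agent.S2080.result hW.left v hη).1 hfib
  let V₁ : Over S := Over.mk (A.ι ≫ V.hom)
  let ι : V₁ ⟶ V := CategoryTheory.Over.homMk A.ι rfl
  haveI : IsAffine V₁.left := hA
  haveI : IsOpenImmersion ι.left := inferInstanceAs (IsOpenImmersion A.ι)
  let v₁ : ↥V₁.left := ⟨v, hvA⟩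
  have H₁ := H.restrict hP ι v₁ rfl
  let P₁ := pullback q ((yon S).map ι)
  let f₁ : P₁ ⟶ P := pullback.fst q ((yon S).map ι)
  let q₁ : P₁ ⟶ (yon S).obj V₁ := pullback.snd q ((yon S).map ι)
  have hP₁ : IsAlgSpace P₁ := isAlgSpace_pullback hP (IsAlgSpace.yon_obj _) (IsAlgSpace.yon_obj _) _ _
  have sqP : IsPullback f₁ q₁ q ((yon S).map ι) := IsPullback.of_hasPullback _ _
  let W₁ : Over S := Over.mk ((hW.left ⁻¹ᵁ A).ι ≫ W.hom)
  let iW : W₁ ⟶ W := CategoryTheory.Over.homMk (hW.left ⁻¹ᵁ A).ι rfl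
  haveI : IsOpenImmersion iW.left := inferInstanceAs (IsOpenImmersion (hW.left ⁻¹ᵁ A).ι)
  let g : W₁ ⟶ V₁ := CategoryTheory.Over.homMk (hW.left ∣_ A) (by
    change (hW.left ∣_ A) ≫ A.ι ≫ V.hom = (hW.left ⁻¹ᵁ A).ι ≫ W.hom
    rw [morphismRestrict_ι_assoc, Over.w])
  haveI : IsFinite g.left := hAfin
  haveI : IsAffine W₁.left := hA.preimage hW.left
  have hg : iW ≫ hW = g ≫ ι := Over.OverMorphism.ext (morphismRestrict_ι _ _).symm
  let a₁ : (yon S).obj W₁ ⟶ P₁ := sqP.lift ((yon S).map iW ≫ aW) ((yon S).map g) (by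
    rw [Category.assoc, hhW, ← Functor.map_comp, hg, Functor.map_comp])
  haveI : Mono ((yon S).map ι) := mono_of_openImm ((repWith_yon_map_iff _ _).2 ‹IsOpenImmersion ι.left›)
  haveI : Mono f₁ := inferInstanceAs (Mono (pullback.fst q ((yon S).map ι)))
  have ha₁f : a₁ ≫ f₁ = (yon S).map iW ≫ aW := sqP.lift_fst _ _ _
  have ha₁q : a₁ ≫ q₁ = (yon S).map g := sqP.lift_snd _ _ _
  have ha₁ : RepWith @Etale a₁ := repWith_of_isPullback (isPullback_id_of_mono ha₁f)
    (repWith_comp ((repWith_yon_map_iff _ _).2 (inferInstanceAs (Etale iW.left))) haW)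
  have ha₁f' : RepWith @IsFinite a₁ := repWith_of_postcomp (g := q₁)
    (repWith_mono (fun _ _ e (_ : IsClosedImmersion e) => inferInstanceAs (IsFinite e)) _
      (isSeparatedMor_of_isPullback sqP hsep))
    (by rw [ha₁q]; exact (repWith_yon_map_iff _ _).2 ‹_›)
  obtain ⟨U₁, b, hb, hbs⟩ := hP₁.atlas
  obtain ⟨g₁, hg₁⟩ := (yon S).map_surjective (b ≫ q₁)
  have hclosed : IsClosed (Points.ofPt b ⁻¹' Set.range (Points.ofPt a₁)) := by
    have sqb := ha₁f'.rep.isPullback' b
    haveI : IsFinite (ha₁f'.rep.snd b).left := ha₁f'.property_snd b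
    have : Points.ofPt b ⁻¹' Set.range (Points.ofPt a₁) = Set.range (ha₁f'.rep.snd b).left := by
      ext x
      constructor
      · rintro ⟨w, hw⟩
        obtain ⟨z, -, hz⟩ := exists_ofPt_of_eq sqb hw
        exact ⟨z, hz⟩
      · rintro ⟨z, rfl⟩
        refine ⟨(ha₁f'.rep.fst' b).left z, ?_⟩
        rw [← ofPt_comp, ← ofPt_comp, sqb.w]
    rw [this]
    exact (ha₁f'.rep.snd b).left.isClosedMap.isClosed_range
  have hs₁ : Function.Surjective (Points.ofPt a₁) := by
    intro t
    obtain ⟨x, rfl⟩ := surjective_ofPt hbs t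
    obtain ⟨η, hη', hmax⟩ := FibDim.exists_maximal_generization x
    have hη0 : coheight η = 0 := coheight_eq_zero.2 fun z hz => by
      rw [hmax z (Scheme.le_iff_specializes.1 hz)]
    have hv₁ : g₁.left η = v₁ := H₁.gen U₁ b g₁ hb hg₁.symm η hη0
    obtain ⟨w, hw⟩ := hcov (Points.map f₁ (Points.ofPt b η)) (by
      rw [← Points.map_comp, sqP.w, Points.map_comp, Points.map_ofPt, ← hg₁, ofPt_yon_map, hv₁]
      exact Points.map_yon_map_apply ι v₁)
    have hwA : hW.left w ∈ A := by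
      have h2 : Points.schemeHomeo V (hW.left w) = Points.schemeHomeo V v := by
        rw [← ofPt_yon_map hW, ← hhW, ← Points.map_ofPt, hw, ← Points.map_comp, sqP.w, Points.map_comp,
          Points.map_ofPt, ← hg₁, ofPt_yon_map, hv₁]
        exact Points.map_yon_map_apply ι v₁
      rw [(Points.schemeHomeo V).injective h2]
      exact hvA
    have hmem : Points.ofPt b η ∈ Set.range (Points.ofPt a₁) := by
      refine ⟨⟨w, hwA⟩, injective_points_map_of_mono f₁ ?_⟩
      rw [Points.map_ofPt, ha₁f, ofPt_comp, ← hw]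
      rfl
    exact hη'.mem_closed hclosed hmem
  haveI : QuasiCompact g.left := inferInstance
  have hs₁' : Function.Surjective (Points.map a₁) := fun t => by
    obtain ⟨w, rfl⟩ := hs₁ t
    exact ⟨Points.ofScheme W₁ w, (Points.ofPt_eq_map_ofScheme _ _).symm⟩
  obtain ⟨V', j, hj, ⟨v', hv'⟩, hfin'⟩ := exists_finite_over_nhd hP₁ q₁
    (isQuasiCompactMor_of_chart hP₁ q₁ hs₁' ha₁q)
    (isQuasiSeparatedMor_of_isSeparatedMor (isSeparatedMor_of_isPullback sqP hsep)) H₁.lft v₁ H₁.coh H₁.qf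
  haveI := hj
  exact ⟨V', j ≫ ι, by rw [Over.comp_left]; infer_instance,
    ⟨v', by rw [Over.comp_left, Scheme.Hom.comp_apply, hv']; rfl⟩, isFiniteMor_snd_comp q ι j hfin'⟩

set_option maxHeartbeats 1600000 in
theorem exists_finite_nhd_of_quasiCompact {P : Sp S} (hP : IsAlgSpace P) {V : Over S} [IsAffine V.left]
    (q : P ⟶ (yon S).obj V) (hqc : IsQuasiCompactMor q) (v : ↥V.left) (H : GenHyp q v) :
    ∃ (V' : Over S) (j : V' ⟶ V), IsOpenImmersion j.left ∧ v ∈ Set.range j.left ∧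
      IsFiniteMor (pullback.snd q ((yon S).map j)) := by
  obtain ⟨W, a, hWa, ha, has⟩ := exists_affine_atlas (isQuasiCompactSp_of_toScheme q hqc)
  haveI : IsAffine W.left := hWa
  obtain ⟨h, hh⟩ := (yon S).map_surjective (a ≫ q)
  haveI : LocallyOfFiniteType h.left :=
    H.lft a (𝟙 _) h ha (repWith_id _ _) (by rw [Category.comp_id]; exact hh.symm)
  haveI : QuasiCompact h.left := HasAffineProperty.iff_of_isAffine.2 (inferInstanceAs (CompactSpace ↥W.left))
  haveI : IsSeparated h.left := inferInstance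
  have hfib : (h.left ⁻¹' {v}).Finite := (FieldFibre.finite_qf_points h.left v).subset fun w hw =>
    ⟨hw, H.qf W a h ha hh.symm w hw⟩
  let R := ha.rep.pullback a
  let s : R ⟶ W := ha.rep.snd a
  let t : R ⟶ W := ha.rep.fst' a
  have sqR : IsPullback ((yon S).map t) ((yon S).map s) a a := ha.rep.isPullback' a
  haveI : Etale s.left := ha.property_snd a
  haveI : IsSeparated s.left := isSeparated_snd_of_isAffine ha
  have hts : t.left ≫ h.left = s.left ≫ h.left := by
    rw [← Over.comp_left, ← Over.comp_left]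
    refine congrArg CommaMorphism.left ((yon S).map_injective ?_)
    rw [Functor.map_comp, Functor.map_comp, hh, reassoc_of% sqR.w]
  have hmono : Mono (pullback.lift t.left s.left hts) := by
    haveI := mono_pullback_lift ha
    let φ : pullback h.left h.left ⟶ pullback W.hom W.hom := pullback.lift (pullback.fst _ _) (pullback.snd _ _)
      (by rw [← Over.w h, pullback.condition_assoc])
    have : pullback.lift t.left s.left hts ≫ φ = pullback.lift t.left s.left
        ((Over.w t).trans (Over.w s).symm) := by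
      ext <;> simp [φ]
    haveI : Mono (pullback.lift t.left s.left hts ≫ φ) := this ▸ mono_pullback_lift ha
    exact mono_of_mono _ φ
  let k : R.left ⟶ V.left := s.left ≫ h.left
  have hRfin : (k ⁻¹' {v}).Finite := by
    let π : pullback h.left h.left ⟶ W.left := pullback.snd h.left h.left
    haveI : LocallyOfFiniteType π := MorphismProperty.pullback_snd (P := @LocallyOfFiniteType) _ _ ‹_›
    haveI : QuasiCompact π := inferInstance
    have hπ : ({z : ↥(pullback h.left h.left : Scheme.{u}) | h.left (π z) = v}).Finite := by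
      refine (hfib.biUnion fun w _ => FieldFibre.finite_qf_points π w).subset fun z hz => ?_
      refine Set.mem_iUnion₂.2 ⟨π z, hz, rfl, ?_⟩
      rw [FibDim.fibreDimAt_baseChange (IsPullback.of_hasPullback h.left h.left)]
      refine H.qf W a h ha hh.symm _ ?_
      show h.left ((pullback.fst h.left h.left) z) = v
      rw [← Scheme.Hom.comp_apply, pullback.condition, Scheme.Hom.comp_apply]
      exact hz
    refine Set.Finite.of_finite_image (hπ.subset ?_) (pullback.lift t.left s.left hts).injective.injOn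
    rintro _ ⟨r, hr, rfl⟩
    show h.left (π _) = v
    rw [← Scheme.Hom.comp_apply (pullback.lift t.left s.left hts), pullback.lift_snd]
    exact hr
  choose B hB hrB _hle using fun r : k ⁻¹' {v} =>
    exists_isAffineOpen_mem_and_subset (U := (⊤ : R.left.Opens)) (x := r.1) trivial
  haveI := hRfin.to_subtype
  let R₀ : R.left.Opens := ⨆ r, B r
  haveI : CompactSpace ↥R₀.toScheme := isCompact_iff_compactSpace.1 (by
    simp only [R₀, Opens.coe_iSup]
    exact isCompact_iUnion fun r => (hB r).isCompact)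
  haveI : IsSeparated k := inferInstanceAs (IsSeparated (s.left ≫ h.left))
  haveI : IsSeparated (R₀.ι ≫ k) := inferInstance
  haveI : QuasiCompact (R₀.ι ≫ k) := HasAffineProperty.iff_of_isAffine.2 (inferInstanceAs (CompactSpace ↥R₀.toScheme))
  have hη : closure {v} ∈ irreducibleComponents ↥V.left := by
    obtain ⟨Z₀, hZ₀, hgen⟩ := exists_component_of_coheight_zero H.coh
    rwa [hgen.def]
  obtain ⟨A, hA, hvA, hAfin⟩ := (Groth.Agent.S2080.result (R₀.ι ≫ k) v hη).1 (by
    refine Set.Finite.of_finite_image (hRfin.subset ?_) R₀.ι.injective.injOn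
    rintro _ ⟨z, hz, rfl⟩
    exact hz)
  -- over `A` the relation is compact
  have hcomp : IsCompact ((k ⁻¹ᵁ A : R.left.Opens) : Set ↥R.left) := by
    haveI : IsFinite ((R₀.ι ≫ k) ∣_ A) := hAfin
    let μ := R₀.ι ∣_ (k ⁻¹ᵁ A)
    have hμ : μ ≫ (k ∣_ A) = (R₀.ι ≫ k) ∣_ A := (morphismRestrict_comp _ _ _).symm
    haveI : UniversallyClosed (μ ≫ (k ∣_ A)) := by rw [hμ]; infer_instance
    haveI : IsSeparated (k ∣_ A) := inferInstance
    haveI : UniversallyClosed μ := .of_comp_of_isSeparated μ (k ∣_ A)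
    haveI : IsAffine A.toScheme := hA
    haveI : QuasiCompact (μ ≫ (k ∣_ A)) := by rw [hμ]; infer_instance
    haveI : CompactSpace ↥((R₀.ι ⁻¹ᵁ (k ⁻¹ᵁ A)).toScheme) :=
      QuasiCompact.compactSpace_of_compactSpace (μ ≫ (k ∣_ A))
    have hsurj : Function.Surjective μ := by
      intro o
      obtain ⟨η, hη', hmax⟩ := FibDim.exists_maximal_generization ((k ⁻¹ᵁ A).ι o)
      have hη0 : coheight η = 0 := coheight_eq_zero.2 fun z hz => by
        rw [hmax z (Scheme.le_iff_specializes.1 hz)]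
      have hkη : k η = v := H.gen W a h ha hh.symm (s.left η) (by rw [← coheight_eq_of_etale s.left η, hη0])
      have hηR : η ∈ R₀ := Opens.mem_iSup.2 ⟨⟨η, hkη⟩, hrB _⟩
      have hηA : η ∈ k ⁻¹ᵁ A := by show k η ∈ A; rw [hkη]; exact hvA
      have hsp : (⟨η, hηA⟩ : ↥(k ⁻¹ᵁ A).toScheme) ⤳ o :=
        (k ⁻¹ᵁ A).ι.isOpenEmbedding.isInducing.specializes_iff.1 hη'
      refine hsp.mem_closed μ.isClosedMap.isClosed_range ⟨⟨⟨η, hηR⟩, hηA⟩, ?_⟩
      apply (k ⁻¹ᵁ A).ι.injective
      rw [← Scheme.Hom.comp_apply, morphismRestrict_ι]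
      rfl
    have := (hsurj.range_eq ▸ isCompact_range μ.continuous : IsCompact (Set.univ : Set ↥(k ⁻¹ᵁ A).toScheme)).image
      (k ⁻¹ᵁ A).ι.continuous
    rwa [Set.image_univ, Scheme.Opens.range_ι] at this
  let V₁ : Over S := Over.mk (A.ι ≫ V.hom)
  let ι : V₁ ⟶ V := CategoryTheory.Over.homMk A.ι rfl
  haveI : IsAffine V₁.left := hA
  haveI : IsOpenImmersion ι.left := inferInstanceAs (IsOpenImmersion A.ι)
  let v₁ : ↥V₁.left := ⟨v, hvA⟩
  have H₁ := H.restrict hP ι v₁ rfl
  let P₁ := pullback q ((yon S).map ι)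
  let f₁ : P₁ ⟶ P := pullback.fst q ((yon S).map ι)
  let q₁ : P₁ ⟶ (yon S).obj V₁ := pullback.snd q ((yon S).map ι)
  have hP₁ : IsAlgSpace P₁ := isAlgSpace_pullback hP (IsAlgSpace.yon_obj _) (IsAlgSpace.yon_obj _) _ _
  have sqP : IsPullback f₁ q₁ q ((yon S).map ι) := IsPullback.of_hasPullback _ _
  haveI : IsAffineHom h.left := inferInstance
  let W₁ : Over S := Over.mk ((h.left ⁻¹ᵁ A).ι ≫ W.hom)
  let iW : W₁ ⟶ W := CategoryTheory.Over.homMk (h.left ⁻¹ᵁ A).ι rfl
  haveI : IsOpenImmersion iW.left := inferInstanceAs (IsOpenImmersion (h.left ⁻¹ᵁ A).ι)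
  haveI : IsAffine W₁.left := hA.preimage h.left
  let g : W₁ ⟶ V₁ := CategoryTheory.Over.homMk (h.left ∣_ A) (by
    change (h.left ∣_ A) ≫ A.ι ≫ V.hom = (h.left ⁻¹ᵁ A).ι ≫ W.hom
    rw [morphismRestrict_ι_assoc, Over.w])
  have hg : iW ≫ h = g ≫ ι := Over.OverMorphism.ext (morphismRestrict_ι _ _).symm
  let a₁ : (yon S).obj W₁ ⟶ P₁ := sqP.lift ((yon S).map iW ≫ a) ((yon S).map g) (by
    rw [Category.assoc, ← hh, ← Functor.map_comp, hg, Functor.map_comp])
  haveI : Mono ((yon S).map ι) := mono_of_openImm ((repWith_yon_map_iff _ _).2 ‹IsOpenImmersion ι.left›)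
  haveI : Mono f₁ := inferInstanceAs (Mono (pullback.fst q ((yon S).map ι)))
  have ha₁f : a₁ ≫ f₁ = (yon S).map iW ≫ a := sqP.lift_fst _ _ _
  have ha₁ : RepWith @Etale a₁ := repWith_of_isPullback (isPullback_id_of_mono ha₁f)
    (repWith_comp ((repWith_yon_map_iff _ _).2 (inferInstanceAs (Etale iW.left))) ha)
  have ha₁s : RepWith @Surjective a₁ := by
    refine repWith_surjective_of_surjective ha₁.rep fun x => ?_
    obtain ⟨w, hw⟩ := surjective_ofPt has (Points.map f₁ x)
    obtain ⟨x', hx'⟩ := (Points.schemeHomeo V₁).surjective (Points.map q₁ x)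
    have hwA : h.left w ∈ A := by
      have h2 : Points.schemeHomeo V (h.left w) = Points.schemeHomeo V (ι.left x') := by
        rw [← ofPt_yon_map h, hh, ← Points.map_ofPt, hw, ← Points.map_comp, sqP.w, Points.map_comp, ← hx']
        exact Points.map_yon_map_apply ι x'
      rw [(Points.schemeHomeo V).injective h2]
      exact x'.2
    refine ⟨Points.ofScheme W₁ ⟨w, hwA⟩, injective_points_map_of_mono f₁ ?_⟩
    rw [← Points.map_comp, ha₁f, ← Points.ofPt_eq_map_ofScheme, ofPt_comp, ← hw]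
    rfl
  let R₁ := ha₁.rep.pullback a₁
  let s₁ : R₁ ⟶ W₁ := ha₁.rep.snd a₁
  let t₁ : R₁ ⟶ W₁ := ha₁.rep.fst' a₁
  have sqR₁ : IsPullback ((yon S).map t₁) ((yon S).map s₁) a₁ a₁ := ha₁.rep.isPullback' a₁
  obtain ⟨ρ, hρ⟩ := (yon S).map_surjective (sqR.lift ((yon S).map (t₁ ≫ iW)) ((yon S).map (s₁ ≫ iW)) (by
    rw [Functor.map_comp, Functor.map_comp, Category.assoc, Category.assoc, ← ha₁f, reassoc_of% sqR₁.w]))
  have hρt : ρ ≫ t = t₁ ≫ iW := (yon S).map_injective (by rw [Functor.map_comp, hρ, sqR.lift_fst])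
  have hρs : ρ ≫ s = s₁ ≫ iW := (yon S).map_injective (by rw [Functor.map_comp, hρ, sqR.lift_snd])
  haveI hiW : Mono ((yon S).map iW) := mono_of_openImm ((repWith_yon_map_iff _ _).2 ‹IsOpenImmersion iW.left›)
  haveI : Mono ρ := ⟨fun x y hxy => (yon S).map_injective (sqR₁.hom_ext
    ((cancel_mono ((yon S).map iW)).1 (by
      rw [← Functor.map_comp, ← Functor.map_comp, ← Functor.map_comp, ← Functor.map_comp, Category.assoc,
        Category.assoc, ← hρt, reassoc_of% hxy]))
    ((cancel_mono ((yon S).map iW)).1 (by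
      rw [← Functor.map_comp, ← Functor.map_comp, ← Functor.map_comp, ← Functor.map_comp, Category.assoc,
        Category.assoc, ← hρs, reassoc_of% hxy])))⟩
  haveI : Mono ρ.left := inferInstanceAs (Mono ((Over.forget S).map ρ))
  let O : Over S := Over.mk ((k ⁻¹ᵁ A).ι ≫ R.hom)
  let iO : O ⟶ R := CategoryTheory.Over.homMk (k ⁻¹ᵁ A).ι rfl
  haveI : CompactSpace ↥O.left := isCompact_iff_compactSpace.1 hcomp
  have hmemA : ∀ o : ↥O.left, s.left (iO.left o) ∈ h.left ⁻¹ᵁ A ∧ t.left (iO.left o) ∈ h.left ⁻¹ᵁ A := fun o => by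
    refine ⟨o.2, ?_⟩
    show h.left (t.left (iO.left o)) ∈ A
    rw [← Scheme.Hom.comp_apply, hts]
    exact o.2
  let lt : O.left ⟶ W₁.left := IsOpenImmersion.lift (h.left ⁻¹ᵁ A).ι (iO.left ≫ t.left) (by
    rintro _ ⟨o, rfl⟩; exact ⟨⟨_, (hmemA o).2⟩, rfl⟩)
  let ls : O.left ⟶ W₁.left := IsOpenImmersion.lift (h.left ⁻¹ᵁ A).ι (iO.left ≫ s.left) (by
    rintro _ ⟨o, rfl⟩; exact ⟨⟨_, (hmemA o).1⟩, rfl⟩)
  let ot : O ⟶ W₁ := CategoryTheory.Over.homMk lt (by
    change lt ≫ (h.left ⁻¹ᵁ A).ι ≫ W.hom = _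
    rw [IsOpenImmersion.lift_fac_assoc, Category.assoc, Over.w t, Over.w iO])
  let os : O ⟶ W₁ := CategoryTheory.Over.homMk ls (by
    change ls ≫ (h.left ⁻¹ᵁ A).ι ≫ W.hom = _
    rw [IsOpenImmersion.lift_fac_assoc, Category.assoc, Over.w s, Over.w iO])
  have hot : ot ≫ iW = iO ≫ t := Over.OverMorphism.ext (IsOpenImmersion.lift_fac _ _ _)
  have hos : os ≫ iW = iO ≫ s := Over.OverMorphism.ext (IsOpenImmersion.lift_fac _ _ _)
  obtain ⟨κ, hκ⟩ := (yon S).map_surjective (sqR₁.lift ((yon S).map ot) ((yon S).map os) (by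
    rw [← cancel_mono f₁, Category.assoc, Category.assoc, ha₁f, ← Functor.map_comp_assoc, hot,
      ← Functor.map_comp_assoc, hos, Functor.map_comp, Functor.map_comp, Category.assoc, Category.assoc, sqR.w]))
  have hκρ : κ ≫ ρ = iO := (yon S).map_injective (sqR.hom_ext
    (by rw [Functor.map_comp, Category.assoc, hρ, sqR.lift_fst, Functor.map_comp, hκ, sqR₁.lift_fst_assoc,
      ← Functor.map_comp, ← Functor.map_comp, hot])
    (by rw [Functor.map_comp, Category.assoc, hρ, sqR.lift_snd, Functor.map_comp, hκ, sqR₁.lift_snd_assoc,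
      ← Functor.map_comp, ← Functor.map_comp, hos]))
  haveI : CompactSpace ↥R₁.left := by
    have hsurj : Function.Surjective κ.left := fun r => by
      have hr : ρ.left r ∈ k ⁻¹ᵁ A := by
        show h.left (s.left (ρ.left r)) ∈ A
        rw [← Scheme.Hom.comp_apply ρ.left, ← Over.comp_left, hρs]
        exact (s₁.left r).2
      refine ⟨⟨ρ.left r, hr⟩, ρ.left.injective ?_⟩
      rw [← Scheme.Hom.comp_apply, ← Over.comp_left, hκρ]
      rfl
    exact ⟨hsurj.range_eq ▸ isCompact_range κ.left.continuous⟩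
  haveI : QuasiCompact t₁.left := HasAffineProperty.iff_of_isAffine.2 (inferInstanceAs (CompactSpace ↥R₁.left))
  have hqs : IsQuasiSeparatedSp P₁ := Groth.Agent.S10182.result ⟨P₁, hP₁⟩ a₁ ha₁ ha₁s s₁ t₁ sqR₁
  have hV₁ : IsQuasiSeparatedSp ((yon S).obj V₁) :=
    AlgSpVal.isQuasiSeparatedSp_of_toAffine (𝟙 _) (isQuasiSeparatedMor_of_isSeparatedMor
      (isSeparatedMor_of_mono (𝟙 _)))
  have hqc₁ : IsQuasiCompactMor q₁ := fun Z Z' hZ hZc g' fst' snd' sq' =>
    hqc hZ hZc (g' ≫ (yon S).map ι) _ snd' (sq'.paste_horiz sqP)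
  obtain ⟨V', j, hj, ⟨v', hv'⟩, hfin'⟩ := exists_finite_over_nhd hP₁ q₁ hqc₁
    (isQuasiSeparatedMor_of_sp q₁ hqs hV₁) H₁.lft v₁ H₁.coh H₁.qf
  haveI := hj
  exact ⟨V', j ≫ ι, by rw [Over.comp_left]; infer_instance,
    ⟨v', by rw [Over.comp_left, Scheme.Hom.comp_apply, hv']; rfl⟩, isFiniteMor_snd_comp q ι j hfin'⟩

end Groth.Agent.AlgSpOne
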