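import Groth.Agent.AlgSpDec.PointsSpectral
import Groth.Agent.AlgSpDec.ConstrDescent
import Groth.Agent.ProConsLib.Image

/-!
# Constructible subsets of the points of a quasi-separated space
-/

set_option autoImplicit false
set_option backward.isDefEq.respectTransparency false
set_option backward.isDefEq.respectTransparency.types false

universe u

open CategoryTheory CategoryTheory.Limits AlgebraicGeometry AlgSp Groth.Agent.AlgSpLib Groth.Agent.AlgSpPts
  Groth.Agent.AlgSpDec Topology TopologicalSpace Groth.Agent.ProConsLib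

namespace Groth.Agent.AlgSpOne

variable {S : Scheme.{u}}

theorem prespectral_qs_points [QuasiSeparatedSpace ↥S] {X : Sp S} (hX : IsAlgSpace X)
    (hqs : IsQuasiSeparatedSp X) : PrespectralSpace (Points X) ∧ QuasiSeparatedSpace (Points X) := by
  let B : Set (Set (Points X)) := {A | ∃ (U : Over S) (a : (yon S).obj U ⟶ X), IsAffine U.left ∧ RepWith @Etale a ∧
    A = Set.range (Points.ofPt a)}
  have hBo : ∀ A ∈ B, IsOpen A := by
    rintro _ ⟨U, a, -, ha, rfl⟩; exact (isOpenMap_ofPt ha).isOpen_range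
  have hBc : ∀ A ∈ B, IsCompact A := by
    rintro _ ⟨U, a, hU, -, rfl⟩
    exact isCompact_range (Points.continuous_ofPt a)
  have hB : IsTopologicalBasis B := isTopologicalBasis_of_isOpen_of_nhds hBo fun x O hx hO => by
    obtain ⟨U, a, u, -, ha, rfl⟩ := exists_affine_chart_at hX x
    obtain ⟨W, hW, huW, hWO⟩ := exists_isAffineOpen_mem_and_subset
      (U := ⟨Points.ofPt a ⁻¹' O, hO.preimage (Points.continuous_ofPt a)⟩) (x := u) hx
    let ι : Over.mk (W.ι ≫ U.hom) ⟶ U := Over.homMk W.ι rfl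
    refine ⟨_, ⟨_, (yon S).map ι ≫ a, hW, repWith_comp ((repWith_yon_map_iff _ ι).2
      (inferInstanceAs (Etale W.ι))) ha, rfl⟩, ⟨(⟨u, huW⟩ : W.toScheme), ofPt_comp _ _ _⟩, ?_⟩
    rintro _ ⟨w, rfl⟩
    rw [ofPt_comp]
    exact hWO (w : W.toScheme).2
  haveI : PrespectralSpace (Points X) := .of_isTopologicalBasis hB hBc
  haveI : QuasiSeparatedSpace (Points X) := ⟨fun A A' hA hAc hA' hA'c => by
    obtain ⟨s, hs, hsA⟩ := hB.open_eq_sUnion hA
    obtain ⟨t, ht, htA⟩ := hB.open_eq_sUnion hA'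
    obtain ⟨s', hs', hsf, hscov⟩ := hAc.elim_finite_subcover_image (b := s) (c := id) (fun i hi => hBo i (hs hi))
      (by rw [hsA, Set.sUnion_eq_biUnion]; rfl)
    obtain ⟨t', ht', htf, htcov⟩ := hA'c.elim_finite_subcover_image (b := t) (c := id) (fun i hi => hBo i (ht hi))
      (by rw [htA, Set.sUnion_eq_biUnion]; rfl)
    have : A ∩ A' = ⋃ i ∈ s', ⋃ k ∈ t', i ∩ k := by
      ext x
      simp only [Set.mem_inter_iff, Set.mem_iUnion]
      constructor
      · rintro ⟨h1, h2⟩
        obtain ⟨i, hi, hxi⟩ := Set.mem_iUnion₂.1 (hscov h1)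
        obtain ⟨k, hk, hxk⟩ := Set.mem_iUnion₂.1 (htcov h2)
        exact ⟨i, hi, k, hk, hxi, hxk⟩
      · rintro ⟨i, hi, k, hk, hxi, hxk⟩
        exact ⟨hsA ▸ ⟨i, hs' hi, hxi⟩, htA ▸ ⟨k, ht' hk, hxk⟩⟩
    rw [this]
    refine hsf.isCompact_biUnion fun i hi => htf.isCompact_biUnion fun k hk => ?_
    obtain ⟨U, a, hU, ha, rfl⟩ := hs (hs' hi)
    obtain ⟨V, b, hV, -, rfl⟩ := ht (ht' hk)
    exact isCompact_range_inter hX hqs ha⟩
  exact ⟨inferInstance, inferInstance⟩

theorem isConstructible_of_preimage {α β : Type*} [TopologicalSpace α] [TopologicalSpace β] [CompactSpace α]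
    [QuasiSeparatedSpace α] [PrespectralSpace α] [QuasiSober α] [CompactSpace β] [QuasiSeparatedSpace β]
    [PrespectralSpace β] [T0Space β] {g : α → β} (hg : IsSpectralMap g) (hs : Function.Surjective g)
    {E : Set β} (hE : IsConstructible (g ⁻¹' E)) : IsConstructible E := by
  have hpre : ∀ {T : Set β}, IsConstructible T → IsConstructible (g ⁻¹' T) := fun hT =>
    hT.preimage hg.continuous fun s hs hs' =>
      (hg.isCompact_preimage_of_isOpen hs hs'.isCompact).isRetrocompact (hs.preimage hg.continuous)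
  have key : ∀ z ∈ E, ∃ K : Set β, IsConstructible K ∧ z ∈ K ∧ K ⊆ E := by
    intro z hz
    by_contra hcon
    push Not at hcon
    let ι := {K : Set β // IsConstructible K ∧ z ∈ K}
    haveI : Nonempty ι := ⟨⟨Set.univ, .univ, trivial⟩⟩
    have hcl : ∀ K : ι, IsClosed[constructibleTopology α] (g ⁻¹' (K.1 \ E)) := fun K =>
      consClosed_of_isConstructible ((hpre K.2.1).sdiff hE)
    have hne : (⋂ K : ι, g ⁻¹' (K.1 \ E)).Nonempty := by
      refine @IsCompact.nonempty_iInter_of_directed_nonempty_isCompact_isClosed α (constructibleTopology α) ι _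
        (fun K : ι => g ⁻¹' (K.1 \ E)) ?_ ?_ ?_ hcl
      · intro K L
        exact ⟨⟨K.1 ∩ L.1, K.2.1.inter L.2.1, K.2.2, L.2.2⟩, fun w hw => ⟨hw.1.1, hw.2⟩,
          fun w hw => ⟨hw.1.2, hw.2⟩⟩
      · intro K
        obtain ⟨y, hyK, hyE⟩ := Set.not_subset.1 (hcon K.1 K.2.1 K.2.2)
        obtain ⟨w, rfl⟩ := hs y
        exact ⟨w, hyK, hyE⟩
      · exact fun K => @IsClosed.isCompact α (constructibleTopology α) _ compactSpace_cons (hcl K)
    obtain ⟨w, hw⟩ := hne
    rw [Set.mem_iInter] at hw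
    refine (hw ⟨Set.univ, .univ, trivial⟩).2 ?_
    suffices g w = z from this.symm ▸ hz
    refine (Inseparable.eq ?_)
    refine inseparable_iff_forall_isOpen.2 fun O hO => ⟨fun hwO => ?_, fun hzO => ?_⟩
    · obtain ⟨K, ⟨hKo, hKc⟩, hwK, hKO⟩ :=
        PrespectralSpace.isTopologicalBasis.exists_subset_of_mem_open hwO hO
      by_contra hzO
      exact (hw ⟨Kᶜ, (hKc.isConstructible hKo).compl, fun h => hzO (hKO h)⟩).1 hwK
    · obtain ⟨K, ⟨hKo, hKc⟩, hzK, hKO⟩ :=
        PrespectralSpace.isTopologicalBasis.exists_subset_of_mem_open hzO hO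
      exact hKO (hw ⟨K, hKc.isConstructible hKo, hzK⟩).1
  choose K hK hzK hKE using fun z : E => key z.1 z.2
  have hopen : ∀ z : E, IsOpen[constructibleTopology α] (g ⁻¹' K z) := fun z => by
    have := consClosed_of_isConstructible (hpre (hK z)).compl
    exact (compl_compl (g ⁻¹' K z)) ▸ @IsClosed.isOpen_compl α (constructibleTopology α) _ this
  obtain ⟨t, ht⟩ := @IsCompact.elim_finite_subcover α (constructibleTopology α) _ _
    (@IsClosed.isCompact α (constructibleTopology α) _ compactSpace_cons (consClosed_of_isConstructible hE))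
    (fun z : E => g ⁻¹' K z) hopen (fun w hw => Set.mem_iUnion.2 ⟨⟨g w, hw⟩, hzK _⟩)
  have : E = ⋃ z ∈ t, K z := by
    refine Set.Subset.antisymm (fun y hy => ?_) (Set.iUnion₂_subset fun z _ => hKE z)
    obtain ⟨w, rfl⟩ := hs y
    simpa using ht hy
  rw [this]
  exact IsConstructible.biUnion t.finite_toSet fun z _ => hK z

theorem isCompact_preimage_chart [QuasiSeparatedSpace ↥S] {X : Sp S} (hX : IsAlgSpace X)
    (hqs : IsQuasiSeparatedSp X) {U : Over S} [CompactSpace ↥U.left] {a : (yon S).obj U ⟶ X}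
    (ha : RepWith @Etale a) {K : Set (Points X)} (hK : IsCompact K) (hKo : IsOpen K) :
    IsCompact (Points.ofPt a ⁻¹' K) := by
  have hq : ∀ (W : Over S) [CompactSpace ↥W.left], IsQuasiCompactSp ((yon S).obj W) := fun W _ => by
    haveI : CompactSpace (Points ((yon S).obj W)) := (Points.schemeHomeo _).compactSpace
    exact (isQuasiCompactSp_iff (IsAlgSpace.yon_obj W)).2 ‹_›
  have hm := isQuasiCompactMor_of_qc_qs (IsAlgSpace.yon_obj U) hX (hq U) hqs a
  choose V b v hVa hb hv using fun x : Points X => exists_affine_chart_at hX x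
  choose A hA hvA hAK using fun x : K => exists_isAffineOpen_mem_and_subset (x := v x.1)
    (U := (⟨Points.ofPt (b x.1) ⁻¹' K, hKo.preimage (Points.continuous_ofPt _)⟩ : (V x.1).left.Opens))
    (show Points.ofPt (b x.1) (v x.1) ∈ K by rw [hv]; exact x.2)
  obtain ⟨t, ht⟩ := hK.elim_finite_subcover (fun x : K => Points.ofPt (b x.1) '' (A x : Set ↥(V x.1).left))
    (fun x => isOpenMap_ofPt (hb x.1) _ (A x).2)
    (fun z hz => Set.mem_iUnion.2 ⟨⟨z, hz⟩, v z, hvA _, hv z⟩)
  have key : Points.ofPt a ⁻¹' K = ⋃ x ∈ t, Points.ofPt a ⁻¹' (Points.ofPt (b x.1) '' (A x : Set ↥(V x.1).left)) := by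
    refine Set.Subset.antisymm (fun u hu => by simpa using ht hu) ?_
    rintro u hu
    obtain ⟨x, -, w, hw, hwu⟩ := Set.mem_iUnion₂.1 hu
    show Points.ofPt a u ∈ K
    rw [← hwu]
    exact hAK x hw
  rw [key]
  refine t.finite_toSet.isCompact_biUnion fun x _ => ?_
  let W : Over S := Over.mk ((A x).ι ≫ (V x.1).hom)
  let ι : W ⟶ V x.1 := CategoryTheory.Over.homMk (A x).ι rfl
  haveI : CompactSpace ↥W.left := isCompact_iff_compactSpace.1 (hA x).isCompact
  have sq := ha.rep.isPullback' ((yon S).map ι ≫ b x.1)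
  have hP := hm (IsAlgSpace.yon_obj W) (hq W) _ _ _ sq
  let R := ha.rep.pullback ((yon S).map ι ≫ b x.1)
  haveI : CompactSpace ↥R.left :=
    haveI := (isQuasiCompactSp_iff (IsAlgSpace.yon_obj _)).1 hP
    (Points.schemeHomeo R).symm.compactSpace
  convert isCompact_range (ha.rep.fst' ((yon S).map ι ≫ b x.1)).left.continuous using 1
  ext u
  constructor
  · rintro ⟨w, hw, hwu⟩
    obtain ⟨r, hr, -⟩ := exists_ofPt_of_eq sq (u := u) (v := (⟨w, hw⟩ : ↥(A x : Scheme.{u})))
      (hwu.symm.trans (ofPt_comp ι (b x.1) (⟨w, hw⟩ : ↥(A x : Scheme.{u}))).symm)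
    exact ⟨r, hr⟩
  · rintro ⟨r, rfl⟩
    refine ⟨ι.left ((ha.rep.snd ((yon S).map ι ≫ b x.1)).left r), Subtype.coe_prop _, ?_⟩
    rw [← ofPt_comp ι (b x.1), ← ofPt_comp, ← ofPt_comp, sq.w]

theorem etale_constructible_iff [QuasiSeparatedSpace ↥S] {X : Sp S} (hX : IsAlgSpace X)
    (hqs : IsQuasiSeparatedSp X) (E : Set (Points X)) :
    (∀ (U : Over S) (a : (yon S).obj U ⟶ X), RepWith @Etale a → IsLocallyConstructible (Points.ofPt a ⁻¹' E)) ↔
      IsLocallyConstructible E := by
  obtain ⟨hps, hqsp⟩ := prespectral_qs_points hX hqs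
  haveI := t0Space_points hX (isDecent_of_isQuasiSeparatedSp hX hqs)
  constructor
  · intro H x
    obtain ⟨U, a, u, hUa, ha, rfl⟩ := exists_affine_chart_at hX x
    haveI : IsAffine U.left := hUa
    let A : Set (Points X) := Set.range (Points.ofPt a)
    have hAo : IsOpen A := (isOpenMap_ofPt ha).isOpen_range
    have hAc : IsCompact A := isCompact_range (Points.continuous_ofPt a)
    refine ⟨A, hAo.mem_nhds ⟨u, rfl⟩, hAo, ?_⟩
    haveI : CompactSpace A := isCompact_iff_compactSpace.1 hAc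
    haveI : QuasiSeparatedSpace A := .of_isOpenEmbedding hAo.isOpenEmbedding_subtypeVal
    haveI : PrespectralSpace A := hAo.isOpenEmbedding_subtypeVal.prespectralSpace
    let g : ↥U.left → A := Set.rangeFactorization (Points.ofPt a)
    have hg : IsSpectralMap g := by
      refine ⟨(Points.continuous_ofPt a).subtype_mk _, fun K hKo hKc => ?_⟩
      have := isCompact_preimage_chart hX hqs ha (hKc.image continuous_subtype_val)
        (hAo.isOpenMap_subtype_val _ hKo)
      convert this using 1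
      ext w
      exact ⟨fun h => ⟨g w, h, rfl⟩, fun ⟨z, hz, hzw⟩ => by rwa [Set.mem_preimage, ← (Subtype.ext hzw : z = g w)]⟩
    exact isConstructible_of_preimage hg Set.rangeFactorization_surjective
      (H U a ha).isConstructible
  · intro hE U a ha u
    obtain ⟨W, hW, huW, -⟩ := exists_isAffineOpen_mem_and_subset (U := (⊤ : U.left.Opens)) (x := u) trivial
    let W' : Over S := Over.mk (W.ι ≫ U.hom)
    let ι : W' ⟶ U := CategoryTheory.Over.homMk W.ι rfl
    haveI : IsAffine W'.left := hW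
    let aW : (yon S).obj W' ⟶ X := (yon S).map ι ≫ a
    have haW : RepWith @Etale aW :=
      repWith_comp ((repWith_yon_map_iff _ _).2 (inferInstanceAs (Etale W.ι))) ha
    let A : Set (Points X) := Set.range (Points.ofPt aW)
    have h1 : IsConstructible (E ∩ A) := hE.inter_of_isOpen_isCompact (isOpenMap_ofPt haW).isOpen_range
      (isCompact_range (Points.continuous_ofPt aW))
    have h2 : IsConstructible (Points.ofPt aW ⁻¹' (E ∩ A)) := h1.preimage (Points.continuous_ofPt aW) fun K hKo hKr => by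
      refine (QuasiSeparatedSpace.isRetrocompact_iff_isCompact (hKo.preimage (Points.continuous_ofPt aW))).2 ?_
      have : Points.ofPt aW ⁻¹' K = Points.ofPt aW ⁻¹' (K ∩ A) := by
        ext w; exact ⟨fun h => ⟨h, w, rfl⟩, fun h => h.1⟩
      rw [this]
      exact isCompact_preimage_chart hX hqs haW
        (hKr (isCompact_range (Points.continuous_ofPt aW)) (isOpenMap_ofPt haW).isOpen_range)
        (hKo.inter (isOpenMap_ofPt haW).isOpen_range)
    refine ⟨W, W.isOpen.mem_nhds huW, W.isOpen, ?_⟩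
    have e : Points.ofPt aW ⁻¹' (E ∩ A) = (fun w : ↥W'.left => ι.left w) ⁻¹' (Points.ofPt a ⁻¹' E) := by
      ext w
      have hw : Points.ofPt aW w = Points.ofPt a (ι.left w) := ofPt_comp ι a w
      exact ⟨fun h => show Points.ofPt a (ι.left w) ∈ E from hw ▸ h.1,
        fun h => ⟨show Points.ofPt aW w ∈ E from hw.symm ▸ h, w, rfl⟩⟩
    rw [e] at h2
    exact h2

end Groth.Agent.AlgSpOne
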