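import Groth.Agent.AlgSpDec.OpenCoverSpace
import Groth.Agent.AlgSpDec.MonoRep
import Groth.Agent.AlgSpPts.FppfTarget
import Groth.Agent.AlgSpLib.FpqcDescent
import Groth.Prelude.Def_Desc

/-!
# Representability by effective descent
-/

set_option autoImplicit false
set_option backward.isDefEq.respectTransparency false
set_option backward.isDefEq.respectTransparency.types false

universe u

open CategoryTheory CategoryTheory.Limits AlgebraicGeometry Opposite AlgSp Groth.Agent.AlgSpLib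

namespace Groth.Agent.AlgSpOne

variable {S : Scheme.{u}} {F G : Sp S} {f : G ⟶ F} {T X V : Over S} {t : (yon S).obj T ⟶ F}
  {p : X ⟶ T} {g : V ⟶ X} {w : (yon S).obj V ⟶ G}

/-- Two `T₁`-points of `V` have the same image in `G`. -/
def SameImg (w : (yon S).obj V ⟶ G) {T₁ : Scheme.{u}} (v₀ v₁ : T₁ ⟶ V.left) : Prop :=
  ∃ (z : T₁ ⟶ S) (e₀ : v₀ ≫ V.hom = z) (e₁ : v₁ ≫ V.hom = z),
    (yon S).map (Over.homMk v₀ e₀ : Over.mk z ⟶ V) ≫ w = (yon S).map (Over.homMk v₁ e₁ : Over.mk z ⟶ V) ≫ w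

theorem SameImg.refl {T₁ : Scheme.{u}} (v : T₁ ⟶ V.left) : SameImg w v v := ⟨_, rfl, rfl, rfl⟩

theorem SameImg.symm {T₁ : Scheme.{u}} {v₀ v₁ : T₁ ⟶ V.left} (h : SameImg w v₀ v₁) : SameImg w v₁ v₀ := by
  obtain ⟨z, e₀, e₁, h⟩ := h
  exact ⟨z, e₁, e₀, h.symm⟩

theorem SameImg.trans {T₁ : Scheme.{u}} {v₀ v₁ v₂ : T₁ ⟶ V.left} (h : SameImg w v₀ v₁) (h' : SameImg w v₁ v₂) :
    SameImg w v₀ v₂ := by
  obtain ⟨z, e₀, e₁, h⟩ := h
  obtain ⟨z', e₁', e₂, h'⟩ := h'
  obtain rfl : z = z' := e₁.symm.trans e₁'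
  exact ⟨z, e₀, e₂, h.trans h'⟩

theorem SameImg.comp {T₁ T₂ : Scheme.{u}} (k : T₂ ⟶ T₁) {v₀ v₁ : T₁ ⟶ V.left} (h : SameImg w v₀ v₁) :
    SameImg w (k ≫ v₀) (k ≫ v₁) := by
  obtain ⟨z, e₀, e₁, h⟩ := h
  refine ⟨k ≫ z, by rw [Category.assoc, e₀], by rw [Category.assoc, e₁], ?_⟩
  let k' : Over.mk (k ≫ z) ⟶ Over.mk z := Over.homMk k rfl
  have := congrArg ((yon S).map k' ≫ ·) h
  simp only [← Functor.map_comp_assoc] at this
  exact this

theorem SameImg.of_over {Z : Over S} {a b : Z ⟶ V} (h : (yon S).map a ≫ w = (yon S).map b ≫ w) :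
    SameImg w a.left b.left :=
  ⟨Z.hom, Over.w a, Over.w b, h⟩

theorem SameImg.to_over {Z : Over S} {a b : Z ⟶ V} (h : SameImg w a.left b.left) :
    (yon S).map a ≫ w = (yon S).map b ≫ w := by
  obtain ⟨z, e₀, e₁, h⟩ := h
  obtain rfl : Z.hom = z := (Over.w a).symm.trans e₀
  exact h

section dd

variable (sq : IsPullback w ((yon S).map g) f ((yon S).map p ≫ t))
include sq

theorem existsUnique_move {T₁ : Scheme.{u}} (x₀ x₁ : T₁ ⟶ X.left) (h : x₀ ≫ p.left = x₁ ≫ p.left)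
    (v : Desc.Lifts (Over.mk g.left) x₀) : ∃! v' : Desc.Lifts (Over.mk g.left) x₁, SameImg w v.1 v'.1 := by
  have hv : v.1 ≫ g.left = x₀ := v.2
  let Z : Over S := Over.mk (v.1 ≫ V.hom)
  let a : Z ⟶ V := Over.homMk v.1 rfl
  let x : Z ⟶ X := Over.homMk x₁ (by
    change x₁ ≫ X.hom = v.1 ≫ V.hom
    rw [← Over.w g, ← Category.assoc, hv, ← Over.w p, ← Category.assoc, ← Category.assoc, h])
  have hax : (a ≫ g) ≫ p = x ≫ p := Over.OverMorphism.ext (by
    change (v.1 ≫ g.left) ≫ p.left = x₁ ≫ p.left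
    rw [hv, h])
  obtain ⟨b, hb⟩ := (yon S).map_surjective (sq.lift ((yon S).map a ≫ w) ((yon S).map x) (by
    rw [Category.assoc, sq.w, ← Functor.map_comp_assoc, ← Functor.map_comp_assoc, ← Functor.map_comp_assoc, hax]))
  have hbx : b ≫ g = x := (yon S).map_injective (by rw [Functor.map_comp, hb, sq.lift_snd])
  have hbw : (yon S).map b ≫ w = (yon S).map a ≫ w := by rw [hb, sq.lift_fst]
  refine ⟨⟨b.left, congrArg Over.Hom.left hbx⟩, SameImg.of_over hbw.symm, fun v' hv' => Subtype.ext ?_⟩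
  have hv'x : v'.1 ≫ g.left = x₁ := v'.2
  obtain ⟨z, e₀, e₁, hz⟩ := hv'
  obtain rfl : v.1 ≫ V.hom = z := e₀
  refine (congrArg Over.Hom.left ((yon S).map_injective (sq.hom_ext ?_ ?_) : (Over.homMk v'.1 e₁ : Z ⟶ V) = b) :)
  · rw [hbw]; exact hz.symm
  · rw [← Functor.map_comp, ← Functor.map_comp, hbx]
    exact congrArg _ (Over.OverMorphism.ext hv'x)

/-- The point over `x₁` with the same image in `G`. -/
noncomputable def move {T₁ : Scheme.{u}} (x₀ x₁ : T₁ ⟶ X.left) (h : x₀ ≫ p.left = x₁ ≫ p.left)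
    (v : Desc.Lifts (Over.mk g.left) x₀) : Desc.Lifts (Over.mk g.left) x₁ :=
  (existsUnique_move sq x₀ x₁ h v).choose

theorem sameImg_move {T₁ : Scheme.{u}} (x₀ x₁ : T₁ ⟶ X.left) (h : x₀ ≫ p.left = x₁ ≫ p.left)
    (v : Desc.Lifts (Over.mk g.left) x₀) : SameImg w v.1 (move sq x₀ x₁ h v).1 :=
  (existsUnique_move sq x₀ x₁ h v).choose_spec.1

theorem move_eq {T₁ : Scheme.{u}} (x₀ x₁ : T₁ ⟶ X.left) (h : x₀ ≫ p.left = x₁ ≫ p.left)
    (v : Desc.Lifts (Over.mk g.left) x₀) (v' : Desc.Lifts (Over.mk g.left) x₁) (hs : SameImg w v.1 v'.1) :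
    move sq x₀ x₁ h v = v' :=
  ((existsUnique_move sq x₀ x₁ h v).choose_spec.2 v' hs).symm

/-- The descent datum on the pullback of `f` to a covering of `T`. -/
noncomputable def pullDD : Desc.SchDD p.left where
  obj := Over.mk g.left
  φ _ x₀ x₁ h :=
    { toFun := move sq x₀ x₁ h
      invFun := move sq x₁ x₀ h.symm
      left_inv := fun v => move_eq sq _ _ _ _ _ (sameImg_move sq _ _ _ v).symm
      right_inv := fun v => move_eq sq _ _ _ _ _ (sameImg_move sq _ _ _ v).symm }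
  φ_natural _ _ k x₀ x₁ h h' v v' hv' := by
    let v₁ : Desc.Lifts (Over.mk g.left) (k ≫ x₁) := ⟨k ≫ (move sq x₀ x₁ h v).1, by
      rw [Category.assoc, (move sq x₀ x₁ h v).2]⟩
    exact congrArg Subtype.val (move_eq sq _ _ h' v' v₁ (by rw [hv']; exact (sameImg_move sq x₀ x₁ h v).comp k))
  φ_self _ x v := move_eq sq x x rfl v v (SameImg.refl _)
  φ_comp _ x₀ x₁ x₂ h₀₁ h₁₂ v :=
    (move_eq sq x₀ x₂ (h₀₁.trans h₁₂) v _ ((sameImg_move sq x₀ x₁ h₀₁ v).trans (sameImg_move sq x₁ x₂ h₁₂ _))).symm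

end dd

/-- If the descent datum is effective, the fibre product is representable. -/
theorem exists_rep_of_effective (hp : fppf p.left) (sq : IsPullback w ((yon S).map g) f ((yon S).map p ≫ t))
    (heff : (Desc.toDD p.left).essImage (pullDD sq)) :
    ∃ (Y : Over S) (k : Y ⟶ T) (v : (yon S).obj Y ⟶ G), IsPullback v ((yon S).map k) f t := by
  obtain ⟨Y₀, ⟨e⟩⟩ := heff
  let Y : Over S := Over.mk (Y₀.hom ≫ T.hom)
  let k : Y ⟶ T := Over.homMk Y₀.hom rfl
  let P₀ := Desc.canonicalDD p.left Y₀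
  let il : V.left ⟶ pullback p.left Y₀.hom := e.inv.hom.left
  let hl : pullback p.left Y₀.hom ⟶ V.left := e.hom.hom.left
  let ψ₀ : V.left ⟶ Y₀.left := il ≫ pullback.snd p.left Y₀.hom
  have hinv : il ≫ pullback.fst p.left Y₀.hom = g.left := Over.w e.inv.hom
  have hψ₀ : ψ₀ ≫ Y₀.hom = g.left ≫ p.left := by
    simp only [ψ₀, Category.assoc, ← pullback.condition]
    rw [← Category.assoc, hinv]
  let eo : pullback p.left Y₀.hom ≅ V.left :=
    { hom := hl
      inv := il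
      hom_inv_id := congrArg CommaMorphism.left (congrArg Desc.SchDD.Hom.hom e.hom_inv_id)
      inv_hom_id := congrArg CommaMorphism.left (congrArg Desc.SchDD.Hom.hom e.inv_hom_id) }
  have sqY₀ : IsPullback ψ₀ g.left Y₀.hom p.left :=
    (IsPullback.of_hasPullback p.left Y₀.hom).flip.of_iso eo (Iso.refl _) (Iso.refl _) (Iso.refl _)
      (by simp only [Iso.refl_hom, Category.comp_id, ψ₀]; exact (eo.hom_inv_id_assoc _).symm)
      (by simp only [Iso.refl_hom, Category.comp_id, ← hinv]; exact (eo.hom_inv_id_assoc _).symm)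
      (by simp) (by simp)
  let ψ : V ⟶ Y := Over.homMk ψ₀ (by
    change ψ₀ ≫ Y₀.hom ≫ T.hom = V.hom
    rw [← Category.assoc, hψ₀, Category.assoc, Over.w p, Over.w g])
  have hψk : ψ ≫ k = g ≫ p := Over.OverMorphism.ext hψ₀
  have sqY : IsPullback ψ g k p := IsPullback.of_map (Over.forget S) hψk sqY₀
  have hψf : fppf ψ.left := MorphismProperty.of_isPullback sqY₀.flip hp
  -- the same image in `G` and in `Y`
  have hmove : ∀ {T₁ : Scheme.{u}} (x₀ x₁ : T₁ ⟶ X.left) (h : x₀ ≫ p.left = x₁ ≫ p.left)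
      (v : Desc.Lifts (Over.mk g.left) x₀), (move sq x₀ x₁ h v).1 ≫ ψ₀ = v.1 ≫ ψ₀ := by
    intro T₁ x₀ x₁ h v
    let v₀ : Desc.Lifts P₀.obj x₀ := ⟨v.1 ≫ il, by
      change (v.1 ≫ il) ≫ pullback.fst p.left Y₀.hom = x₀
      rw [Category.assoc, hinv]; exact v.2⟩
    have hcomm : (P₀.φ x₀ x₁ h v₀).1 = (move sq x₀ x₁ h v).1 ≫ il :=
      e.inv.comm x₀ x₁ h v v₀ rfl
    change (move sq x₀ x₁ h v).1 ≫ il ≫ _ = v.1 ≫ il ≫ _
    rw [← Category.assoc, ← hcomm]
    change (Desc.canMap p.left Y₀ x₀ x₁ h v₀).1 ≫ _ = _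
    rw [Desc.canMap_val, pullback.lift_snd]
    exact Category.assoc _ _ _
  have hcompat : ∀ ⦃Z : Over S⦄ (a b : Z ⟶ V), a ≫ ψ = b ≫ ψ →
      (yon S).map a ≫ w = (yon S).map b ≫ w := by
    intro Z a b hab
    have hab' : a.left ≫ ψ₀ = b.left ≫ ψ₀ := congrArg Over.Hom.left hab
    have h : (a.left ≫ g.left) ≫ p.left = (b.left ≫ g.left) ≫ p.left := by
      rw [Category.assoc, Category.assoc, ← hψ₀, ← Category.assoc, hab', Category.assoc]
    let va : Desc.Lifts (Over.mk g.left) (a.left ≫ g.left) := ⟨a.left, rfl⟩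
    have hb : (move sq _ _ h va).1 = b.left := sqY₀.hom_ext ((hmove _ _ h va).trans hab') (move sq _ _ h va).2
    exact SameImg.to_over (hb ▸ sameImg_move sq _ _ h va)
  have hR : Sieve.generate (Presieve.singleton ψ) ∈ J S Y :=
    mem_J_of_fppf ψ hψf _ ⟨_, 𝟙 _, ψ, Presieve.singleton_self ψ, Category.id_comp _⟩
  have hs : Presieve.IsSheafFor G.obj (Presieve.singleton ψ) :=
    (Presieve.isSheafFor_iff_generate _).2 (((isSheaf_iff_isSheaf_of_type _ _).1 G.property) _ hR)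
  obtain ⟨s, hs', -⟩ := Presieve.isSheafFor_singleton.1 hs ((J S).uliftYonedaEquiv w) fun {Z} a b hab => by
    rw [uliftYonedaEquiv_precomp, uliftYonedaEquiv_precomp, hcompat a b hab]
  let G' : (yon S).obj Y ⟶ G := (J S).uliftYonedaEquiv.symm s
  have hG : (yon S).map ψ ≫ G' = w := (J S).uliftYonedaEquiv.injective (by
    rw [← uliftYonedaEquiv_precomp, Equiv.apply_symm_apply, hs'])
  have hGk : G' ≫ f = (yon S).map k ≫ t := hom_ext_of_fppf ψ hψf _ _ (by
    rw [← Category.assoc, hG, sq.w, ← Functor.map_comp_assoc, ← Functor.map_comp_assoc, hψk])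
  let c : (yon S).obj Y ⟶ pullback f t := pullback.lift G' ((yon S).map k) hGk
  have hmono : Mono c := by
    refine mono_of_yon_injective fun Z a b hab => ?_
    obtain ⟨a, rfl⟩ := (yon S).map_surjective a
    obtain ⟨b, rfl⟩ := (yon S).map_surjective b
    have hab₁ : (yon S).map a ≫ G' = (yon S).map b ≫ G' := by
      simpa [c] using congrArg (· ≫ pullback.fst f t) hab
    have hab₂ : a ≫ k = b ≫ k := (yon S).map_injective (by
      simpa [c] using congrArg (· ≫ pullback.snd f t) hab)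
    let π₀ : Over.mk (pullback.fst (a ≫ k).left p.left ≫ Z.hom) ⟶ Z :=
      Over.homMk (pullback.fst (a ≫ k).left p.left) rfl
    let x : Over.mk (pullback.fst (a ≫ k).left p.left ≫ Z.hom) ⟶ X :=
      Over.homMk (pullback.snd (a ≫ k).left p.left) (by
        change pullback.snd (a ≫ k).left p.left ≫ X.hom = pullback.fst _ _ ≫ Z.hom
        rw [← Over.w (a ≫ k), ← Over.w p, pullback.condition_assoc])
    have hx : (π₀ ≫ a) ≫ k = x ≫ p := by
      rw [Category.assoc]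
      exact Over.OverMorphism.ext pullback.condition
    obtain ⟨a', ha₁, ha₂⟩ := sqY.exists_lift (π₀ ≫ a) x hx
    obtain ⟨b', hb₁, hb₂⟩ := sqY.exists_lift (π₀ ≫ b) x (by rw [Category.assoc, ← hab₂, ← Category.assoc, hx])
    refine hom_ext_of_fppf π₀ (MorphismProperty.pullback_fst _ _ hp) _ _ ?_
    rw [← Functor.map_comp, ← Functor.map_comp, ← ha₁, ← hb₁]
    congr 2
    refine (yon S).map_injective (sq.hom_ext ?_ ?_)
    · rw [← hG, ← Functor.map_comp_assoc, ← Functor.map_comp_assoc, ha₁, hb₁, Functor.map_comp, Functor.map_comp,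
        Category.assoc, Category.assoc, hab₁]
    · rw [← Functor.map_comp, ← Functor.map_comp, ha₂, hb₂]
  have hls : Sheaf.IsLocallySurjective c := by
    refine isLocallySurjective_of_lifts c fun Z l => ?_
    obtain ⟨z, hz⟩ := (yon S).map_surjective (l ≫ pullback.snd f t)
    let π₀ : Over.mk (pullback.fst z.left p.left ≫ Z.hom) ⟶ Z := Over.homMk (pullback.fst z.left p.left) rfl
    let x : Over.mk (pullback.fst z.left p.left ≫ Z.hom) ⟶ X := Over.homMk (pullback.snd z.left p.left) (by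
      change pullback.snd z.left p.left ≫ X.hom = pullback.fst _ _ ≫ Z.hom
      rw [← Over.w z, ← Over.w p, pullback.condition_assoc])
    have hx : π₀ ≫ z = x ≫ p := Over.OverMorphism.ext pullback.condition
    obtain ⟨b, hb⟩ := (yon S).map_surjective (sq.lift ((yon S).map π₀ ≫ l ≫ pullback.fst f t) ((yon S).map x) (by
      simp only [Category.assoc, pullback.condition, ← reassoc_of% hz, ← Functor.map_comp_assoc, hx]))
    have hbw : (yon S).map b ≫ w = (yon S).map π₀ ≫ l ≫ pullback.fst f t := by rw [hb, sq.lift_fst]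
    have hbg : b ≫ g = x := (yon S).map_injective (by rw [Functor.map_comp, hb, sq.lift_snd])
    refine ⟨_, π₀, (yon S).map (b ≫ ψ), MorphismProperty.pullback_fst _ _ hp, pullback.hom_ext ?_ ?_⟩
    · simp only [c, Category.assoc, pullback.lift_fst, Functor.map_comp, hG, hbw]
    · simp only [c, Category.assoc, pullback.lift_snd, ← hz, ← Functor.map_comp, hψk, reassoc_of% hbg, hx]
  have := isIso_of_mono_of_locallySurjective c
  exact ⟨Y, k, G', IsPullback.of_iso_pullback ⟨hGk⟩ (asIso c) (by simp [c]) (by simp [c])⟩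

end Groth.Agent.AlgSpOne
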