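import Groth.Agent.AlgSpDec.MonoPoint
import Groth.Agent.AlgSpDec.LimOpen
import Groth.Agent.AlgSpDec.OpenCoverSpace
import Groth.Agent.AlgSpPts.FppfTarget
import Mathlib.AlgebraicGeometry.Morphisms.LocalFlatDescent

/-!
# A point of a space is the image of a monomorphism from a quotient of a field
-/

set_option backward.isDefEq.respectTransparency false
set_option backward.isDefEq.respectTransparency.types false

universe u

open CategoryTheory Limits Opposite AlgebraicGeometry AlgSp Groth.Agent.AlgSpLib Groth.Agent.AlgSpPts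
  Groth.Agent.AlgSpDec

namespace Groth.Agent.AlgSpOne

variable {S : Scheme.{u}} {X : Sp S}

theorem isPullback_of_comp_mono {C : Type*} [Category C] {P A B E D : C} {fst : P ⟶ A} {snd : P ⟶ B}
    {f : A ⟶ E} {g : B ⟶ E} (i : E ⟶ D) [Mono i] {f' : A ⟶ D} {g' : B ⟶ D} (hf : f ≫ i = f')
    (hg : g ≫ i = g') (h : IsPullback fst snd f' g') : IsPullback fst snd f g := by
  subst hf hg
  exact ⟨⟨(cancel_mono i).1 (by rw [Category.assoc, h.w, Category.assoc])⟩,
    ⟨PullbackCone.IsLimit.mk _ (fun c => h.lift c.fst c.snd (by rw [reassoc_of% c.condition]))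
      (fun c => h.lift_fst _ _ _) (fun c => h.lift_snd _ _ _)
      fun c n h1 h2 => h.hom_ext (h1.trans (h.lift_fst _ _ _).symm) (h2.trans (h.lift_snd _ _ _).symm)⟩⟩

/-- The residue field of a point of an etale chart has etale kernel pair over the space. -/
theorem exists_etale_kernelPair {U : Over S} {a : (yon S).obj U ⟶ X} (ha : RepWith @Etale a) (u : ↥U.left) :
    ∃ (R : Over S) (t s : R ⟶ (FieldPt.ofPt a u).pt),
      IsPullback ((yon S).map t) ((yon S).map s) (FieldPt.ofPt a u).toHom (FieldPt.ofPt a u).toHom ∧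
        Etale s.left := by
  let p := FieldPt.ofPt a u
  let ju : p.pt ⟶ U := CategoryTheory.Over.homMk (U.left.fromSpecResidueField u) rfl
  have hp : p.toHom = (yon S).map ju ≫ a := FieldPt.toHom_ofPt a u
  have : Mono ju.left := inferInstanceAs (Mono (U.left.fromSpecResidueField u))
  let R₁ := ha.rep.pullback p.toHom
  let t₁ : R₁ ⟶ U := ha.rep.fst' p.toHom
  let s₁ : R₁ ⟶ p.pt := ha.rep.snd p.toHom
  have sq₁ : IsPullback ((yon S).map t₁) ((yon S).map s₁) a p.toHom := ha.rep.isPullback' p.toHom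
  have : Etale s₁.left := ha.property_snd p.toHom
  have : IsReduced p.pt.left := inferInstanceAs (IsReduced (Spec (CommRingCat.of p.K)))
  have : IsReduced R₁.left := isReduced_of_etaleMor s₁.left
  have : DiscreteTopology ↥R₁.left := by
    have h1 := s₁.left.isDiscrete_preimage_singleton (IsLocalRing.closedPoint p.K)
    rw [show s₁.left ⁻¹' {IsLocalRing.closedPoint p.K} = Set.univ from
      Set.eq_univ_of_forall fun x => Subsingleton.elim (α := ↥p.pt.left) _ _] at h1
    exact isDiscrete_univ_iff.1 h1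
  let O : R₁.left.Opens := ⟨{r | t₁.left r = u}, isOpen_discrete _⟩
  have : IsReduced O.toScheme := isReduced_of_isOpenImmersion O.ι
  obtain ⟨l, hl⟩ := exists_factor_residueField (O.ι ≫ t₁.left) u fun o => o.2
  let R : Over S := Over.mk (O.ι ≫ R₁.hom)
  let jO : R ⟶ R₁ := CategoryTheory.Over.homMk O.ι rfl
  let t : R ⟶ p.pt := CategoryTheory.Over.homMk l (by
    change l ≫ U.left.fromSpecResidueField u ≫ U.hom = O.ι ≫ R₁.hom
    rw [reassoc_of% hl, CategoryTheory.Over.w])
  have ht : t ≫ ju = jO ≫ t₁ := Over.OverMorphism.ext hl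
  have hju : Mono ju := (Over.forget S).mono_of_mono_map (inferInstanceAs (Mono ju.left))
  have hjO : Mono jO := (Over.forget S).mono_of_mono_map (inferInstanceAs (Mono O.ι))
  have key : ∀ c : PullbackCone ju t₁, ∃ m : c.pt ⟶ R, m ≫ t = c.fst ∧ m ≫ jO = c.snd := fun c => by
    have hr : Set.range c.snd.left ⊆ Set.range O.ι := by
      rw [Scheme.Opens.range_ι]
      rintro _ ⟨z, rfl⟩
      change t₁.left (c.snd.left z) = u
      rw [← Scheme.Hom.comp_apply, ← Over.comp_left, ← c.condition, Over.comp_left, Scheme.Hom.comp_apply]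
      exact Scheme.fromSpecResidueField_apply _ _
    let m : c.pt ⟶ R := CategoryTheory.Over.homMk (IsOpenImmersion.lift O.ι c.snd.left hr) (by
      change IsOpenImmersion.lift O.ι c.snd.left hr ≫ O.ι ≫ R₁.hom = _
      rw [IsOpenImmersion.lift_fac_assoc]; exact Over.w c.snd)
    have hm : m ≫ jO = c.snd := Over.OverMorphism.ext (IsOpenImmersion.lift_fac _ _ _)
    refine ⟨m, (cancel_mono ju).1 ?_, hm⟩
    rw [Category.assoc, ht, reassoc_of% hm, c.condition]
  choose m hm₁ hm₂ using key
  have sq₂ : IsPullback t jO ju t₁ := ⟨⟨ht⟩, ⟨PullbackCone.IsLimit.mk _ m hm₁ hm₂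
    fun c n _ hn => (cancel_mono jO).1 (hn.trans (hm₂ c).symm)⟩⟩
  refine ⟨R, t, jO ≫ s₁, ?_, ?_⟩
  · have h := (sq₂.map (yon S)).paste_vert sq₁
    rw [← hp, ← Functor.map_comp] at h
    exact h
  · rw [Over.comp_left]
    exact (inferInstance : Etale (O.ι ≫ s₁.left))

/-- Every point is the image of a monomorphism from a space with an etale surjection from a field. -/
theorem exists_residual (hX : IsAlgSpace X) (x : Points X) :
    ∃ (Z : Space S) (i : Z.obj ⟶ X) (p : FieldPt Z.obj), Mono i ∧ Set.range (Points.map i) = {x} ∧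
      RepWith @Etale p.toHom ∧ RepWith @Surjective p.toHom := by
  obtain ⟨U, a, u, -, ha, hu⟩ := exists_affine_chart_at hX x
  obtain ⟨R, t, s, sq, hs⟩ := exists_etale_kernelPair ha u
  let q := FieldPt.ofPt a u
  let π : (yon S).obj q.pt ⟶ Sheaf.image q.toHom := Sheaf.toImage q.toHom
  let i : Sheaf.image q.toHom ⟶ X := Sheaf.imageι q.toHom
  have hπi : π ≫ i = q.toHom := Sheaf.toImage_ι _
  have hr : Representable π := fun T ξ => by
    obtain ⟨P, snd, fst, h⟩ := (representable_from_yon' hX q.toHom) (ξ ≫ i)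
    exact ⟨P, snd, fst, isPullback_of_comp_mono i hπi rfl h⟩
  have sqπ : IsPullback ((yon S).map t) ((yon S).map s) π π := isPullback_of_comp_mono i hπi hπi sq
  have : MorphismProperty.IsLocalAtTarget (@Etale : MorphismProperty Scheme.{u}) Scheme.fppfPrecoverage :=
    isLocalAtTarget_fppf _
  have : MorphismProperty.IsLocalAtTarget (@Surjective : MorphismProperty Scheme.{u}) Scheme.fppfPrecoverage :=
    isLocalAtTarget_fppf _
  have : Surjective s.left := ⟨fun y => by
    have : Subsingleton ↥q.pt.left := inferInstanceAs (Subsingleton ↥(Spec (CommRingCat.of q.K)))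
    obtain ⟨r, -⟩ := exists_ofPt_of_eq sq (u := y) (v := y) rfl
    exact ⟨r, Subsingleton.elim _ _⟩⟩
  have hπe : RepWith @Etale π :=
    repWith_of_locallySurjective hr π sqπ _ ((repWith_yon_map_iff _ s).2 hs)
  have hπs : RepWith @Surjective π :=
    repWith_of_locallySurjective hr π sqπ _ ((repWith_yon_map_iff _ s).2 this)
  have hZ : IsAlgSpace (Sheaf.image q.toHom) :=
    { diag := Functor.relativelyRepresentable.diag_iff.2 fun {T} ξ T' η => by
        obtain ⟨P, snd, fst, h⟩ := hX.representable_from_yon (ξ ≫ i) (η ≫ i)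
        exact ⟨P, snd, fst, isPullback_of_comp_mono i rfl rfl h⟩
      atlas := ⟨q.pt, π, hπe, hπs⟩ }
  let p : FieldPt (Sheaf.image q.toHom) := ⟨q.K, q.str, (J S).uliftYonedaEquiv π⟩
  have hp : p.toHom = π := Equiv.symm_apply_apply _ _
  refine ⟨⟨_, hZ⟩, i, p, inferInstanceAs (Mono (Sheaf.imageι q.toHom)), ?_, by rw [hp]; exact hπe,
    by rw [hp]; exact hπs⟩
  refine Set.eq_singleton_iff_nonempty_unique_mem.2 ⟨⟨_, Points.ofPt π (IsLocalRing.closedPoint q.K), rfl⟩, ?_⟩
  rintro _ ⟨z, rfl⟩
  obtain ⟨v, rfl⟩ := surjective_ofPt hπs z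
  rw [Points.map_ofPt, hπi, Points.ofPt_toHom, ← hu]
  rfl

end Groth.Agent.AlgSpOne
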