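import Groth.Agent.AlgSpDec.MonoPoint
import Groth.Agent.AlgSpPts.Field
import Groth.Agent.AlgSpLib.EtLocalInst
import Groth.Agent.AlgSpOne.Residual

/-!
# Finiteness of the points of a fibre product over two given points
-/

set_option autoImplicit false
set_option backward.isDefEq.respectTransparency false
set_option backward.isDefEq.respectTransparency.types false

universe u

open CategoryTheory Limits Opposite AlgebraicGeometry AlgSp Groth.Agent.AlgSpLib Groth.Agent.AlgSpPts
  Groth.Agent.AlgSpDec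

namespace Groth.Agent.AlgSpOne

variable {S : Scheme.{u}}

theorem isPullback_comp_mono {C : Type*} [Category C] {P A B E D : C} {fst : P ⟶ A} {snd : P ⟶ B}
    {f : A ⟶ E} {g : B ⟶ E} (h : IsPullback fst snd f g) (i : E ⟶ D) [Mono i] :
    IsPullback fst snd (f ≫ i) (g ≫ i) :=
  ⟨⟨by rw [← Category.assoc, h.w, Category.assoc]⟩,
    ⟨PullbackCone.IsLimit.mk _ (fun c => h.lift c.fst c.snd ((cancel_mono i).1 (by simpa using c.condition)))
      (fun c => h.lift_fst _ _ _) (fun c => h.lift_snd _ _ _)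
      fun c n h1 h2 => h.hom_ext (h1.trans (h.lift_fst _ _ _).symm) (h2.trans (h.lift_snd _ _ _).symm)⟩⟩

theorem finite_points_over_pair {X Y Z W : Sp S} (hY : IsAlgSpace Y) {f : X ⟶ Y} {g : Z ⟶ Y} {p : W ⟶ X}
    {q : W ⟶ Z} (hW : IsPullback p q f g) (x : Points X) (z : Points Z)
    (hxz : Points.map f x = Points.map g z)
    (hy : ∃ r : FieldPt Y, Points.mk r = Points.map g z ∧ Mono r.toHom)
    (hg : HasAtMor (fun U _ h u => ∃ W : U.Opens, u ∈ W ∧ LocallyQuasiFinite (W.ι ≫ h) ∧
      LocallyOfFiniteType (W.ι ≫ h)) g z) :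
    {w : Points W | Points.map p w = x ∧ Points.map q w = z}.Finite := by
  obtain ⟨r, hr, hmr⟩ := hy
  obtain ⟨U, V, a, b, h, u, ha, hb, w, hu, O, huO, hO, hO'⟩ := hg
  induction x using Points.ind with
  | h px =>
  have hrr : Representable r.toHom := representable_from_yon' hY _
  have hfx : Points.ofPt (px.toHom ≫ f) (IsLocalRing.closedPoint px.K) = Points.map f (Points.mk px) := by
    rw [← Points.map_ofPt, Points.ofPt_toHom]
  obtain ⟨c, hc, -⟩ := existsUnique_factor r.toHom hrr (px.toHom ≫ f)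
    (by rw [hfx, Points.ofPt_toHom, hr, hxz])
  -- the fibre of the chart over the point
  let Vk := hb.rep.pullback r.toHom
  let v₁ : Vk ⟶ V := hb.rep.fst' r.toHom
  let v₂ : Vk ⟶ r.pt := hb.rep.snd r.toHom
  have sqV : IsPullback ((yon S).map v₁) ((yon S).map v₂) b r.toHom := hb.rep.isPullback' r.toHom
  have : Etale v₂.left := hb.property_snd r.toHom
  let O' : Over S := Over.mk (O.ι ≫ U.hom)
  let j : O' ⟶ U := CategoryTheory.Over.homMk O.ι rfl
  have : LocallyQuasiFinite (j ≫ h).left := hO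
  let Uk := pullback (j ≫ h) v₁
  let k₁ : Uk ⟶ O' := pullback.fst (j ≫ h) v₁
  let k₂ : Uk ⟶ r.pt := pullback.snd (j ≫ h) v₁ ≫ v₂
  have : LocallyQuasiFinite ((Over.forget S).map (pullback.snd (j ≫ h) v₁)) :=
    MorphismProperty.of_isPullback (P := @LocallyQuasiFinite)
      ((IsPullback.of_hasPullback (j ≫ h) v₁).map (Over.forget S)) hO
  have : LocallyQuasiFinite (pullback.snd (j ≫ h) v₁).left := this
  have hk₂ : LocallyQuasiFinite k₂.left := by
    rw [Over.comp_left]
    infer_instance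
  have hgO : ((yon S).map j ≫ a) ≫ g = (yon S).map (j ≫ h) ≫ b := by
    rw [Category.assoc, w, Functor.map_comp, Category.assoc]
  have sqU : IsPullback ((yon S).map k₁) ((yon S).map k₂) (((yon S).map j ≫ a) ≫ g) r.toHom := by
    rw [hgO, Functor.map_comp (yon S) (pullback.snd _ _) v₂]
    exact ((IsPullback.of_hasPullback (j ≫ h) v₁).map (yon S)).paste_vert sqV
  have hju : Points.ofPt ((yon S).map j ≫ a) (⟨u, huO⟩ : ↥(O : Scheme.{u})) = z :=
    (ofPt_comp j a _).trans hu
  obtain ⟨n₀, hn₀, -⟩ := exists_ofPt_of_eq sqU (u := (⟨u, huO⟩ : ↥(O : Scheme.{u})))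
    (v := IsLocalRing.closedPoint r.K) (by
      rw [← Points.map_ofPt, hju, Points.ofPt_toHom, hr])
  -- an affine neighbourhood of the point in the fibre
  obtain ⟨N, hN, hnN, -⟩ := exists_isAffineOpen_mem_and_subset (U := (⊤ : Uk.left.Opens)) (x := n₀) trivial
  let N' : Over S := Over.mk (N.ι ≫ Uk.hom)
  let i : N' ⟶ Uk := CategoryTheory.Over.homMk N.ι rfl
  have : IsAffine N'.left := hN
  let ζ : (yon S).obj N' ⟶ Z := (yon S).map (i ≫ k₁) ≫ (yon S).map j ≫ a
  have hζ : ζ ≫ g = (yon S).map (i ≫ k₂) ≫ r.toHom := by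
    simp only [ζ, Functor.map_comp, Category.assoc]
    congr 1
    simpa only [Category.assoc] using sqU.w
  have hζn : Points.ofPt ζ (⟨n₀, hnN⟩ : ↥(N : Scheme.{u})) = z := by
    refine (ofPt_comp (i ≫ k₁) _ _).trans ?_
    rw [← hju]
    exact congrArg _ hn₀
  -- its base change to the field of definition of the point of `X`
  let NK := pullback (i ≫ k₂) c
  let m₁ : NK ⟶ N' := pullback.fst (i ≫ k₂) c
  let m₂ : NK ⟶ px.pt := pullback.snd (i ≫ k₂) c
  have : IsAffine px.pt.left := inferInstanceAs (IsAffine (Spec (CommRingCat.of px.K)))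
  have : IsAffine r.pt.left := inferInstanceAs (IsAffine (Spec (CommRingCat.of r.K)))
  have : LocallyQuasiFinite (i ≫ k₂).left := by
    have : LocallyQuasiFinite i.left := inferInstanceAs (LocallyQuasiFinite N.ι)
    rw [Over.comp_left]
    infer_instance
  have sqN := (IsPullback.of_hasPullback (i ≫ k₂) c).map (Over.forget S)
  have : LocallyQuasiFinite m₂.left := MorphismProperty.of_isPullback (P := @LocallyQuasiFinite) sqN ‹_›
  have : IsAffineHom (i ≫ k₂).left := inferInstance
  have : IsAffineHom m₂.left := MorphismProperty.of_isPullback (P := @IsAffineHom) sqN ‹_›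
  have : Finite ↥NK.left := by
    refine Set.finite_univ_iff.1 ?_
    rw [show (Set.univ : Set ↥NK.left) = m₂.left ⁻¹' {IsLocalRing.closedPoint px.K} from
      (Set.eq_univ_of_forall fun _ => Subsingleton.elim (α := ↥(Spec (CommRingCat.of px.K))) _ _).symm]
    exact m₂.left.finite_preimage_singleton _
  have sqK : IsPullback ((yon S).map m₁) ((yon S).map m₂) (ζ ≫ g) (px.toHom ≫ f) := by
    rw [hζ, ← hc]
    exact isPullback_comp_mono ((IsPullback.of_hasPullback (i ≫ k₂) c).map (yon S)) r.toHom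
  let l : (yon S).obj NK ⟶ W := hW.lift ((yon S).map m₂ ≫ px.toHom) ((yon S).map m₁ ≫ ζ)
    (by simp only [Category.assoc]; exact sqK.w.symm)
  refine (Set.finite_range (fun n : ↥NK.left => Points.ofPt l n)).subset ?_
  rintro t ⟨ht₁, ht₂⟩
  let P := pullback p px.toHom
  have sqP : IsPullback (pullback.fst p px.toHom) (pullback.snd p px.toHom) p px.toHom :=
    IsPullback.of_hasPullback _ _
  obtain ⟨t', ht'₁, -⟩ := exists_point_of_isPullback sqP (x := t)
    (y := Points.ofPt (𝟙 _) (IsLocalRing.closedPoint px.K))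
    (by rw [Points.map_ofPt, Category.id_comp, Points.ofPt_toHom, ht₁])
  have sqPg : IsPullback (pullback.fst p px.toHom ≫ q) (pullback.snd p px.toHom) g (px.toHom ≫ f) :=
    sqP.paste_horiz hW.flip
  let l' : (yon S).obj NK ⟶ P := pullback.lift l ((yon S).map m₂) (hW.lift_fst _ _ _)
  have hl'q : l' ≫ pullback.fst p px.toHom ≫ q = (yon S).map m₁ ≫ ζ := by
    rw [pullback.lift_fst_assoc, hW.lift_snd]
  have sq' : IsPullback l' ((yon S).map m₁) (pullback.fst p px.toHom ≫ q) ζ := by
    refine IsPullback.of_right ?_ hl'q sqPg.flip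
    rw [pullback.lift_snd]
    exact sqK.flip
  obtain ⟨n, hn, -⟩ := exists_point_of_isPullback sq' (x := t')
    (y := Points.ofPt (𝟙 _) (⟨n₀, hnN⟩ : ↥(N : Scheme.{u}))) (by
      rw [Points.map_comp, ht'₁, ht₂, Points.map_ofPt, Category.id_comp, hζn])
  obtain ⟨n, rfl⟩ := (Points.schemeHomeo NK).surjective n
  refine ⟨n, ?_⟩
  show Points.ofPt l n = t
  rw [← ht'₁, ← hn, ← Points.map_comp]
  rw [pullback.lift_fst]
  exact (Points.map_ofPt _ _ _).trans (by rw [Category.id_comp]) |>.symm

end Groth.Agent.AlgSpOne
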