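import Groth.Agent.AlgSpOne.LimStage
import Groth.Agent.AlgSpDec.LimAffine
import Groth.Agent.AlgSpLib.Covers
import Groth.Agent.AlgStLib.FppfSite
import Groth.Agent.LimSm.Cover

/-!
# Finite affine fppf families along affine limits
-/

set_option autoImplicit false
set_option backward.isDefEq.respectTransparency false
set_option backward.isDefEq.respectTransparency.types false

universe u

open CategoryTheory Limits Opposite AlgebraicGeometry AlgSp Groth.Agent.AlgSpLib Groth.Agent.AlgSpDec

namespace Groth.Agent.AlgSpOne.FppfStage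

variable {S : Scheme.{u}}

/-- A finite jointly surjective family of flat, finitely presented maps from affine schemes. -/
structure Fam (T : Over S) where
  /-- the index type -/
  ι : Type u
  fin : Finite ι
  /-- the members -/
  Z : ι → Over S
  /-- the maps -/
  v : ∀ a, Z a ⟶ T
  affine : ∀ a, IsAffine (Z a).left
  flat : ∀ a, Flat (v a).left
  lfp : ∀ a, LocallyOfFinitePresentation (v a).left
  surj : ∀ x : T.left, ∃ a, x ∈ Set.range (v a).left

theorem mem_J {T : Over S} {ι : Type u} (U : ι → Over S) (v : ∀ a, U a ⟶ T) (hf : ∀ a, Flat (v a).left)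
    (hp : ∀ a, LocallyOfFinitePresentation (v a).left) (hs : ∀ x : T.left, ∃ a, x ∈ Set.range (v a).left)
    (R : Sieve T) (hR : ∀ a, R (v a)) : R ∈ J S T := by
  rw [GrothendieckTopology.mem_over_iff]
  have hmem : Presieve.ofArrows (fun i => (U i).left) (fun i => (v i).left) ∈
      Scheme.fppfPrecoverage T.left := by
    rw [Scheme.fppfPrecoverage, Scheme.ofArrows_mem_precoverage_iff]
    exact ⟨hs, fun i => ⟨hf i, hp i⟩⟩
  refine GrothendieckTopology.superset_covering _ ?_ (Precoverage.generate_mem_toGrothendieck hmem)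
  rw [Sieve.generate_le_iff]
  rintro _ _ ⟨i⟩
  rw [Sieve.overEquiv_iff]
  convert R.downward_closed (hR i)
    (Over.homMk (U := Over.mk ((v i).left ≫ T.hom)) (V := U i) (𝟙 _) (by simp)) using 1
  ext
  simp

theorem Fam.mem_J' {T : Over S} (C : Fam T) : Sieve.ofArrows C.Z C.v ∈ J S T :=
  mem_J C.Z C.v C.flat C.lfp C.surj _ fun a => Sieve.ofArrows_mk _ _ a

/-- A covering of an affine scheme contains a finite affine family. -/
theorem exists_fam {T : Over S} [IsAffine T.left] {R : Sieve T} (hR : R ∈ J S T) :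
    ∃ C : Fam T, ∀ a, R (C.v a) := by
  obtain ⟨ι, V, v, hf, hp, hs, hRv⟩ := AlgStLib.exists_fppf_of_mem_J hR
  obtain ⟨m, W, idx, k, hW, hk, hWs⟩ := AlgSpLib.exists_affine_refinement V v
    (fun i => have := hf i; have := hp i; (v i).left.isOpenMap) hs
  refine ⟨⟨ULift.{u} (Fin m), inferInstance, fun a => W a.down, fun a => k a.down ≫ v (idx a.down),
    fun a => hW a.down, fun a => ?_, fun a => ?_, fun x => ?_⟩, fun a => R.downward_closed (hRv _) _⟩
  · have := hk a.down
    have := hf (idx a.down)
    exact inferInstanceAs (Flat ((k a.down).left ≫ (v (idx a.down)).left))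
  · have := hk a.down
    have := hp (idx a.down)
    exact inferInstanceAs (LocallyOfFinitePresentation ((k a.down).left ≫ (v (idx a.down)).left))
  · obtain ⟨j, hj⟩ := hWs x
    exact ⟨⟨j⟩, hj⟩

variable {I : Type u} [SmallCategory I] [IsCofiltered I]

/-- The base changes of an affine scheme over a stage. -/
structure Sys (D : I ⥤ Over S) (c : Cone D) {i : I} {Z : Over S} (v : Z ⟶ D.obj i) where
  /-- the system -/
  W : Over i ⥤ Over S
  /-- the limit -/
  cW : Cone W
  lim : IsLimit ((Over.forget S).mapCone cW)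
  affine : ∀ l, IsAffine (W.obj l).left
  affinePt : IsAffine cW.pt.left
  /-- the projection to the scheme -/
  p : cW.pt ⟶ Z
  /-- the projection to the limit -/
  q : cW.pt ⟶ c.pt
  /-- the projections to the stages -/
  a : ∀ l, W.obj l ⟶ D.obj l.left
  /-- the projections to the scheme -/
  b : ∀ l, W.obj l ⟶ Z
  nat : ∀ {l m : Over i} (φ : l ⟶ m), W.map φ ≫ a m = a l ≫ D.map φ.left
  natb : ∀ {l m : Over i} (φ : l ⟶ m), W.map φ ≫ b m = b l
  sq : ∀ l, IsPullback (a l) (b l) (D.map l.hom) v
  sqLim : IsPullback q p (c.π.app i) v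
  hq : ∀ l : Over i, q ≫ c.π.app l.left = cW.π.app l ≫ a l
  hp : ∀ l, p = cW.π.app l ≫ b l

theorem exists_sys (D : I ⥤ Over S) (hA : ∀ i, IsAffine (D.obj i).left) (c : Cone D)
    (hc : IsLimit ((Over.forget S).mapCone c)) {i : I} {Z : Over S} [IsAffine Z.left] (v : Z ⟶ D.obj i) :
    Nonempty (Sys D c v) := by
  haveI := IsCofiltered.isConnected I
  haveI := IsCofiltered.isConnected (Over i)
  haveI : ∀ j, IsAffine (D.obj j).left := hA
  obtain ⟨W, cW, hcW, p, fst, a, b, haw, sqW, hwb, hAW, hWA, sqj, hfst, hp⟩ :=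
    exists_limit_square'' (D ⋙ yon S) (fun j k g => isAffineMor_of_repWith le_rfl
      ((repWith_yon_map_iff @IsAffineHom (D.map g)).2 inferInstance)) ((yon S).mapCone c)
      (isLimitOfPreserves (yon S) (isLimitOfReflects (Over.forget S) hc)) i ((yon S).map v)
  choose a' ha' using fun l => (yon S).map_surjective (a l)
  obtain ⟨q, hq⟩ := (yon S).map_surjective fst
  refine ⟨⟨W, cW, isLimitOfPreserves (Over.forget S) hcW, hWA, hAW, p, q, a', b, fun {l m} φ => ?_, @hwb,
    fun l => ?_, ?_, fun l => ?_, hp⟩⟩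
  · apply (yon S).map_injective
    rw [Functor.map_comp, Functor.map_comp, ha', ha']
    exact haw φ
  · have h := sqj l
    rw [← ha'] at h
    exact IsPullback.of_map (yon S) ((yon S).map_injective (by
      rw [Functor.map_comp, Functor.map_comp]; exact h.w)) h
  · have h := sqW
    rw [← hq] at h
    exact IsPullback.of_map (yon S) ((yon S).map_injective (by
      rw [Functor.map_comp, Functor.map_comp]; exact h.w)) h
  · apply (yon S).map_injective
    rw [Functor.map_comp, Functor.map_comp, hq, ha']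
    exact hfst l

/-- The base change of a family to a stage. -/
noncomputable def pullFam {D : I ⥤ Over S} {c : Cone D} {i : I} (C : Fam (D.obj i)) (Ws : ∀ a, Sys D c (C.v a))
    (l : Over i) : Fam (D.obj l.left) where
  ι := C.ι
  fin := C.fin
  Z a := (Ws a).W.obj l
  v a := (Ws a).a l
  affine a := (Ws a).affine l
  flat a := MorphismProperty.of_isPullback (((Ws a).sq l).map (Over.forget S)).flip (C.flat a)
  lfp a := MorphismProperty.of_isPullback (((Ws a).sq l).map (Over.forget S)).flip (C.lfp a)
  surj x := by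
    obtain ⟨a, z, hz⟩ := C.surj ((D.map l.hom).left x)
    obtain ⟨w, hw, -⟩ := Scheme.exists_preimage_of_isPullback (((Ws a).sq l).map (Over.forget S)) x z hz.symm
    exact ⟨a, w, hw⟩

/-- The base change of a family to the limit. -/
noncomputable def limFam {D : I ⥤ Over S} {c : Cone D} {i : I} (C : Fam (D.obj i)) (Ws : ∀ a, Sys D c (C.v a)) :
    Fam c.pt where
  ι := C.ι
  fin := C.fin
  Z a := (Ws a).cW.pt
  v a := (Ws a).q
  affine a := (Ws a).affinePt
  flat a := MorphismProperty.of_isPullback ((Ws a).sqLim.map (Over.forget S)).flip (C.flat a)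
  lfp a := MorphismProperty.of_isPullback ((Ws a).sqLim.map (Over.forget S)).flip (C.lfp a)
  surj x := by
    obtain ⟨a, z, hz⟩ := C.surj ((c.π.app i).left x)
    obtain ⟨w, hw, -⟩ := Scheme.exists_preimage_of_isPullback ((Ws a).sqLim.map (Over.forget S)) x z hz.symm
    exact ⟨a, w, hw⟩

/-- A covering of the limit is refined by the base change of a family over a stage. -/
theorem exists_stage_fam (D : I ⥤ Over S) (hA : ∀ i, IsAffine (D.obj i).left) (c : Cone D)
    (hc : IsLimit ((Over.forget S).mapCone c)) (hT : IsAffine c.pt.left) {R : Sieve c.pt} (hR : R ∈ J S c.pt)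
    (i : I) :
    ∃ (k : I) (_ : k ⟶ i) (C : Fam (D.obj k)), ∀ (a : C.ι) {P : Over S} (p : P ⟶ C.Z a) (q : P ⟶ c.pt),
      p ≫ C.v a = q ≫ c.π.app k → R q := by
  haveI := hT
  obtain ⟨C₀, hC₀⟩ := exists_fam hR
  haveI := IsCofiltered.isConnected (Over i)
  let E := CategoryTheory.Over.forget i ⋙ D ⋙ Over.forget S
  let e : Cone E := ((Over.forget S).mapCone c).whisker (CategoryTheory.Over.forget i)
  have he : IsLimit e := (Functor.Initial.isLimitWhiskerEquiv (CategoryTheory.Over.forget i) _).symm hc
  haveI : ∀ j, IsAffine (E.obj j) := fun j => hA _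
  haveI : IsAffine e.pt := hT
  haveI : ∀ (j l : Over i) (f : j ⟶ l), IsAffineHom (E.map f) := fun j l f => inferInstance
  let u₀ : ∀ a, (C₀.Z a).left ⟶ e.pt := fun a => (C₀.v a).left
  haveI : ∀ a, IsAffine (C₀.Z a).left := C₀.affine
  haveI : ∀ a, LocallyOfFinitePresentation (u₀ a) := C₀.lfp
  obtain ⟨k, n, V, v, idx, ee, hv, hcov, hsq⟩ := LimSm.exists_descend_cover (P := @Flat) LimSm.core_flat
    (fun {A B} f hf hP => have := hf; have := hP; f.isOpenMap.isOpen_range) E e he
    (Classical.arbitrary (Over i)) (fun a => (C₀.Z a).left) u₀ C₀.flat C₀.surj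
  let U : ULift.{u} (Fin n) → Over S := fun j => Over.mk (v j.down ≫ (D.obj k.left).hom)
  let vU : ∀ j, U j ⟶ D.obj k.left := fun j => Over.homMk (v j.down) rfl
  haveI : IsAffine (D.obj k.left).left := hA _
  obtain ⟨m, W, ix, w, hW, hw, hWs⟩ := AlgSpLib.exists_affine_refinement U vU
    (fun j => have := (hv j.down).1; have := (hv j.down).2.1; (v j.down).isOpenMap)
    (fun x => (hcov x).elim fun j ⟨y, hy⟩ => ⟨⟨j⟩, y, hy⟩)
  refine ⟨k.left, k.hom, ⟨ULift.{u} (Fin m), inferInstance, fun a => W a.down, fun a => w a.down ≫ vU (ix a.down),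
    fun a => hW a.down, fun a => ?_, fun a => ?_, fun x => (hWs x).elim fun j hj => ⟨⟨j⟩, hj⟩⟩,
    fun a P p q hpq => ?_⟩
  · have := hw a.down
    have := (hv (ix a.down).down).1
    exact inferInstanceAs (Flat ((w a.down).left ≫ v (ix a.down).down))
  · have := hw a.down
    have := (hv (ix a.down).down).2.1
    exact inferInstanceAs (LocallyOfFinitePresentation ((w a.down).left ≫ v (ix a.down).down))
  · have w' : (p.left ≫ (w a.down).left) ≫ v (ix a.down).down = q.left ≫ e.π.app k :=
      (Category.assoc _ _ _).trans (congrArg CommaMorphism.left hpq)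
    let t : P ⟶ C₀.Z (idx (ix a.down).down) := Over.homMk ((hsq _).lift _ _ w') (by
      rw [← Over.w (C₀.v _), ← Category.assoc]
      exact (congrArg (· ≫ c.pt.hom) ((hsq _).lift_snd _ _ w')).trans (Over.w q))
    have ht : t ≫ C₀.v _ = q := Over.OverMorphism.ext ((hsq _).lift_snd _ _ w')
    exact ht ▸ R.downward_closed (hC₀ _) t

end Groth.Agent.AlgSpOne.FppfStage
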