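import Groth.Agent.AlgSpOne.CodimZeroFinite
import Groth.Agent.AlgSpOne.FiniteFibre
import Groth.Agent.S10336

/-!
# A dense open over which a morphism is finite
-/

set_option autoImplicit false
set_option backward.isDefEq.respectTransparency false
set_option backward.isDefEq.respectTransparency.types false

universe u

open CategoryTheory Limits Opposite AlgebraicGeometry AlgSp Groth.Agent.AlgSpLib Groth.Agent.AlgSpPts
  Groth.Agent.AlgSpDec Groth.Agent.AlgSpDec.PointLocus TopologicalSpace Order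

namespace Groth.Agent.AlgSpOne

variable {S : Scheme.{u}}

/-- Being a point of codimension zero. -/
abbrev IsCodimZero (X : Sp S) (x : Points X) : Prop :=
  HasAt (fun U u => ringKrullDim ↥(U.presheaf.stalk u) = 0) X x

theorem exists_finite_open_at (X Y : Space S) (f : X.obj ⟶ Y.obj) (hf : LocP @LocallyOfFiniteType f)
    (hY : IsDecent Y.obj) (hX0 : {x | IsCodimZero X.obj x}.Finite) (hY0 : {y | IsCodimZero Y.obj y}.Finite)
    (hpre : ∀ x, IsCodimZero X.obj x ↔ IsCodimZero Y.obj (Points.map f x))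
    (hqs : IsQuasiCompactMor f ∨ IsSeparatedMor f) (y : Points Y.obj) (hy : IsCodimZero Y.obj y) :
    ∃ (Y' : Space S) (k : Y' ⟶ Y) (X' : Space S) (fst : X' ⟶ Y') (snd : X'.obj ⟶ X.obj),
      RepWith @IsOpenImmersion k.hom ∧ y ∈ Set.range (Points.map k.hom) ∧
      IsPullback fst.hom snd k.hom f ∧ IsFiniteMor fst.hom := by
  obtain ⟨V, b, v, hVa, hb, rfl⟩ := exists_affine_chart_at Y.property y
  haveI : IsAffine V.left := hVa
  have hv : coheight v = 0 := (hasAt_codimZero_iff hb v).1 hy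
  -- shrink the chart to a single maximal point
  have hfinfib : ∀ z : Points Y.obj, (Points.ofPt b ⁻¹' {z}).Finite := fun z => by
    obtain ⟨p, hp, -, hq⟩ := hY z
    exact hp ▸ finite_fibre_of_repWith hb p hq
  let M : Set ↥V.left := {η | coheight η = 0 ∧ η ≠ v}
  have hM : M.Finite := by
    refine (hY0.biUnion fun z _ => hfinfib z).subset fun η hη => ?_
    exact Set.mem_iUnion₂.2 ⟨_, (hasAt_codimZero_iff hb η).2 hη.1, rfl⟩
  obtain ⟨A, hA, hvA, hAM⟩ := exists_isAffineOpen_mem_and_subset (x := v)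
    (U := (⟨(⋃ η ∈ M, closure {η})ᶜ, (hM.isClosed_biUnion fun _ _ => isClosed_closure).isOpen_compl⟩ : V.left.Opens))
    (fun hmem => by
      obtain ⟨η, hη, hvη⟩ := Set.mem_iUnion₂.1 hmem
      exact hη.2 (eq_of_specializes_of_coheight hv (specializes_iff_mem_closure.2 hvη)))
  let V₁ : Over S := Over.mk (A.ι ≫ V.hom)
  let ι : V₁ ⟶ V := CategoryTheory.Over.homMk A.ι rfl
  haveI : IsAffine V₁.left := hA
  haveI : IsOpenImmersion ι.left := inferInstanceAs (IsOpenImmersion A.ι)
  let b₁ : (yon S).obj V₁ ⟶ Y.obj := (yon S).map ι ≫ b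
  have hb₁ : RepWith @Etale b₁ :=
    repWith_comp ((repWith_yon_map_iff _ _).2 (inferInstanceAs (Etale ι.left))) hb
  let v₁ : ↥V₁.left := ⟨v, hvA⟩
  have hv₁ : Points.ofPt b₁ v₁ = Points.ofPt b v := ofPt_comp ι b v₁
  have hco₁ : coheight v₁ = 0 := (hasAt_codimZero_iff hb₁ v₁).1 (hv₁ ▸ hy)
  have huniq : ∀ η : ↥V₁.left, coheight η = 0 → η = v₁ := fun η hη => by
    refine ι.left.injective ?_
    by_contra hne
    refine hAM η.2 (Set.mem_iUnion₂.2 ⟨ι.left η, ⟨?_, hne⟩, subset_closure rfl⟩)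
    rwa [← coheight_eq_of_etale ι.left η]
  let P := pullback f b₁
  let g : P ⟶ X.obj := pullback.fst f b₁
  let q : P ⟶ (yon S).obj V₁ := pullback.snd f b₁
  have sq : IsPullback g q f b₁ := IsPullback.of_hasPullback f b₁
  have hP : IsAlgSpace P := isAlgSpace_pullback X.property (IsAlgSpace.yon_obj _) Y.property f b₁
  have hg : RepWith @Etale g := repWith_of_isPullback sq.flip hb₁
  have hmap : ∀ (U : Over S) (a : (yon S).obj U ⟶ P) (h : U ⟶ V₁), a ≫ q = (yon S).map h → ∀ u : ↥U.left,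
      Points.map f (Points.ofPt (a ≫ g) u) = Points.ofPt b₁ (h.left u) := fun U a h w u => by
    rw [Points.map_ofPt, Category.assoc, sq.w, reassoc_of% w, ofPt_comp]
  have hqf : ∀ x, Points.map f x = Points.ofPt b v → IsQfAt f x :=
    (codimZero_qf_tfae X.property Y.property f hf _ hy).1.1 fun x hx => (hpre x).2 (hx ▸ hy)
  have H : GenHyp q v₁ := by
    refine ⟨hco₁, locP_of_isPullback sq X.property Y.property (IsAlgSpace.yon_obj _) hf,
      fun U a h ha w u hu => huniq _ ?_, fun U a h ha w u hu => ?_⟩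
    · refine (hasAt_codimZero_iff hb₁ _).1 ?_
      rw [← hmap U a h w]
      exact (hpre _).1 ((hasAt_codimZero_iff (repWith_comp ha hg) u).2 hu)
    · refine (at_iff_chart ptProp_lqf (locP_of_isPullback sq X.property Y.property (IsAlgSpace.yon_obj _) hf)
        ha (repWith_id _ _) (by rw [Category.comp_id]; exact w) u).1 ?_
      refine (at_baseChange_iff ptProp_lqf sq X.property Y.property (IsAlgSpace.yon_obj _) hf _).2 ?_
      refine (isQfAt_iff hf _).1 (hqf _ ?_)
      rw [Points.map_ofPt a g, hmap U a h w, hu, hv₁]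
  obtain ⟨V', j, hjo, hjv, hfin⟩ : ∃ (V' : Over S) (j : V' ⟶ V₁), IsOpenImmersion j.left ∧
      v₁ ∈ Set.range j.left ∧ IsFiniteMor (pullback.snd q ((yon S).map j)) := by
    rcases hqs with hqc | hsep
    · exact exists_finite_nhd_of_quasiCompact hP q
        (fun Z Z' hZ hZc g' fst' snd' sq' => hqc hZ hZc (g' ≫ b₁) _ snd' (sq'.paste_horiz sq)) v₁ H
    · refine exists_finite_nhd_of_separated hP q (isSeparatedMor_of_isPullback sq hsep) v₁ H ?_
      refine (hX0.biUnion (t := fun x => {t : Points P | Points.map g t = x ∧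
        Points.map q t = Points.schemeHomeo V₁ v₁ ∧ Points.map f x = Points.ofPt b v}) fun x _ => ?_).subset ?_
      · by_cases hx : Points.map f x = Points.ofPt b v
        · obtain ⟨r, hr, hm, -⟩ := hY (Points.ofPt b v)
          refine (finite_points_over_pair Y.property sq x (Points.schemeHomeo V₁ v₁) ?_ ⟨r, ?_, hm⟩ ?_).subset
            fun t ht => ⟨ht.1, ht.2.1⟩
          · rw [hx, ← hv₁, Points.ofPt_eq_map_ofScheme]; rfl
          · rw [hr, ← hv₁, Points.ofPt_eq_map_ofScheme]; rfl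
          · refine ⟨V₁, V₁, 𝟙 _, b₁, 𝟙 V₁, v₁, repWith_id _ _, hb₁, ?_, ?_, ⊤, trivial, inferInstance, inferInstance⟩
            · rw [Category.id_comp, CategoryTheory.Functor.map_id, Category.id_comp]
            · rfl
        · exact Set.finite_empty.subset fun t ht => (hx ht.2.2).elim
      · intro t ht
        have hfg : Points.map f (Points.map g t) = Points.ofPt b v := by
          rw [← Points.map_comp, sq.w, Points.map_comp, show Points.map q t = _ from ht, ← hv₁,
            Points.ofPt_eq_map_ofScheme b₁ v₁]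
          rfl
        exact Set.mem_iUnion₂.2 ⟨Points.map g t, (hpre _).2 (hfg ▸ hy), rfl, ht, hfg⟩
  obtain ⟨Y', k, X', fst, snd, h1, h2, h3, h4⟩ := exists_open_of_chart X Y f hb₁ j hjo hjv hfin
  exact ⟨Y', k, X', fst, snd, h1, hv₁ ▸ h2, h3, h4⟩

theorem exists_dense_open_finite (X Y : Space S) (f : X.obj ⟶ Y.obj) (hf : LocP @LocallyOfFiniteType f)
    (hY : IsDecent Y.obj) (hX0 : {x | IsCodimZero X.obj x}.Finite) (hY0 : {y | IsCodimZero Y.obj y}.Finite)
    (hpre : ∀ x, IsCodimZero X.obj x ↔ IsCodimZero Y.obj (Points.map f x))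
    (hqs : IsQuasiCompactMor f ∨ IsSeparatedMor f) :
    ∃ (V : Space S) (j : V ⟶ Y) (X' : Space S) (fst : X' ⟶ V) (snd : X'.obj ⟶ X.obj),
      RepWith @IsOpenImmersion j.hom ∧ Dense (Set.range (Points.map j.hom)) ∧
      IsPullback fst.hom snd j.hom f ∧ IsFiniteMor fst.hom := by
  haveI := hY0.to_subtype
  obtain ⟨n, ⟨e⟩⟩ := Finite.exists_equiv_fin {y | IsCodimZero Y.obj y}
  choose Yi ki Xi fsti sndi hki hyi sqi hfi using fun i : ULift.{u} (Fin n) =>
    exists_finite_open_at X Y f hf hY hX0 hY0 hpre hqs _ (e.symm i.down).2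
  obtain ⟨Vt, j, hVt, hj, hr⟩ := exists_open_subspace Y.property
    (W := ⋃ i, Set.range (Points.map (ki i).hom)) (isOpen_iUnion fun i => isOpen_range_openImm Y.property (hki i))
  haveI : Mono j := mono_of_openImm hj
  choose l hl using fun i => exists_lift_openImmersion (Yi i).property hVt Y.property hj (ki i).hom
    (hr ▸ Set.subset_iUnion (fun i => Set.range (Points.map (ki i).hom)) i)
  let X' := pullback j f
  have hX' : IsAlgSpace X' := isAlgSpace_pullback hVt X.property Y.property j f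
  have sq : IsPullback (pullback.fst j f) (pullback.snd j f) j f := IsPullback.of_hasPullback j f
  refine ⟨⟨Vt, hVt⟩, ObjectProperty.homMk j, ⟨X', hX'⟩, ObjectProperty.homMk (pullback.fst j f), pullback.snd j f,
    hj, ?_, sq, ?_⟩
  · refine dense_iff_inter_open.2 fun O hO hne => ?_
    obtain ⟨U, a, ha, has⟩ := Y.property.atlas
    obtain ⟨x, hx⟩ := hne
    obtain ⟨u, rfl⟩ := surjective_ofPt has x
    obtain ⟨η, hη, hη0⟩ := exists_codimZero_mem
      ⟨Points.ofPt a ⁻¹' O, hO.preimage (Points.continuous_ofPt a)⟩ ⟨u, hx⟩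
    let i : ULift.{u} (Fin n) := ⟨e ⟨_, (hasAt_codimZero_iff ha η).2 hη0⟩⟩
    refine ⟨Points.ofPt a η, hη, ?_⟩
    show _ ∈ Set.range (Points.map j)
    rw [hr]
    refine Set.mem_iUnion.2 ⟨i, ?_⟩
    have := hyi i
    rwa [show (e.symm i.down).1 = Points.ofPt a η from congrArg Subtype.val (e.symm_apply_apply _)] at this
  · have hcov : IsZarCover (fun i => (Yi i).obj) (fun i => l i) := by
      refine ⟨fun i => repWith_of_isPullback (isPullback_id_of_mono (hl i)) (hki i), fun z => ?_⟩
      obtain ⟨i, w, hw⟩ := Set.mem_iUnion.1 (hr ▸ ⟨z, rfl⟩ :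
        Points.map j z ∈ ⋃ i, Set.range (Points.map (ki i).hom))
      refine ⟨i, w, injective_points_map_of_mono j ?_⟩
      rw [← Points.map_comp, hl i, hw]
    let mi : ∀ i, (Xi i).obj ⟶ X' := fun i => sq.lift ((fsti i).hom ≫ l i) (sndi i)
      (by rw [Category.assoc, hl i, (sqi i).w])
    refine (Groth.Agent.S10336.result (X := ⟨X', hX'⟩) (Y := ⟨Vt, hVt⟩) (ObjectProperty.homMk (pullback.fst j f))
      Yi (fun i => ObjectProperty.homMk (l i)) hcov (fun i => (Xi i).obj) mi (fun i => (fsti i).hom)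
      fun i => ?_).2.1 hfi
    refine IsPullback.of_right ?_ (sq.lift_fst _ _ _) sq.flip
    show IsPullback (mi i ≫ pullback.snd j f) (fsti i).hom f (l i ≫ j)
    rw [hl i, show mi i ≫ pullback.snd j f = sndi i from sq.lift_snd _ _ _]
    exact (sqi i).flip

end Groth.Agent.AlgSpOne
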