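import Groth.Agent.AlgSpOne.QfCodim
import Groth.Agent.AlgSpDec.QsDense
import Groth.Agent.AlgSpVal.ExistUC
import Groth.Agent.AlgSpDec.AffineRep
import Groth.Agent.AlgSpPts.OpenSub
import Groth.Agent.AlgSpLib.LargestOpen
import Groth.Agent.S10268
import Groth.Agent.S2080
import Groth.Agent.AlgSpDec.LimOpen

/-!
# Finiteness over a neighbourhood of a point of codimension zero
-/

set_option autoImplicit false
set_option backward.isDefEq.respectTransparency false
set_option backward.isDefEq.respectTransparency.types false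

universe u

open CategoryTheory Limits Opposite AlgebraicGeometry AlgSp Groth.Agent.AlgSpLib Groth.Agent.AlgSpPts
  Groth.Agent.AlgSpDec Groth.Agent.AlgSpDec.PointLocus TopologicalSpace Order

namespace Groth.Agent.AlgSpOne

variable {S : Scheme.{u}}

theorem isQuasiCompactSp_of_toScheme {P : Sp S} {V : Over S} [CompactSpace ↥V.left] (q : P ⟶ (yon S).obj V)
    (hqc : IsQuasiCompactMor q) : IsQuasiCompactSp P :=
  hqc (IsAlgSpace.yon_obj V) ((isQuasiCompactSp_yon_iff V).2 ‹_›) (𝟙 _) (𝟙 _) q
    (IsPullback.of_horiz_isIso ⟨by rw [Category.id_comp, Category.comp_id]⟩)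

theorem ofPt_injective_of_mono {P : Sp S} {T : Over S} (k : (yon S).obj T ⟶ P) [Mono k] :
    Function.Injective (Points.ofPt k) := fun u v huv => by
  refine (Points.schemeHomeo T).injective (injective_points_map_of_mono k ?_)
  exact ((Points.ofPt_eq_map_ofScheme k u).symm.trans huv).trans (Points.ofPt_eq_map_ofScheme k v)

theorem ofPt_yon_map {U V : Over S} (φ : U ⟶ V) (t : ↥U.left) :
    Points.ofPt ((yon S).map φ) t = Points.schemeHomeo V (φ.left t) :=
  (Points.ofPt_eq_map_ofScheme _ t).trans (Points.map_yon_map_apply φ t)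

theorem exists_finite_over_nhd {P : Sp S} (hP : IsAlgSpace P) {V : Over S} [IsAffine V.left]
    (q : P ⟶ (yon S).obj V) (hqc : IsQuasiCompactMor q) (hqs : IsQuasiSeparatedMor q)
    (hlft : LocP @LocallyOfFiniteType q) (v : ↥V.left) (hv : coheight v = 0)
    (hqf : ∀ (U : Over S) (a : (yon S).obj U ⟶ P) (h : U ⟶ V), RepWith @Etale a → a ≫ q = (yon S).map h →
      ∀ u : ↥U.left, h.left u = v → FlatMor.fibreDimAt h.left u = 0) :
    ∃ (V' : Over S) (j : V' ⟶ V), IsOpenImmersion j.left ∧ v ∈ Set.range j.left ∧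
      IsFiniteMor (pullback.snd q ((yon S).map j)) := by
  obtain ⟨W, a, ha, has, (hW : CompactSpace ↥W.left)⟩ := isQuasiCompactSp_of_toScheme q hqc
  obtain ⟨h, hh⟩ := (yon S).map_surjective (a ≫ q)
  haveI : LocallyOfFiniteType h.left := hlft a (𝟙 _) h ha (repWith_id _ _) (by rw [Category.comp_id]; exact hh.symm)
  haveI : QuasiCompact h.left := HasAffineProperty.iff_of_isAffine.2 hW
  have hfin : (h.left ⁻¹' {v}).Finite := by
    refine (FieldFibre.finite_qf_points h.left v).subset fun w hw => ⟨hw, ?_⟩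
    exact hqf W a h ha hh.symm w hw
  have hco : ∀ w ∈ h.left ⁻¹' {v}, coheight w = 0 := fun w hw =>
    coheight_eq_zero_of_fibreDimAt h.left (by rw [show h.left w = v from hw]; exact hv)
      (hqf W a h ha hh.symm w hw)
  -- the scheme locus
  have hPqs : IsQuasiSeparatedSp P := AlgSpVal.isQuasiSeparatedSp_of_toAffine q hqs
  obtain ⟨X', j', hj', hr, hmax⟩ := Groth.Agent.S10197.result ⟨P, hP⟩
  have hloc : ∀ w ∈ h.left ⁻¹' {v}, Points.ofPt a w ∈ Set.range (Points.map j'.hom) := fun w hw => by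
    obtain ⟨T, t, ht, hx⟩ := exists_open_subscheme_of_codimZero_qs hP hPqs ha w (hco w hw)
    exact mem_range_of_openImm j' hmax t ht hx
  let Z : Set ↥W.left := (Points.ofPt a ⁻¹' Set.range (Points.map j'.hom))ᶜ
  have hZ : IsClosed Z :=
    ((isOpen_range_openImm hP hj').preimage (Points.continuous_ofPt a)).isClosed_compl
  have hvZ : v ∉ closure (h.left '' Z) := fun hcl => by
    obtain ⟨x, hxZ, hx⟩ := ProConsLib.exists_specializes_of_mem_closure_image_scheme
      (ProConsLib.isProConstructible_of_isLocallyClosed hZ.isLocallyClosed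
        fun A hA => hA.isCompact.inter_left hZ) h.left hcl
    exact hxZ (hloc x (eq_of_specializes_of_coheight hv hx))
  obtain ⟨A, hA, hvA, hAZ⟩ := exists_isAffineOpen_mem_and_subset (x := v)
    (U := (⟨_, isClosed_closure.isOpen_compl⟩ : V.left.Opens)) hvZ
  let V₁ : Over S := Over.mk (A.ι ≫ V.hom)
  let ι : V₁ ⟶ V := CategoryTheory.Over.homMk A.ι rfl
  haveI : IsAffine V₁.left := hA
  haveI : IsOpenImmersion ι.left := inferInstanceAs (IsOpenImmersion A.ι)
  have hιr : RepWith @IsOpenImmersion ((yon S).map ι) := (repWith_yon_map_iff _ _).2 ‹_›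
  let P₁ := pullback q ((yon S).map ι)
  let f₁ : P₁ ⟶ P := pullback.fst q ((yon S).map ι)
  let q₁ : P₁ ⟶ (yon S).obj V₁ := pullback.snd q ((yon S).map ι)
  have sqP : IsPullback f₁ q₁ q ((yon S).map ι) := IsPullback.of_hasPullback _ _
  have hP₁ : IsAlgSpace P₁ := isAlgSpace_pullback hP (IsAlgSpace.yon_obj _) (IsAlgSpace.yon_obj _) _ _
  have hrange : Set.range (Points.map f₁) ⊆ Set.range (Points.map j'.hom) := by
    rintro _ ⟨t, rfl⟩
    obtain ⟨w, hw⟩ := surjective_ofPt has (Points.map f₁ t)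
    rw [← hw]
    by_contra hwZ
    obtain ⟨z, hz⟩ := (Points.schemeHomeo V₁).surjective (Points.map q₁ t)
    have h1 : Points.schemeHomeo V (h.left w) = Points.schemeHomeo V (ι.left z) := by
      rw [← Points.map_yon_map_apply ι z, hz, ← Points.map_comp, ← sqP.w, Points.map_comp, ← hw,
        Points.map_ofPt, ← hh, ofPt_yon_map h]
    have h2 : h.left w ∈ A := by
      rw [(Points.schemeHomeo V).injective h1]
      exact z.2
    exact hAZ h2 (subset_closure ⟨w, hwZ, rfl⟩)
  have hX' : IsAlgSpace X'.obj := X'.property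
  obtain ⟨k, hk⟩ := exists_lift_openImmersion hP₁ hX' hP hj' f₁ hrange
  haveI : Mono j'.hom := mono_of_openImm hj'
  obtain ⟨T, ⟨e⟩⟩ := hr.has_representation
  let i := isoOfRepresentableBy e
  obtain ⟨hT, hhT⟩ := (yon S).map_surjective (i.hom ≫ j'.hom ≫ q)
  let T₁ := pullback hT ι
  let g : T₁ ⟶ V₁ := pullback.snd hT ι
  have sq₁ : IsPullback (k ≫ i.inv) q₁ ((yon S).map hT) ((yon S).map ι) := by
    refine ⟨⟨?_⟩, ⟨PullbackCone.IsLimit.mk _ (fun c => sqP.lift (c.fst ≫ i.hom ≫ j'.hom) c.snd ?_) (fun c => ?_)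
      (fun c => sqP.lift_snd _ _ _) (fun c m h1 h2 => sqP.hom_ext ?_ (by rw [sqP.lift_snd, h2]))⟩⟩
    · rw [hhT, Category.assoc, i.inv_hom_id_assoc, reassoc_of% hk, sqP.w]
    · rw [Category.assoc, Category.assoc, ← hhT, c.condition]
    · rw [← cancel_mono i.hom, ← cancel_mono j'.hom]
      simp only [Category.assoc, i.inv_hom_id_assoc, hk, sqP.lift_fst]
    · rw [sqP.lift_fst, ← h1]
      simp only [Category.assoc, i.inv_hom_id_assoc, hk]
  let e₁ := ((IsPullback.of_hasPullback hT ι).map (yon S)).isoIsPullback _ _ sq₁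
  have he₁ : e₁.hom ≫ q₁ = (yon S).map g := IsPullback.isoIsPullback_hom_snd _ _ _ _
  -- properties of the morphism of schemes
  haveI : LocallyOfFiniteType g.left :=
    locP_of_isPullback sqP hP (IsAlgSpace.yon_obj _) (IsAlgSpace.yon_obj _) hlft e₁.hom (𝟙 _) g
      (repWith_of_isIso _ _) (repWith_id _ _) (by rw [Category.comp_id, he₁])
  haveI : CompactSpace ↥V₁.left := inferInstance
  haveI : QuasiCompact g.left := by
    have h1 : IsQuasiCompactSp P₁ :=
      hqc (IsAlgSpace.yon_obj _) ((isQuasiCompactSp_yon_iff _).2 ‹_›) _ _ _ sqP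
    haveI := (isQuasiCompactSp_iff hP₁).1 h1
    haveI : CompactSpace ↥T₁.left := by
      have hc : Continuous ((Points.schemeHomeo T₁).symm ∘ Points.map e₁.inv) :=
        (Points.schemeHomeo T₁).symm.continuous.comp (Points.continuous_map _)
      have hs' : Function.Surjective ((Points.schemeHomeo T₁).symm ∘ Points.map e₁.inv) :=
        (Points.schemeHomeo T₁).symm.surjective.comp fun z => ⟨Points.map e₁.hom z, by
          rw [← Points.map_comp, e₁.hom_inv_id, Points.map_id]⟩
      exact ⟨by rw [← hs'.range_eq]; exact isCompact_range hc⟩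
    exact HasAffineProperty.iff_of_isAffine.2 ‹CompactSpace ↥T₁.left›
  haveI : QuasiSeparated g.left := by
    refine (isQuasiSeparatedMor_yon_map_iff _).1 ?_
    rw [← he₁]
    exact (RepWith (S := S) @QuasiCompact).diagonal.cancel_left_of_respectsIso e₁.hom q₁ |>.2
      (isQuasiSeparatedMor_of_isPullback sqP hqs)
  obtain ⟨v₁, hv₁⟩ : ∃ v₁ : ↥V₁.left, ι.left v₁ = v := ⟨⟨v, hvA⟩, rfl⟩
  have hinj : Mono (e₁.hom ≫ f₁) := by
    haveI : Mono ((yon S).map ι) := mono_of_openImm hιr
    haveI : Mono f₁ := inferInstanceAs (Mono (pullback.fst q ((yon S).map ι)))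
    exact inferInstance
  have hfing : (g.left ⁻¹' {v₁}).Finite := by
    refine Set.Finite.of_finite_image ?_ (ofPt_injective_of_mono (e₁.hom ≫ f₁)).injOn
    refine (hfin.image (Points.ofPt a)).subset ?_
    rintro _ ⟨t, ht, rfl⟩
    obtain ⟨w, hw⟩ := surjective_ofPt has (Points.ofPt (e₁.hom ≫ f₁) t)
    refine ⟨w, ?_, hw⟩
    show h.left w = v
    refine (Points.schemeHomeo V).injective ?_
    have h1 : Points.map q (Points.ofPt a w) = Points.schemeHomeo V (h.left w) := by
      rw [Points.map_ofPt, ← hh, ofPt_yon_map h]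
    rw [← h1, hw, Points.map_ofPt, Category.assoc, sqP.w, reassoc_of% he₁, ← Functor.map_comp,
      ofPt_yon_map (g ≫ ι), Over.comp_left, Scheme.Hom.comp_apply, show g.left t = v₁ from ht, hv₁]
  have hη : closure {v₁} ∈ irreducibleComponents ↥V₁.left := by
    have h0 : coheight v₁ = 0 := by
      haveI : Etale ι.left := inferInstance
      rw [coheight_eq_of_etale ι.left v₁, hv₁, hv]
    obtain ⟨Z₀, hZ₀, hgen⟩ : ∃ Z₀ ∈ irreducibleComponents ↥V₁.left, IsGenericPoint v₁ Z₀ := by
      refine ⟨closure {v₁}, ⟨isIrreducible_singleton.closure, fun Z₀ hZ₀ hle => ?_⟩, isGenericPoint_closure⟩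
      obtain ⟨η, hη⟩ := QuasiSober.sober hZ₀.closure isClosed_closure
      have hηx : η ⤳ v₁ := hη.specializes (subset_closure (hle (subset_closure rfl)))
      intro z hz
      rw [← eq_of_specializes_of_coheight h0 hηx, hη.def]
      exact subset_closure hz
    rwa [hgen.def]
  obtain ⟨B, hB, hvB, hfinB⟩ := (Groth.Agent.S2080.result g.left v₁ hη).1 hfing
  let V' : Over S := Over.mk (B.ι ≫ V₁.hom)
  let ι' : V' ⟶ V₁ := CategoryTheory.Over.homMk B.ι rfl
  haveI : IsOpenImmersion ι'.left := inferInstanceAs (IsOpenImmersion B.ι)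
  refine ⟨V', ι' ≫ ι, by rw [Over.comp_left]; infer_instance, ⟨⟨v₁, hvB⟩, hv₁⟩, ?_⟩
  let T' := pullback g ι'
  let g' : T' ⟶ V' := pullback.snd g ι'
  have hg' : IsFinite g'.left := by
    have sqT := (IsPullback.of_hasPullback g ι').map (Over.forget S)
    have sqB : IsPullback (g.left ⁻¹ᵁ B).ι (g.left ∣_ B) g.left B.ι := (isPullback_morphismRestrict g.left B).flip
    have he : (sqT.isoIsPullback _ _ sqB).hom ≫ (g.left ∣_ B) = g'.left :=
      IsPullback.isoIsPullback_hom_snd _ _ _ _
    rw [← he]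
    exact inferInstance
  refine isFiniteMor_iff_repWith.2 ?_
  have sqV := (((IsPullback.of_hasPullback g ι').map (yon S)).paste_horiz
    ((IsPullback.of_hasPullback hT ι).map (yon S)))
  have hgY : RepWith @IsFinite ((yon S).map g') := (repWith_yon_map_iff _ _).2 hg'
  have sq₂ : IsPullback ((yon S).map (pullback.fst g ι') ≫ e₁.hom ≫ f₁) ((yon S).map g') q
      ((yon S).map (ι' ≫ ι)) := by
    rw [Functor.map_comp]
    refine ((IsPullback.of_hasPullback g ι').map (yon S)).paste_horiz ?_
    exact IsPullback.of_iso sqP e₁.symm (Iso.refl _) (Iso.refl _) (Iso.refl _)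
      (by simp) (by simp [← he₁]) (by simp) (by simp)
  rw [← sq₂.isoPullback_inv_snd]
  exact repWith_comp (repWith_of_isIso _ _) hgY

/-- From finiteness over an etale chart to finiteness over the open image. -/
theorem exists_open_of_chart (X Y : Space S) (f : X.obj ⟶ Y.obj) {V : Over S} {b : (yon S).obj V ⟶ Y.obj}
    (hb : RepWith @Etale b) {v : ↥V.left} {V' : Over S} (j : V' ⟶ V) (hjo : IsOpenImmersion j.left)
    (hv : v ∈ Set.range j.left) (hfin : IsFiniteMor (pullback.snd (pullback.snd f b) ((yon S).map j))) :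
    ∃ (Y' : Space S) (k : Y' ⟶ Y) (X' : Space S) (fst : X' ⟶ Y') (snd : X'.obj ⟶ X.obj),
      RepWith @IsOpenImmersion k.hom ∧ Points.ofPt b v ∈ Set.range (Points.map k.hom) ∧
      IsPullback fst.hom snd k.hom f ∧ IsFiniteMor fst.hom := by
  obtain ⟨v', hv'⟩ := hv
  have sq : IsPullback (pullback.fst f b) (pullback.snd f b) f b := IsPullback.of_hasPullback f b
  haveI := hjo
  have hbj : RepWith @Etale ((yon S).map j ≫ b) :=
    repWith_comp ((repWith_yon_map_iff _ _).2 (inferInstanceAs (Etale j.left))) hb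
  obtain ⟨Y', i, hY', hi, hri⟩ := exists_open_subspace Y.property (isOpenMap_ofPt hbj).isOpen_range
  haveI : Mono i := mono_of_openImm hi
  obtain ⟨b', hb'⟩ := exists_lift_openImmersion (IsAlgSpace.yon_obj V') hY' Y.property hi ((yon S).map j ≫ b)
    (by
      rintro _ ⟨z, rfl⟩
      obtain ⟨z, rfl⟩ := (Points.schemeHomeo V').surjective z
      rw [hri]
      exact ⟨z, Points.ofPt_eq_map_ofScheme _ z⟩)
  have sqb : IsPullback (𝟙 _) b' ((yon S).map j ≫ b) i :=
    ⟨⟨by rw [Category.id_comp, hb']⟩, ⟨PullbackCone.IsLimit.mk _ (fun c => c.fst) (fun c => Category.comp_id _)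
      (fun c => by rw [← cancel_mono i, Category.assoc, hb', c.condition])
      (fun c m h1 _ => by rw [← h1, Category.comp_id])⟩⟩
  have hb'e : RepWith @Etale b' := repWith_of_isPullback sqb hbj
  have hb's : RepWith @Surjective b' := by
    refine repWith_surjective_of_surjective hb'e.rep fun z => ?_
    obtain ⟨w, hw⟩ : Points.map i z ∈ Set.range (Points.ofPt ((yon S).map j ≫ b)) := hri ▸ ⟨z, rfl⟩
    refine ⟨Points.ofScheme V' w, injective_points_map_of_mono i ?_⟩
    rw [← Points.map_comp, hb', ← Points.ofPt_eq_map_ofScheme, hw]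
  let X' := pullback i f
  have hX' : IsAlgSpace X' := isAlgSpace_pullback hY' X.property Y.property i f
  refine ⟨⟨Y', hY'⟩, ObjectProperty.homMk i, ⟨X', hX'⟩, ObjectProperty.homMk (pullback.fst i f),
    pullback.snd i f, hi, ?_, IsPullback.of_hasPullback i f, ?_⟩
  · rw [show (ObjectProperty.homMk i : (⟨Y', hY'⟩ : Space S) ⟶ Y).hom = i from rfl, hri]
    exact ⟨v', by rw [ofPt_comp, hv']⟩
  · have sqi : IsPullback (pullback.snd i f) (pullback.fst i f) f i := (IsPullback.of_hasPullback i f).flip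
    let Q := pullback (pullback.fst i f) b'
    have sqQ : IsPullback (pullback.fst (pullback.fst i f) b') (pullback.snd (pullback.fst i f) b')
      (pullback.fst i f) b' := IsPullback.of_hasPullback _ _
    have hsnd : IsFiniteMor (pullback.snd (pullback.fst i f) b') := by
      have h1 := sqQ.paste_horiz sqi
      rw [hb'] at h1
      have h2 : IsPullback (pullback.fst (pullback.snd f b) ((yon S).map j) ≫ pullback.fst f b)
          (pullback.snd (pullback.snd f b) ((yon S).map j)) f ((yon S).map j ≫ b) :=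
        (IsPullback.of_hasPullback _ _).paste_horiz sq
      refine isFiniteMor_iff_repWith.2 ?_
      rw [← h1.isoIsPullback_hom_snd _ _ h2]
      exact repWith_comp (repWith_of_isIso _ _) (isFiniteMor_iff_repWith.1 hfin)
    exact (Groth.Agent.S10268.result (X := ⟨X', hX'⟩) (Y := ⟨Y', hY'⟩) (ObjectProperty.homMk (pullback.fst i f))
      V' b' hb'e hb's _ _ sqQ).2 hsnd


theorem exists_finite_open (X Y : Space S) (f : X.obj ⟶ Y.obj) (hqs : IsQuasiSeparatedMor f)
    (hft : IsFiniteTypeMor f) (y : Points Y.obj)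
    (hy : HasAt (fun U u => ringKrullDim ↥(U.presheaf.stalk u) = 0) Y.obj y)
    (hqf : ∀ x : Points X.obj, Points.map f x = y → IsQfAt f x) :
    ∃ (Y' : Space S) (j : Y' ⟶ Y) (X' : Space S) (fst : X' ⟶ Y') (snd : X'.obj ⟶ X.obj),
      RepWith @IsOpenImmersion j.hom ∧ y ∈ Set.range (Points.map j.hom) ∧
      IsPullback fst.hom snd j.hom f ∧ IsFiniteMor fst.hom := by
  obtain ⟨V, b, v, hVa, hb, rfl⟩ := exists_affine_chart_at Y.property y
  haveI : IsAffine V.left := hVa
  let P := pullback f b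
  have sq : IsPullback (pullback.fst f b) (pullback.snd f b) f b := IsPullback.of_hasPullback f b
  have hP : IsAlgSpace P := isAlgSpace_pullback X.property (IsAlgSpace.yon_obj _) Y.property f b
  have hlft := locP_of_isPullback sq X.property Y.property (IsAlgSpace.yon_obj _) hft.1
  obtain ⟨V', j, hjo, ⟨v', hv'⟩, hfin⟩ := exists_finite_over_nhd hP (pullback.snd f b)
    (fun Z Z' hZ hZc g' fst' snd' sq' => hft.2 hZ hZc (g' ≫ b) _ snd' (sq'.paste_horiz sq))
    (isQuasiSeparatedMor_of_isPullback sq hqs) hlft v ((hasAt_codimZero_iff hb v).1 hy)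
    fun U a h ha hh u hu => by
      refine (at_iff_chart ptProp_lqf hlft ha (repWith_id _ _) (by rw [Category.comp_id]; exact hh) u).1 ?_
      refine (at_baseChange_iff ptProp_lqf sq X.property Y.property (IsAlgSpace.yon_obj _) hft.1 _).2 ?_
      refine (isQfAt_iff hft.1 _).1 (hqf _ ?_)
      rw [← Points.map_comp, sq.w, Points.map_ofPt, ← Category.assoc, hh, ofPt_comp, hu]
  exact exists_open_of_chart X Y f hb j hjo ⟨v', hv'⟩ hfin

end Groth.Agent.AlgSpOne
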