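import Groth.Agent.AlgSpOne.FppfStage
import Groth.Agent.AlgSpPts.LimPres

/-!
# Gluing points over stages of an affine limit
-/

set_option autoImplicit false
set_option backward.isDefEq.respectTransparency false
set_option backward.isDefEq.respectTransparency.types false

universe u

open CategoryTheory Limits Opposite AlgebraicGeometry AlgSp Groth.Agent.AlgSpPts
open Groth.Agent.AlgSpOne.FppfStage

namespace Groth.Agent.AlgSpOne.LPGlue

variable {S : Scheme.{u}}

theorem exists_common {I : Type u} [SmallCategory I] [IsCofiltered I] {ι : Type u} [Finite ι] (l : ι → I) :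
    ∃ k : I, ∀ a, Nonempty (k ⟶ l a) := by
  classical
  have := Fintype.ofFinite ι
  obtain ⟨k, hk⟩ := IsCofiltered.inf_objs_exists (Finset.univ.image l)
  exact ⟨k, fun a => hk (Finset.mem_image_of_mem l (Finset.mem_univ a))⟩

theorem sep_ext {F : PSp S} (hF : Presheaf.IsSheaf (J S) F) {T : Over S} (C : Fam T)
    {x x' : F.obj (op T)} (h : ∀ a, F.map (C.v a).op x = F.map (C.v a).op x') : x = x' := by
  have hs : Presieve.IsSheafFor F (Presieve.ofArrows C.Z C.v) :=
    (Presieve.isSheafFor_iff_generate _).2 (((isSheaf_iff_isSheaf_of_type _ _).1 hF) _ C.mem_J')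
  exact hs.isSeparatedFor.ext fun _ _ hg => by obtain ⟨a⟩ := hg; exact h a

variable {I : Type u} [SmallCategory I] [IsCofiltered I] {D : I ⥤ Over S}

/-- Points which agree locally at stages agree at a stage. -/
theorem eq_stage_of_local {F : PSp S} (hF : Presheaf.IsSheaf (J S) F) {c : Cone D} {i : I}
    (x x' : F.obj (op (D.obj i))) (C : Fam (D.obj i)) (Ws : ∀ a, Sys D c (C.v a))
    (h : ∀ a, ∃ l : Over i, F.map ((Ws a).b l ≫ C.v a).op x = F.map ((Ws a).b l ≫ C.v a).op x') :
    ∃ (k : I) (f : k ⟶ i), F.map (D.map f).op x = F.map (D.map f).op x' := by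
  choose l hl using h
  haveI := C.fin
  obtain ⟨k, hk⟩ := exists_common l
  refine ⟨k.left, k.hom, sep_ext hF (pullFam C Ws k) fun a => ?_⟩
  obtain ⟨ψ⟩ := hk a
  have e : (Ws a).a k ≫ D.map k.hom = (Ws a).W.map ψ ≫ (Ws a).b (l a) ≫ C.v a := by
    rw [((Ws a).sq k).w, ← Category.assoc, (Ws a).natb ψ]
  show F.map ((Ws a).a k).op _ = F.map ((Ws a).a k).op _
  exact (map_map' F _ _ x).trans ((e ▸ ((map_map' F _ _ x).symm.trans ((congrArg _ (hl a)).trans
    (map_map' F _ _ x')))).trans (map_map' F _ _ x').symm)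

/-- The injectivity half of being relatively limit preserving. -/
def InjProp {F G : PSp S} (a : F ⟶ G) : Prop :=
  ∀ ⦃I : Type u⦄ [SmallCategory I] [IsCofiltered I] (D : I ⥤ Over S) (c : Cone D),
    IsLimit ((Over.forget S).mapCone c) → (∀ i, IsAffine (D.obj i).left) → IsAffine c.pt.left →
    ∀ (i : I) (x x' : F.obj (op (D.obj i))), a.app _ x = a.app _ x' →
      F.map (c.π.app i).op x = F.map (c.π.app i).op x' →
      ∃ (k : I) (f : k ⟶ i), F.map (D.map f).op x = F.map (D.map f).op x'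

/-- Local lifts at stages glue to a lift at a stage. -/
theorem surj_of_local {F G : PSp S} (hF : Presheaf.IsSheaf (J S) F) (hG : Presheaf.IsSheaf (J S) G) (α : F ⟶ G)
    (hinj : InjProp α) (hA : ∀ i, IsAffine (D.obj i).left) {c : Cone D} (hc : IsLimit ((Over.forget S).mapCone c))
    {i : I} (y : G.obj (op (D.obj i))) (x : F.obj (op c.pt)) (C : Fam (D.obj i)) (Ws : ∀ a, Sys D c (C.v a))
    (h : ∀ a, ∃ (l : Over i) (z : F.obj (op ((Ws a).W.obj l))),
      α.app _ z = G.map ((Ws a).b l ≫ C.v a).op y ∧ F.map ((Ws a).cW.π.app l).op z = F.map (Ws a).q.op x) :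
    ∃ (k : I) (f : k ⟶ i) (z : F.obj (op (D.obj k))),
      α.app _ z = G.map (D.map f).op y ∧ F.map (c.π.app k).op z = x := by
  choose l z₀ hz₀ hz₀x using h
  haveI := C.fin
  obtain ⟨k, hk⟩ := exists_common l
  let z : ∀ a, F.obj (op ((Ws a).W.obj k)) := fun a => F.map ((Ws a).W.map (hk a).some).op (z₀ a)
  have hz : ∀ a, α.app _ (z a) = G.map ((Ws a).a k ≫ D.map k.hom).op y := fun a => by
    refine (app_map' α _ _).trans ((congrArg _ (hz₀ a)).trans ((map_map' G _ _ y).trans ?_))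
    rw [← Category.assoc, (Ws a).natb, ((Ws a).sq k).w]
  have hzx : ∀ a, F.map ((Ws a).cW.π.app k).op (z a) = F.map (Ws a).q.op x := fun a => by
    refine (map_map' F _ _ _).trans ?_
    rw [(Ws a).cW.w]
    exact hz₀x a
  haveI : ∀ j, IsAffine (D.obj j).left := hA
  haveI : ∀ a, IsAffine ((Ws a).W.obj k).left := fun a => (Ws a).affine k
  -- the pairs
  let P : C.ι × C.ι → Over S := fun r => pullback ((Ws r.1).a k) ((Ws r.2).a k)
  haveI hP : ∀ r, IsAffine (P r).left := fun r => by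
    haveI : IsAffine (pullback ((Over.forget S).map ((Ws r.1).a k)) ((Over.forget S).map ((Ws r.2).a k))) :=
      inferInstanceAs (IsAffine (pullback ((Ws r.1).a k).left ((Ws r.2).a k).left))
    exact IsAffine.of_isIso
      ((IsPullback.of_hasPullback ((Ws r.1).a k) ((Ws r.2).a k)).map (Over.forget S)).isoPullback.hom
  let v' : ∀ r, P r ⟶ D.obj k.left := fun r => pullback.fst _ _ ≫ (Ws r.1).a k
  let Ws' : ∀ r, Sys D c (v' r) := fun r => (exists_sys D hA c hc (v' r)).some
  let top : Over k.left := Over.mk (𝟙 k.left)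
  have hτ : ∀ (r : C.ι × C.ι) (a : C.ι) (π : P r ⟶ (Ws a).W.obj k), π ≫ (Ws a).a k = v' r →
      F.map ((Ws' r).cW.π.app top).op (F.map ((Ws' r).b top ≫ π).op (z a)) = F.map (Ws' r).q.op x := by
    intro r a π hπ
    have e₀ : (Ws' r).q ≫ c.π.app i = ((Ws' r).p ≫ π ≫ (Ws a).b k) ≫ C.v a := by
      rw [Category.assoc, Category.assoc, ← ((Ws a).sq k).w, reassoc_of% hπ, ← reassoc_of% (Ws' r).sqLim.w,
        c.w]
    let τ := (Ws a).sqLim.lift _ _ e₀
    have e₁ : τ ≫ (Ws a).cW.π.app k = (Ws' r).p ≫ π := by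
      refine ((Ws a).sq k).hom_ext ?_ ?_
      · rw [Category.assoc, ← (Ws a).hq k, ← Category.assoc τ, (Ws a).sqLim.lift_fst, Category.assoc, hπ]
        exact (Ws' r).sqLim.w
      · rw [Category.assoc, ← (Ws a).hp k, (Ws a).sqLim.lift_snd, Category.assoc]
    refine (map_map' F _ _ _).trans ?_
    rw [← Category.assoc, ← (Ws' r).hp top, ← e₁, ← map_map']
    refine (congrArg _ (hzx a)).trans ((map_map' F _ _ x).trans ?_)
    rw [(Ws a).sqLim.lift_fst]
    rfl
  have hpair : ∀ r, ∃ (m : Over k.left),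
      F.map ((Ws' r).b m ≫ pullback.fst _ _).op (z r.1) = F.map ((Ws' r).b m ≫ pullback.snd _ _).op (z r.2) := by
    intro r
    obtain ⟨m, ω, hm⟩ := hinj (Ws' r).W (Ws' r).cW (Ws' r).lim (Ws' r).affine (Ws' r).affinePt top
      (F.map ((Ws' r).b top ≫ pullback.fst _ _).op (z r.1)) (F.map ((Ws' r).b top ≫ pullback.snd _ _).op (z r.2))
      (by
        refine (app_map' α _ _).trans ((congrArg _ (hz r.1)).trans ((map_map' G _ _ y).trans ?_))
        refine Eq.trans ?_ ((app_map' α _ _).trans ((congrArg _ (hz r.2)).trans (map_map' G _ _ y))).symm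
        simp only [Category.assoc]
        rw [pullback.condition_assoc])
      ((hτ r r.1 _ rfl).trans (hτ r r.2 _ pullback.condition.symm).symm)
    exact ⟨m, by simpa only [map_map', ← Category.assoc, (Ws' r).natb] using hm⟩
  choose ms hms using hpair
  obtain ⟨m, hm⟩ := exists_common ms
  let k' : Over i := Over.mk (m.hom ≫ k.hom)
  let χ : k' ⟶ k := CategoryTheory.Over.homMk m.hom rfl
  let z' : ∀ a, F.obj (op ((Ws a).W.obj k')) := fun a => F.map ((Ws a).W.map χ).op (z a)
  have hs : Presieve.IsSheafFor F (Presieve.ofArrows (pullFam C Ws k').Z (pullFam C Ws k').v) :=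
    (Presieve.isSheafFor_iff_generate _).2 (((isSheaf_iff_isSheaf_of_type _ _).1 hF) _ (pullFam C Ws k').mem_J')
  have hcompat : ∀ (a b : C.ι) (Z : Over S) (g : Z ⟶ (Ws a).W.obj k') (g' : Z ⟶ (Ws b).W.obj k'),
      g ≫ (Ws a).a k' = g' ≫ (Ws b).a k' → F.map g.op (z' a) = F.map g'.op (z' b) := by
    intro a b Z g g' hgg
    let r : Z ⟶ P (a, b) := pullback.lift (g ≫ (Ws a).W.map χ) (g' ≫ (Ws b).W.map χ) (by
      rw [Category.assoc, Category.assoc, (Ws a).nat, (Ws b).nat, reassoc_of% hgg])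
    obtain ⟨ω⟩ := hm (a, b)
    let n : Z ⟶ (Ws' (a, b)).W.obj m := ((Ws' (a, b)).sq m).lift (g ≫ (Ws a).a k') r (by
      change _ ≫ D.map m.hom = r ≫ pullback.fst _ _ ≫ (Ws a).a k
      rw [pullback.lift_fst_assoc, Category.assoc, Category.assoc, (Ws a).nat]
      rfl)
    have h₁ := congrArg (fun t => F.map n.op (F.map ((Ws' (a, b)).W.map ω).op t)) (hms (a, b))
    have hn : ∀ {T : Over S} (π : P (a, b) ⟶ T),
        n ≫ (Ws' (a, b)).W.map ω ≫ (Ws' (a, b)).b (ms (a, b)) ≫ π = r ≫ π := fun π => by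
      rw [← Category.assoc ((Ws' (a, b)).W.map ω), (Ws' (a, b)).natb, IsPullback.lift_snd_assoc]
    simp only [map_map', hn] at h₁
    simpa only [z', map_map', r, pullback.lift_fst, pullback.lift_snd] using h₁
  obtain ⟨w, hw, -⟩ := (Presieve.isSheafFor_arrows_iff _ _).1 hs z' (fun a b Z g g' h => hcompat a b Z g g' h)
  refine ⟨k'.left, k'.hom, w, sep_ext hG (pullFam C Ws k') fun a => ?_, sep_ext hF (limFam C Ws) fun a => ?_⟩
  · refine ((app_map' α _ w).symm.trans (congrArg _ (hw a))).trans ?_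
    refine (app_map' α _ (z a)).trans ((congrArg _ (hz a)).trans ((map_map' G _ _ y).trans ?_))
    refine Eq.trans ?_ (map_map' G _ _ y).symm
    rw [← Category.assoc, (Ws a).nat, Category.assoc, ← D.map_comp]
    rfl
  · refine (map_map' F _ _ w).trans ?_
    rw [show (limFam C Ws).v a ≫ c.π.app k'.left = (Ws a).cW.π.app k' ≫ (Ws a).a k' from (Ws a).hq k',
      ← map_map', show F.map ((Ws a).a k').op w = z' a from hw a, map_map', (Ws a).cW.w]
    exact hzx a

end Groth.Agent.AlgSpOne.LPGlue
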