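import Groth.Agent.AlgSpOne.LPSheafify

/-!
# Being limit preserving is fppf local on the base
-/

set_option autoImplicit false
set_option backward.isDefEq.respectTransparency false
set_option backward.isDefEq.respectTransparency.types false

universe u

open CategoryTheory Limits Opposite AlgebraicGeometry AlgSp Groth.Agent.AlgSpPts
open Groth.Agent.AlgSpOne.FppfStage Groth.Agent.AlgSpOne.LPGlue Groth.Agent.AlgSpOne.LPSheafify

namespace Groth.Agent.AlgSpOne.LPLocal

variable {S : Scheme.{u}}

/-- A system over a scheme on which the presheaf is limit preserving. -/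
theorem lp_of_over {F : PSp S} {U : Over S} (hU : IsLimitPreserving (S := U.left) ((Over.map U.hom).op ⋙ F))
    {I : Type u} [SmallCategory I] [IsCofiltered I] (W : I ⥤ Over S) (cW : Cone W)
    (hc : IsLimit ((Over.forget S).mapCone cW)) (hA : ∀ i, IsAffine (W.obj i).left) (hT : IsAffine cW.pt.left)
    (g : ∀ l, W.obj l ⟶ U) (hg : ∀ {l m : I} (φ : l ⟶ m), W.map φ ≫ g m = g l) :
    (∀ x : F.obj (op cW.pt), ∃ (k : I) (z : F.obj (op (W.obj k))), F.map (cW.π.app k).op z = x) ∧
      ∀ (i : I) (x x' : F.obj (op (W.obj i))), F.map (cW.π.app i).op x = F.map (cW.π.app i).op x' →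
        ∃ (k : I) (f : k ⟶ i), F.map (W.map f).op x = F.map (W.map f).op x' := by
  let W' : I ⥤ Over U.left :=
    { obj := fun l => Over.mk (g l).left
      map := fun {l m} φ => Over.homMk (W.map φ).left (congrArg CommaMorphism.left (hg φ))
      map_id := fun l => by ext; simp
      map_comp := fun φ ψ => by ext; simp }
  haveI := IsCofiltered.isConnected I
  have hconst : ∀ l m, cW.π.app l ≫ g l = cW.π.app m ≫ g m := fun l m => by
    obtain ⟨n, φ, ψ, -⟩ := IsCofilteredOrEmpty.cone_objs l m
    rw [← cW.w φ, ← cW.w ψ, Category.assoc, Category.assoc, hg, hg]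
  obtain ⟨i₀⟩ := IsCofiltered.nonempty (C := I)
  let c' : Cone W' :=
    { pt := Over.mk (cW.π.app i₀ ≫ g i₀).left
      π :=
        { app := fun l => Over.homMk (cW.π.app l).left (congrArg CommaMorphism.left (hconst l i₀))
          naturality := fun l m φ => by
            ext
            change 𝟙 _ ≫ (cW.π.app m).left = (cW.π.app l).left ≫ (W.map φ).left
            rw [Category.id_comp, ← Over.comp_left, cW.w] } }
  have hc' : IsLimit ((Over.forget U.left).mapCone c') := hc
  obtain ⟨hcol⟩ := hU W' c' hc' hA hT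
  let e : ∀ l, (Over.map U.hom).obj (W'.obj l) ⟶ W.obj l := fun l =>
    Over.homMk (𝟙 _) ((Category.id_comp _).trans (Over.w (g l)).symm)
  let e' : ∀ l, W.obj l ⟶ (Over.map U.hom).obj (W'.obj l) := fun l =>
    Over.homMk (𝟙 _) ((Category.id_comp _).trans (Over.w (g l)))
  let d : (Over.map U.hom).obj c'.pt ⟶ cW.pt :=
    Over.homMk (𝟙 _) ((Category.id_comp _).trans (Over.w (cW.π.app i₀ ≫ g i₀)).symm)
  let d' : cW.pt ⟶ (Over.map U.hom).obj c'.pt :=
    Over.homMk (𝟙 _) ((Category.id_comp _).trans (Over.w (cW.π.app i₀ ≫ g i₀)))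
  have hed : ∀ l, cW.π.app l ≫ e' l = d' ≫ (Over.map U.hom).map (c'.π.app l) := fun l =>
    Over.OverMorphism.ext ((Category.comp_id _).trans (Category.id_comp _).symm)
  have hde : ∀ l, d ≫ cW.π.app l = (Over.map U.hom).map (c'.π.app l) ≫ e l := fun l =>
    Over.OverMorphism.ext ((Category.id_comp _).trans (Category.comp_id _).symm)
  refine ⟨fun x => ?_, fun i x x' h => ?_⟩
  · obtain ⟨k, z, hz⟩ := Types.jointly_surjective_of_isColimit hcol (F.map d.op x : F.obj _)
    let z₀ : F.obj (op ((Over.map U.hom).obj (W'.obj k.unop))) := z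
    refine ⟨k.unop, F.map (e' k.unop).op z₀, ?_⟩
    have hz₀ : F.map ((Over.map U.hom).map (c'.π.app k.unop)).op z₀ = F.map d.op x := hz
    rw [map_map', hed, ← map_map']
    refine (congrArg _ hz₀).trans ((map_map' F _ _ x).trans ?_)
    rw [show d' ≫ d = 𝟙 cW.pt from Over.OverMorphism.ext (Category.id_comp _)]
    exact Functor.map_id_apply F (op cW.pt) x
  · obtain ⟨k, f, hf⟩ := (Types.FilteredColimit.isColimit_eq_iff' hcol (i := op i) (F.map (e i).op x)
      (F.map (e i).op x')).1 (show F.map ((Over.map U.hom).map (c'.π.app i)).op (F.map (e i).op x) =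
          F.map ((Over.map U.hom).map (c'.π.app i)).op (F.map (e i).op x') by
        rw [map_map', map_map', ← hde, ← map_map', ← map_map']
        exact congrArg _ h)
    refine ⟨k.unop, f.unop, ?_⟩
    have hf' : F.map ((Over.map U.hom).map (W'.map f.unop)).op (F.map (e i).op x) =
        F.map ((Over.map U.hom).map (W'.map f.unop)).op (F.map (e i).op x') := hf
    have h₂ := congrArg (F.map (e' k.unop).op) hf'
    simp only [map_map'] at h₂
    have he : e' k.unop ≫ (Over.map U.hom).map (W'.map f.unop) ≫ e i = W.map f.unop :=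
      Over.OverMorphism.ext ((Category.id_comp _).trans (Category.comp_id _))
    rwa [he] at h₂

theorem isLimitPreserving_of_local (F : PSp S) (hF : Presheaf.IsSheaf (J S) F) {ι : Type u} (U : ι → Over S)
    (hfl : ∀ j, Flat (U j).hom) (hfp : ∀ j, LocallyOfFinitePresentation (U j).hom)
    (hsurj : ∀ s : ↥S, ∃ (j : ι) (x : ↥(U j).left), (U j).hom.base x = s)
    (hloc : ∀ j, IsLimitPreserving (S := (U j).left) ((Over.map (U j).hom).op ⋙ F)) :
    IsLimitPreserving F := by
  rw [isLimitPreserving_iff]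
  -- the pullback of the covering to an affine scheme
  have key : ∀ (T : Over S), IsAffine T.left → ∃ C : Fam T, ∀ a, ∃ j, Nonempty (C.Z a ⟶ U j) := by
    intro T hT
    let P : ι → Over S := fun j => Over.mk (pullback.fst T.hom (U j).hom ≫ T.hom)
    let v : ∀ j, P j ⟶ T := fun j => Over.homMk (pullback.fst T.hom (U j).hom) rfl
    let u : ∀ j, P j ⟶ U j := fun j => Over.homMk (pullback.snd T.hom (U j).hom) pullback.condition.symm
    obtain ⟨C, hC⟩ := exists_fam (R := Sieve.ofArrows P v) (mem_J P v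
      (fun j => MorphismProperty.of_isPullback (IsPullback.of_hasPullback T.hom (U j).hom).flip (hfl j))
      (fun j => MorphismProperty.of_isPullback (IsPullback.of_hasPullback T.hom (U j).hom).flip (hfp j))
      (fun x => by
        obtain ⟨j, y, hy⟩ := hsurj (T.hom x)
        obtain ⟨w, hw, -⟩ := Scheme.exists_preimage_of_isPullback (IsPullback.of_hasPullback T.hom (U j).hom) x y hy.symm
        exact ⟨j, w, hw⟩) _ fun j => Sieve.ofArrows_mk _ _ j)
    refine ⟨C, fun a => ?_⟩
    obtain ⟨j, g, -⟩ := (Sieve.mem_ofArrows_iff _ _ _).1 (hC a)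
    exact ⟨j, ⟨g ≫ u j⟩⟩
  have hinj : InjProp (toPt F) := by
    intro I _ _ D c hc hA hT i x x' _ h
    obtain ⟨C, hC⟩ := key (D.obj i) (hA i)
    haveI : ∀ a, IsAffine (C.Z a).left := C.affine
    let Ws : ∀ a, Sys D c (C.v a) := fun a => (exists_sys D hA c hc (C.v a)).some
    refine eq_stage_of_local hF x x' C Ws fun a => ?_
    obtain ⟨j, ⟨g⟩⟩ := hC a
    let top : Over i := Over.mk (𝟙 i)
    obtain ⟨l, ω, hl⟩ := (lp_of_over (hloc j) (Ws a).W (Ws a).cW (Ws a).lim (Ws a).affine (Ws a).affinePt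
      (fun l => (Ws a).b l ≫ g) (fun φ => by rw [← Category.assoc, (Ws a).natb])).2 top
      (F.map ((Ws a).b top ≫ C.v a).op x) (F.map ((Ws a).b top ≫ C.v a).op x') (by
        rw [map_map', map_map', ← Category.assoc, ← (Ws a).hp top, ← (Ws a).sqLim.w, ← map_map', ← map_map']
        exact congrArg _ h)
    exact ⟨l, by simpa only [map_map', ← Category.assoc, (Ws a).natb] using hl⟩
  refine ⟨fun I _ _ D c hc hA hT i y x hxy => ?_, hinj⟩
  obtain ⟨C, hC⟩ := key (D.obj i) (hA i)
  haveI : ∀ a, IsAffine (C.Z a).left := C.affine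
  let Ws : ∀ a, Sys D c (C.v a) := fun a => (exists_sys D hA c hc (C.v a)).some
  refine surj_of_local hF isSheaf_pt (toPt F) hinj hA hc y x C Ws fun a => ?_
  obtain ⟨j, ⟨g⟩⟩ := hC a
  obtain ⟨l, z, hz⟩ := (lp_of_over (hloc j) (Ws a).W (Ws a).cW (Ws a).lim (Ws a).affine (Ws a).affinePt
      (fun l => (Ws a).b l ≫ g) (fun φ => by rw [← Category.assoc, (Ws a).natb])).1 (F.map (Ws a).q.op x)
  exact ⟨l, z, rfl, hz⟩

end Groth.Agent.AlgSpOne.LPLocal
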