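import Groth.Agent.AlgSpOne.LPGlue
import Mathlib.CategoryTheory.Sites.LocallyBijective

/-!
# Sheafification preserves being relatively limit preserving
-/

set_option autoImplicit false
set_option backward.isDefEq.respectTransparency false
set_option backward.isDefEq.respectTransparency.types false

universe u

open CategoryTheory Limits Opposite AlgebraicGeometry AlgSp Groth.Agent.AlgSpPts
open Groth.Agent.AlgSpOne.FppfStage Groth.Agent.AlgSpOne.LPGlue

namespace Groth.Agent.AlgSpOne.LPSheafify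

variable {S : Scheme.{u}} {F G F' G' : PSp S} (φ : F ⟶ F') (ψ : G ⟶ G')

theorem inj_sheafify [Presheaf.IsLocallyInjective (J S) φ] [Presheaf.IsLocallySurjective (J S) φ]
    [Presheaf.IsLocallyInjective (J S) ψ] (hF' : Presheaf.IsSheaf (J S) F') (a : F ⟶ G) (a' : F' ⟶ G')
    (w : φ ≫ a' = a ≫ ψ) (ha : InjProp a) : InjProp a' := by
  intro I _ _ D c hc hA hT i s s' hs hlim
  haveI : IsAffine (D.obj i).left := hA i
  have hw : ∀ {T : Over S} (f : F.obj (op T)), a'.app _ (φ.app _ f) = ψ.app _ (a.app _ f) := fun {T} f =>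
    congrArg (fun t => t.app (op T) f) w
  let R : Sieve (D.obj i) :=
    { arrows := fun Z h => ∃ f f' : F.obj (op Z), φ.app _ f = F'.map h.op s ∧ φ.app _ f' = F'.map h.op s' ∧
        a.app _ f = a.app _ f'
      downward_closed := by
        rintro Z Z' h ⟨f, f', e₁, e₂, e₃⟩ g
        refine ⟨F.map g.op f, F.map g.op f', ?_, ?_, ?_⟩
        · rw [app_map', e₁, map_map']
        · rw [app_map', e₂, map_map']
        · rw [app_map', app_map', e₃] }
  have hR : R ∈ J S (D.obj i) := by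
    refine (J S).transitive ((J S).intersection_covering (Presheaf.imageSieve_mem (J S) φ s)
      (Presheaf.imageSieve_mem (J S) φ s')) R fun Z h hh => ?_
    obtain ⟨⟨f, hf⟩, ⟨f', hf'⟩⟩ := hh
    refine GrothendieckTopology.superset_covering _ ?_ (Presheaf.equalizerSieve_mem (J S) ψ (a.app _ f) (a.app _ f') ?_)
    · intro Z' g hg
      refine ⟨F.map g.op f, F.map g.op f', ?_, ?_, ?_⟩
      · rw [app_map', hf, map_map']
      · rw [app_map', hf', map_map']
      · rw [app_map', app_map']; exact hg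
    · rw [← hw, ← hw, hf, hf', app_map', app_map', hs]
  obtain ⟨C, hC⟩ := exists_fam hR
  haveI : ∀ b, IsAffine (C.Z b).left := C.affine
  choose f f' hf hf' hff using hC
  let Ws : ∀ b, Sys D c (C.v b) := fun b => (exists_sys D hA c hc (C.v b)).some
  refine eq_stage_of_local hF' s s' C Ws fun b => ?_
  -- refine the member so that the two presheaf sections agree in the limit
  let W := (Ws b).W
  have e : φ.app _ (F.map (Ws b).p.op (f b)) = φ.app _ (F.map (Ws b).p.op (f' b)) := by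
    rw [app_map', app_map', hf, hf', map_map', map_map', ← (Ws b).sqLim.w, ← map_map', ← map_map']
    exact congrArg _ hlim
  obtain ⟨l, -, C₂, hC₂⟩ := exists_stage_fam W (Ws b).affine (Ws b).cW (Ws b).lim (Ws b).affinePt
    (Presheaf.equalizerSieve_mem (J S) φ _ _ e) (Over.mk (𝟙 i))
  haveI : ∀ d, IsAffine (C₂.Z d).left := C₂.affine
  let Ws₂ : ∀ d, Sys W (Ws b).cW (C₂.v d) := fun d => (exists_sys W (Ws b).affine _ (Ws b).lim (C₂.v d)).some
  obtain ⟨k, ω, hk⟩ := eq_stage_of_local hF' (F'.map ((Ws b).b l ≫ C.v b).op s) (F'.map ((Ws b).b l ≫ C.v b).op s')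
    C₂ Ws₂ fun d => by
      let top : Over l := Over.mk (𝟙 l)
      obtain ⟨m, χ, hm⟩ := ha (Ws₂ d).W (Ws₂ d).cW (Ws₂ d).lim (Ws₂ d).affine (Ws₂ d).affinePt top
        (F.map ((Ws₂ d).b top ≫ C₂.v d ≫ (Ws b).b l).op (f b))
        (F.map ((Ws₂ d).b top ≫ C₂.v d ≫ (Ws b).b l).op (f' b))
        (by rw [app_map', app_map', hff]) (by
          have e₂ := hC₂ d (Ws₂ d).p (Ws₂ d).q (Ws₂ d).sqLim.w.symm
          change F.map (Ws₂ d).q.op (F.map (Ws b).p.op (f b)) = F.map (Ws₂ d).q.op (F.map (Ws b).p.op (f' b)) at e₂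
          have e₃ : (Ws₂ d).cW.π.app top ≫ (Ws₂ d).b top ≫ C₂.v d ≫ (Ws b).b l = (Ws₂ d).q ≫ (Ws b).p := by
            rw [← Category.assoc, ← (Ws₂ d).hp top, ← reassoc_of% (Ws₂ d).sqLim.w, ← (Ws b).hp l]
          rw [map_map', map_map', e₃, ← map_map', ← map_map']
          exact e₂)
      refine ⟨m, ?_⟩
      have h := congrArg (φ.app _) hm
      simp only [app_map', hf, hf', map_map', ← Category.assoc, (Ws₂ d).natb] at h
      simpa only [map_map', ← Category.assoc] using h
  exact ⟨k, by simpa only [map_map', ← Category.assoc, (Ws b).natb] using hk⟩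

theorem relLP_sheafify [Presheaf.IsLocallyInjective (J S) φ] [Presheaf.IsLocallySurjective (J S) φ]
    [Presheaf.IsLocallyInjective (J S) ψ] [Presheaf.IsLocallySurjective (J S) ψ]
    (hF' : Presheaf.IsSheaf (J S) F') (hG' : Presheaf.IsSheaf (J S) G') (a : F ⟶ G) (a' : F' ⟶ G')
    (w : φ ≫ a' = a ≫ ψ) (ha : RelLP a) : RelLP a' := by
  have hinj : InjProp a' := inj_sheafify φ ψ hF' a a' w ha.inj
  refine ⟨fun I _ _ D c hc hA hT i y x hxy => ?_, hinj⟩
  haveI : IsAffine (D.obj i).left := hA i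
  have hw : ∀ {T : Over S} (f : F.obj (op T)), a'.app _ (φ.app _ f) = ψ.app _ (a.app _ f) := fun {T} f =>
    congrArg (fun t => t.app (op T) f) w
  have hy : Presheaf.imageSieve ψ y ∈ J S (D.obj i) := Presheaf.imageSieve_mem (J S) ψ y
  obtain ⟨C, hC⟩ := exists_fam hy
  haveI : ∀ b, IsAffine (C.Z b).left := C.affine
  choose g hg using fun b => (hC b : ∃ t, ψ.app _ t = G'.map (C.v b).op y)
  let Ws : ∀ b, Sys D c (C.v b) := fun b => (exists_sys D hA c hc (C.v b)).some
  obtain ⟨k, f₀, z, hz, hzx⟩ := surj_of_local hF' hG' a' hinj hA hc y x C Ws fun b => by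
    let x₁ : F'.obj (op (Ws b).cW.pt) := F'.map (Ws b).q.op x
    let g₁ := G.map (Ws b).p.op (g b)
    let R : Sieve (Ws b).cW.pt :=
      { arrows := fun Z h => ∃ f : F.obj (op Z), φ.app _ f = F'.map h.op x₁ ∧ a.app _ f = G.map h.op g₁
        downward_closed := by
          rintro Z Z' h ⟨f, e₁, e₂⟩ t
          exact ⟨F.map t.op f, by rw [app_map', e₁, map_map'], by rw [app_map', e₂, map_map']⟩ }
    have hx₁ : Presheaf.imageSieve φ x₁ ∈ J S (Ws b).cW.pt := Presheaf.imageSieve_mem (J S) φ x₁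
    have hR : R ∈ J S (Ws b).cW.pt := by
      refine (J S).transitive hx₁ R fun Z h hh => ?_
      obtain ⟨f, hf⟩ := (hh : ∃ t, φ.app _ t = F'.map h.op x₁)
      refine GrothendieckTopology.superset_covering _ ?_
        (Presheaf.equalizerSieve_mem (J S) ψ (a.app _ f) (G.map h.op g₁) ?_)
      · intro Z' t ht
        refine ⟨F.map t.op f, ?_, ?_⟩
        · rw [app_map', hf, map_map']
        · rw [app_map']
          exact (ht : G.map t.op (a.app _ f) = G.map t.op (G.map h.op g₁)).trans (map_map' G t h g₁)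
      · rw [← hw, hf]
        simp only [x₁, g₁, app_map', map_map', hg, hxy]
        refine (map_map' G' _ _ y).trans ?_
        simp only [Category.assoc]
        rw [(Ws b).sqLim.w]
    obtain ⟨l, -, C₂, hC₂⟩ := exists_stage_fam (Ws b).W (Ws b).affine (Ws b).cW (Ws b).lim (Ws b).affinePt hR
      (Over.mk (𝟙 i))
    haveI : ∀ d, IsAffine (C₂.Z d).left := C₂.affine
    let Ws₂ : ∀ d, Sys (Ws b).W (Ws b).cW (C₂.v d) :=
      fun d => (exists_sys (Ws b).W (Ws b).affine _ (Ws b).lim (C₂.v d)).some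
    obtain ⟨m, χ, z, hz, hzx⟩ := surj_of_local hF' hG' a' hinj (Ws b).affine (Ws b).lim
      (G'.map ((Ws b).b l ≫ C.v b).op y) x₁ C₂ Ws₂ fun d => by
        let top : Over l := Over.mk (𝟙 l)
        obtain ⟨f, hf₁, hf₂⟩ := hC₂ d (Ws₂ d).p (Ws₂ d).q (Ws₂ d).sqLim.w.symm
        have e₃ : (Ws₂ d).cW.π.app top ≫ (Ws₂ d).b top ≫ C₂.v d ≫ (Ws b).b l = (Ws₂ d).q ≫ (Ws b).p := by
          rw [← Category.assoc, ← (Ws₂ d).hp top, ← reassoc_of% (Ws₂ d).sqLim.w, ← (Ws b).hp l]
        obtain ⟨m, χ, fm, hfm₁, hfm₂⟩ := ha.surj (Ws₂ d).W (Ws₂ d).cW (Ws₂ d).lim (Ws₂ d).affine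
          (Ws₂ d).affinePt top (G.map ((Ws₂ d).b top ≫ C₂.v d ≫ (Ws b).b l).op (g b)) f (by
            rw [hf₂]
            simp only [g₁, map_map', e₃]
            rfl)
        refine ⟨m, φ.app _ fm, ?_, ?_⟩
        · rw [hw, hfm₁]
          simp only [app_map', hg, map_map']
          simp only [← Category.assoc, (Ws₂ d).natb]
        · rw [← app_map', hfm₂]
          exact hf₁
    refine ⟨m, z, ?_, hzx⟩
    rw [hz, map_map', ← Category.assoc, (Ws b).natb]
  exact ⟨k, f₀, z, hz, hzx⟩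

end Groth.Agent.AlgSpOne.LPSheafify

namespace Groth.Agent.AlgSpOne.LPSheafify

variable {S : Scheme.{u}}

/-- The constant presheaf with one element. -/
def pt (S : Scheme.{u}) : PSp S := (Functor.const (Over S)ᵒᵖ).obj PUnit.{u + 2}

theorem isSheaf_pt : Presheaf.IsSheaf (J S) (pt S) :=
  (isSheaf_iff_isSheaf_of_type _ _).2 fun _ _ _ _ _ => ⟨PUnit.unit, fun _ _ _ => rfl, fun _ _ => rfl⟩

/-- The map to the constant presheaf. -/
def toPt (F : PSp S) : F ⟶ pt S where
  app _ := TypeCat.ofHom fun _ => PUnit.unit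

theorem isLimitPreserving_iff (F : PSp S) : IsLimitPreserving F ↔ RelLP (toPt F) := by
  refine ⟨fun h => ⟨fun I _ _ D c hc hA hT i y x _ => ?_, fun I _ _ D c hc hA hT i x x' _ e => ?_⟩,
    fun h I _ _ D c hc hA hT => ⟨Types.FilteredColimit.isColimitOf' _ _ (fun x => ?_) (fun j x x' e => ?_)⟩⟩
  · obtain ⟨hcol⟩ := h D c hc hA hT
    obtain ⟨j, z, hz⟩ := Types.jointly_surjective_of_isColimit hcol x
    let k := IsCofiltered.min j.unop i
    refine ⟨k, IsCofiltered.minToRight _ _, F.map (D.map (IsCofiltered.minToLeft _ _)).op z, rfl, ?_⟩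
    refine (map_map' F _ _ z).trans ?_
    rw [c.w]
    exact hz
  · obtain ⟨hcol⟩ := h D c hc hA hT
    obtain ⟨k, f, hf⟩ := (Types.FilteredColimit.isColimit_eq_iff' hcol (i := op i) x x').1 e
    exact ⟨k.unop, f.unop, hf⟩
  · obtain ⟨i⟩ := IsCofiltered.nonempty (C := I)
    obtain ⟨k, f, z, -, hz⟩ := h.surj D c hc hA hT i PUnit.unit x rfl
    exact ⟨op k, z, hz.symm⟩
  · obtain ⟨k, f, hf⟩ := h.inj D c hc hA hT j.unop x x' rfl e
    exact ⟨op k, f.op, hf⟩

theorem isLimitPreserving_sheafify (F : PSp S) (hF : IsLimitPreserving F) :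
    IsLimitPreserving (sheafify (J S) F) :=
  (isLimitPreserving_iff _).2 (relLP_sheafify (toSheafify (J S) F) (𝟙 (pt S))
    (((presheafToSheaf (J S) (Type (u + 1))).obj F).property) isSheaf_pt (toPt F) (toPt _) rfl ((isLimitPreserving_iff F).1 hF))

theorem isRelLimitPreserving_sheafify {F G : PSp S} (a : F ⟶ G) (ha : IsRelLimitPreserving a) :
    IsRelLimitPreserving (sheafifyMap (J S) a) :=
  (isRelLimitPreserving_iff _).2 (relLP_sheafify (toSheafify (J S) F) (toSheafify (J S) G)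
    (((presheafToSheaf (J S) (Type (u + 1))).obj F).property) (((presheafToSheaf (J S) (Type (u + 1))).obj G).property) a _
    (toSheafify_naturality (J S) a).symm ((isRelLimitPreserving_iff a).1 ha))

end Groth.Agent.AlgSpOne.LPSheafify
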