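import Groth.Agent.AlgSpOne.LfpOfLimit
import Groth.Agent.AlgSpDec.LimDescentDiag
import Groth.Agent.AlgSpDec.LimAffine
import Groth.Agent.AlgSpDec.AffineLocal
import Groth.Agent.AlgSpDec.LqfSplitZ
import Groth.Agent.LimSm.Cover
import Groth.Agent.AlgSpPts.LimPres

/-!
# Morphisms locally of finite presentation turn affine limits into colimits
-/

set_option autoImplicit false
set_option backward.isDefEq.respectTransparency false
set_option backward.isDefEq.respectTransparency.types false

universe u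

open CategoryTheory Limits Opposite AlgebraicGeometry AlgSp Groth.Agent.AlgSpLib Groth.Agent.AlgSpPts
  Groth.Agent.AlgSpDec

namespace Groth.Agent.AlgSpOne.LfpLimit

variable {S : Scheme.{u}}

/-- Two points over a stage which agree on the limit agree at a stage. -/
theorem exists_eq_stage {X Y : Sp S} (hX : IsAlgSpace X) (hY : IsAlgSpace Y) (f : X ⟶ Y)
    (hf : LocP @LocallyOfFiniteType f) {I : Type u} [SmallCategory I] [IsCofiltered I] (D : I ⥤ Over S)
    (hA : ∀ i, IsAffine (D.obj i).left) (c : Cone D) (hc : IsLimit ((Over.forget S).mapCone c)) {k : I}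
    (a b : (yon S).obj (D.obj k) ⟶ X) (h : a ≫ f = b ≫ f)
    (he : (yon S).map (c.π.app k) ≫ a = (yon S).map (c.π.app k) ≫ b) :
    ∃ (l : I) (g : l ⟶ k), (yon S).map (D.map g) ≫ a = (yon S).map (D.map g) ≫ b := by
  have hd : RepWith @LocallyOfFinitePresentation (pullback.diagonal f) :=
    repWith_of_locP (isAlgSpace_pullback hX hX hY f f) (representable_diagonal hX f)
      (locP_lfp_diagonal hX hY f hf)
  let z := pullback.lift a b h
  haveI : LocallyOfFinitePresentation (hd.rep.snd z).left := hd.property_snd z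
  have sq : IsPullback (hd.rep.fst z) ((yon S).map (hd.rep.snd z)) (pullback.diagonal f) z := hd.rep.isPullback z
  let σ : c.pt ⟶ hd.rep.pullback z := (yon S).preimage (sq.lift ((yon S).map (c.π.app k) ≫ a)
    ((yon S).map (c.π.app k)) (pullback.hom_ext (by simp [z]) (by simp [z, he])))
  have hσ : σ ≫ hd.rep.snd z = c.π.app k := (yon S).map_injective (by
    rw [Functor.map_comp, Functor.map_preimage, sq.lift_snd])
  obtain ⟨l, g, τ, hτ, -⟩ := LimStage.exists_lift_stage (D ⋙ Over.forget S) hA _ hc (hd.rep.snd z).left σ.left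
    (congrArg CommaMorphism.left hσ)
  let τ' : D.obj l ⟶ hd.rep.pullback z := Over.homMk τ (by
    rw [← Over.w (hd.rep.snd z), ← Category.assoc]
    exact (congrArg (· ≫ (D.obj k).hom) hτ).trans (Over.w (D.map g)))
  have e : τ' ≫ hd.rep.snd z = D.map g := Over.OverMorphism.ext hτ
  refine ⟨l, g, ?_⟩
  have e₁ := sq.w =≫ pullback.fst f f
  have e₂ := sq.w =≫ pullback.snd f f
  simp only [z, Category.assoc, pullback.lift_fst, pullback.lift_snd, pullback.diagonal_fst,
    pullback.diagonal_snd, Category.comp_id] at e₁ e₂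
  rw [← e, Functor.map_comp, Category.assoc, Category.assoc, ← e₁, ← e₂]

/-- An etale surjection onto the limit is refined by the base change of one over a stage. -/
theorem exists_cover_stage {I : Type u} [SmallCategory I] [IsCofiltered I] (D : I ⥤ Over S)
    (hA : ∀ i, IsAffine (D.obj i).left) (c : Cone D) (hc : IsLimit ((Over.forget S).mapCone c))
    (hT : IsAffine c.pt.left) {T' : Over S} (π : T' ⟶ c.pt) [IsAffine T'.left] [Etale π.left] [Surjective π.left] :
    ∃ (i : I) (Z : Over S) (v : Z ⟶ D.obj i), IsAffine Z.left ∧ Etale v.left ∧ Surjective v.left ∧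
      ∀ {P : Over S} (p : P ⟶ Z) (q : P ⟶ c.pt), p ≫ v = q ≫ c.π.app i → ∃ τ : P ⟶ T', τ ≫ π = q := by
  let E := D ⋙ Over.forget S
  let e := (Over.forget S).mapCone c
  haveI : ∀ j, IsAffine (E.obj j) := hA
  haveI : ∀ {j k : I} (f : j ⟶ k), IsAffineHom (E.map f) := fun f => inferInstance
  haveI : IsAffine e.pt := hT
  let π' : T'.left ⟶ e.pt := π.left
  haveI : Etale π' := ‹Etale π.left›
  obtain ⟨m, Xm, fm, gm, hm⟩ := ConsPropLib.hasModel hc π'
  haveI := hm.qc
  haveI := hm.qs
  obtain ⟨k, φ, hk⟩ := MorLib.Desc.descend E e hc m LimSm.core_etale fm hm.lfp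
    (MorLib.Desc.of_two @Etale hm.sq (IsPullback.of_hasPullback _ _) ‹Etale π'›)
  have hMk := hm.pushed φ
  let fk := pullback.snd fm (E.map φ)
  haveI : Etale fk := hk
  let W : (E.obj k).Opens := ⟨Set.range fk, fk.isOpenMap.isOpen_range⟩
  obtain ⟨l, θ, hθ⟩ := exists_map_eq_top E e hc W (top_le_iff.1 fun x _ => by
    obtain ⟨y, rfl⟩ := π.left.surjective x
    exact ⟨hm.push φ y, by
      show fk (hm.push φ y) = e.π.app k (π' y)
      rw [← Scheme.Hom.comp_apply, hMk.sq.w, Scheme.Hom.comp_apply]; rfl⟩)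
  let fl := pullback.snd fk (E.map θ)
  have hMl := hMk.pushed θ
  haveI : Etale fl := MorphismProperty.pullback_snd _ _ hk
  haveI : Surjective fl := ⟨fun x => by
    have : x ∈ Set.range fl := by
      rw [Scheme.Pullback.range_snd]; exact hθ.ge (Set.mem_univ x)
    exact this⟩
  obtain ⟨n, U, hU, hcov⟩ := exists_affine_refinement fl
  haveI : ∀ i : ULift.{u} (Fin n), IsAffine (U i.down).toScheme := fun i => hU i.down
  let j : (∐ fun i : ULift.{u} (Fin n) => (U i.down).toScheme) ⟶ _ := Sigma.desc fun i => (U i.down).ι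
  have hje : Etale j := by
    refine IsZariskiLocalAtSource.of_openCover (sigmaOpenCover _) fun i => ?_
    change Etale (Sigma.ι (fun i : ULift.{u} (Fin n) => (U i.down).toScheme) i ≫ j)
    rw [Sigma.ι_desc]
    infer_instance
  let Z : Over S := Over.mk ((j ≫ fl) ≫ (D.obj l).hom)
  refine ⟨l, Z, Over.homMk (j ≫ fl) rfl, inferInstanceAs (IsAffine (∐ _)), inferInstanceAs (Etale (j ≫ fl)),
    ⟨fun x => ?_⟩, fun {P} p q w => ?_⟩
  · obtain ⟨i, y, hy, hyx⟩ := hcov x
    refine ⟨Sigma.ι (fun i : ULift.{u} (Fin n) => (U i.down).toScheme) ⟨i⟩ ⟨y, hy⟩, ?_⟩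
    show (j ≫ fl) _ = x
    rw [← Scheme.Hom.comp_apply, ← Category.assoc, Sigma.ι_desc, Scheme.Hom.comp_apply]
    exact hyx
  · have w' : (p.left ≫ j) ≫ fl = q.left ≫ e.π.app l := by
      rw [Category.assoc]; exact congrArg CommaMorphism.left w
    refine ⟨Over.homMk (hMl.sq.lift _ _ w') ?_, Over.OverMorphism.ext (hMl.sq.lift_snd _ _ w')⟩
    rw [← Over.w π, ← Category.assoc]
    exact (congrArg (· ≫ c.pt.hom) (hMl.sq.lift_snd _ _ w')).trans (Over.w q)

theorem isAffineMor_yon_map {A B : Over S} [IsAffine A.left] [IsAffine B.left] (φ : A ⟶ B) :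
    IsAffineMor ((yon S).map φ) :=
  isAffineMor_of_repWith le_rfl ((repWith_yon_map_iff @IsAffineHom φ).2 inferInstance)

set_option maxHeartbeats 1000000 in
/-- A point of the limit over a point of a stage comes from a stage. -/
theorem exists_point_stage {X Y : Sp S} (hX : IsAlgSpace X) (hY : IsAlgSpace Y) (f : X ⟶ Y)
    (hf : LocP @LocallyOfFinitePresentation f) {I : Type u} [SmallCategory I] [IsCofiltered I] (D : I ⥤ Over S)
    (hA : ∀ i, IsAffine (D.obj i).left) (c : Cone D) (hc : IsLimit ((Over.forget S).mapCone c))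
    (hT : IsAffine c.pt.left) (x : (yon S).obj c.pt ⟶ X) {i : I} (y : (yon S).obj (D.obj i) ⟶ Y)
    (hxy : x ≫ f = (yon S).map (c.π.app i) ≫ y) :
    ∃ (k : I) (φ : k ⟶ i) (x' : (yon S).obj (D.obj k) ⟶ X),
      (yon S).map (c.π.app k) ≫ x' = x ∧ x' ≫ f = (yon S).map (D.map φ) ≫ y := by
  haveI := hT
  have hfft : LocP @LocallyOfFiniteType f := fun U V a b h ha hb e =>
    have : LocallyOfFinitePresentation h.left := hf a b h ha hb e
    inferInstance
  obtain ⟨U, u, hu, hus⟩ := hX.atlas
  obtain ⟨T', π, α, hT', hπ, hπs, hπα⟩ := exists_affine_cover_lift hu hus x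
  haveI := hπ
  haveI := hπs
  haveI := hT'
  haveI := IsCofiltered.isConnected (Over i)
  haveI := IsCofiltered.isConnected I
  let cI := c.whisker (CategoryTheory.Over.forget i)
  have hcI : IsLimit ((Over.forget S).mapCone cI) :=
    (Functor.Initial.isLimitWhiskerEquiv (CategoryTheory.Over.forget i) _).symm hc
  obtain ⟨i₁, Z, v, hZ, hve, hvs, hlift⟩ := exists_cover_stage (CategoryTheory.Over.forget i ⋙ D)
    (fun j => hA _) cI hcI hT π
  haveI := hZ
  -- the system of base changes of the covering of the stage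
  haveI : ∀ j : I, IsAffine (D.obj j).left := hA
  obtain ⟨W, cW, hcW, p, fst, aW, bW, haw, sqW, hwb, hAW, hWA, sqj, hfst, hp⟩ :=
    exists_limit_square'' (D ⋙ yon S) (fun j k g => isAffineMor_yon_map (D.map g)) ((yon S).mapCone c)
      (isLimitOfPreserves (yon S) (isLimitOfReflects (Over.forget S) hc)) i₁.left ((yon S).map v)
  let q : cW.pt ⟶ c.pt := (yon S).preimage fst
  have hq : (yon S).map q = fst := (yon S).map_preimage fst
  obtain ⟨τ, hτ⟩ := hlift p q ((yon S).map_injective (by
    rw [Functor.map_comp, Functor.map_comp, hq]; exact sqW.w.symm))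
  have hαu : (yon S).map (τ ≫ α) ≫ u = fst ≫ x := by
    rw [Functor.map_comp, Category.assoc, ← hπα, ← Functor.map_comp_assoc, hτ, hq]
  -- the base change of the chart
  have hw : RepWith @LocallyOfFinitePresentation (u ≫ f) :=
    repWith_of_locP hY (representable_from_yon' hY _) fun U' V' a' b' h' ha' hb' e' =>
      hf (a' ≫ u) b' h' (repWith_comp ha' hu) hb' (by rw [Category.assoc]; exact e')
  have hcW' : IsLimit ((Over.forget S).mapCone cW) := by
    haveI := IsCofiltered.isConnected (Over i₁.left)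
    exact isLimitOfPreserves (Over.forget S) hcW
  let top : Over i₁.left := Over.mk (𝟙 i₁.left)
  let y' : (yon S).obj (W.obj top) ⟶ Y := (yon S).map (bW top ≫ v ≫ D.map i₁.hom) ≫ y
  haveI : LocallyOfFinitePresentation (hw.rep.snd y').left := hw.property_snd y'
  have sqy : IsPullback ((yon S).map (hw.rep.fst' y')) ((yon S).map (hw.rep.snd y')) (u ≫ f) y' :=
    hw.rep.isPullback' y'
  let σ : cW.pt ⟶ hw.rep.pullback y' := (yon S).preimage (sqy.lift ((yon S).map (τ ≫ α))
    ((yon S).map (cW.π.app top)) (by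
      rw [reassoc_of% hαu, hxy]
      simp only [y', ← Functor.map_comp_assoc]
      rw [← hq, ← Functor.map_comp_assoc]
      congr 2
      apply (yon S).map_injective
      rw [← Category.assoc (cW.π.app top), ← hp top, Functor.map_comp, Functor.map_comp, Functor.map_comp, hq,
        ← c.w i₁.hom, Functor.map_comp, ← Category.assoc]
      exact congrArg (· ≫ (yon S).map (D.map i₁.hom)) sqW.w))
  have hσ₁ : σ ≫ hw.rep.fst' y' = τ ≫ α := (yon S).map_injective (by
    rw [Functor.map_comp, Functor.map_preimage, sqy.lift_fst])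
  have hσ₂ : σ ≫ hw.rep.snd y' = cW.π.app top := (yon S).map_injective (by
    rw [Functor.map_comp, Functor.map_preimage, sqy.lift_snd])
  obtain ⟨l, ψ, g, hg, hg'⟩ := LimStage.exists_lift_stage (W ⋙ Over.forget S) hWA _ hcW'
    (hw.rep.snd y').left σ.left (congrArg CommaMorphism.left hσ₂)
  let g₀ : W.obj l ⟶ hw.rep.pullback y' := Over.homMk g (by
    rw [← Over.w (hw.rep.snd y'), ← Category.assoc]
    exact (congrArg (· ≫ (W.obj top).hom) hg).trans (Over.w (W.map ψ)))
  have hg₀ : g₀ ≫ hw.rep.snd y' = W.map ψ := Over.OverMorphism.ext hg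
  let αl : W.obj l ⟶ U := g₀ ≫ hw.rep.fst' y'
  have hαl : cW.π.app l ≫ αl = τ ≫ α := by
    rw [← Category.assoc, show cW.π.app l ≫ g₀ = σ from Over.OverMorphism.ext hg', hσ₁]
  let d : l.left ⟶ i := l.hom ≫ i₁.hom
  obtain ⟨ql, hql⟩ : ∃ ql : W.obj l ⟶ D.obj l.left, (yon S).map ql = aW l := (yon S).map_surjective _
  have hxl : ((yon S).map αl ≫ u) ≫ f = (yon S).map (ql ≫ D.map d) ≫ y := by
    rw [Category.assoc, Functor.map_comp, Category.assoc, sqy.w]
    simp only [y', ← Functor.map_comp_assoc]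
    congr 2
    apply (yon S).map_injective
    rw [← Category.assoc g₀, hg₀, ← Category.assoc, hwb ψ, Functor.map_comp, Functor.map_comp,
      Functor.map_comp, hql, D.map_comp, Functor.map_comp, ← Category.assoc, ← Category.assoc]
    exact congrArg (· ≫ (yon S).map (D.map i₁.hom)) (sqj l).w.symm
  -- the two restrictions to the self product
  haveI : IsAffine (W.obj l).left := hWA l
  let R := pullback ql ql
  have sR : IsPullback ((yon S).map (pullback.fst ql ql)) ((yon S).map (pullback.snd ql ql)) (aW l) (aW l) := by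
    rw [← hql]; exact (IsPullback.of_hasPullback ql ql).map _
  haveI : IsAffine (pullback ((Over.forget S).map ql) ((Over.forget S).map ql)) :=
    inferInstanceAs (IsAffine (pullback ql.left ql.left))
  haveI : IsAffine R.left :=
    IsAffine.of_isIso ((IsPullback.of_hasPullback ql ql).map (Over.forget S)).isoPullback.hom
  obtain ⟨W', cW', hcW'', p', fst', aW', bW', haw', sqW', hwb', hAW', hWA', sqj', hfst', hp'⟩ :=
    exists_limit_square'' (D ⋙ yon S) (fun j k g => isAffineMor_yon_map (D.map g)) ((yon S).mapCone c)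
      (isLimitOfPreserves (yon S) (isLimitOfReflects (Over.forget S) hc)) l.left
      ((yon S).map (pullback.fst ql ql) ≫ aW l)
  have hsk : IsPullback fst ((yon S).map (cW.π.app l)) ((yon S).map (c.π.app l.left)) (aW l) := by
    refine IsPullback.of_bot ?_ (hfst l) (sqj l)
    rw [← Functor.map_comp, ← hp l]
    convert sqW using 1
    exact ((yon S).map_comp _ _).symm.trans (congrArg _ (c.w l.hom))
  have key : ∀ (r : R ⟶ W.obj l), (yon S).map r ≫ aW l = (yon S).map (pullback.fst ql ql) ≫ aW l →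
      (yon S).map p' ≫ (yon S).map r ≫ (yon S).map αl ≫ u = fst' ≫ x := by
    intro r hr
    have e : fst' ≫ (yon S).map (c.π.app l.left) = ((yon S).map p' ≫ (yon S).map r) ≫ aW l := by
      rw [Category.assoc, hr]; exact sqW'.w
    calc (yon S).map p' ≫ (yon S).map r ≫ (yon S).map αl ≫ u
        = hsk.lift _ _ e ≫ (yon S).map (cW.π.app l) ≫ (yon S).map αl ≫ u := by rw [hsk.lift_snd_assoc, Category.assoc]
      _ = hsk.lift _ _ e ≫ fst ≫ x := by rw [← Functor.map_comp_assoc, hαl, hαu]
      _ = fst' ≫ x := by rw [hsk.lift_fst_assoc]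
  let k₀ : Over l.left := Over.mk (𝟙 l.left)
  have hcW3 : IsLimit ((Over.forget S).mapCone cW') := by
    haveI := IsCofiltered.isConnected (Over l.left)
    exact isLimitOfPreserves (Over.forget S) hcW''
  obtain ⟨k, ω, hk⟩ := exists_eq_stage hX hY f hfft W' hWA' cW' hcW3 (k := k₀)
    ((yon S).map (bW' k₀ ≫ pullback.fst ql ql ≫ αl) ≫ u)
    ((yon S).map (bW' k₀ ≫ pullback.snd ql ql ≫ αl) ≫ u)
    (by
      simp only [Functor.map_comp, Category.assoc] at hxl ⊢
      rw [hxl, hql, reassoc_of% sR.w])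
    (by
      rw [← Functor.map_comp_assoc, ← Functor.map_comp_assoc, ← Category.assoc _ (bW' k₀),
        ← Category.assoc _ (bW' k₀), ← hp' k₀]
      simp only [Functor.map_comp, Category.assoc]
      rw [key _ rfl, key _ sR.w.symm])
  rw [← Functor.map_comp_assoc, ← Functor.map_comp_assoc, reassoc_of% (hwb' ω), reassoc_of% (hwb' ω)] at hk
  -- descend at the stage `k`
  let m : Over i₁.left := Over.mk (k.hom ≫ l.hom)
  let χ : m ⟶ l := Over.homMk k.hom rfl
  obtain ⟨qm, hqm⟩ : ∃ qm : W.obj m ⟶ D.obj k.left, (yon S).map qm = aW m := (yon S).map_surjective _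
  have hχq : W.map χ ≫ ql = qm ≫ D.map k.hom := (yon S).map_injective (by
    rw [Functor.map_comp, Functor.map_comp, hql, hqm]; exact haw χ)
  haveI : Sheaf.IsLocallySurjective (aW m) := isLocallySurjective_of_etale_surjective
    (repWith_of_isPullback (sqj m).flip ((repWith_yon_map_iff _ v).2 hve))
    (repWith_of_isPullback (sqj m).flip ((repWith_yon_map_iff _ v).2 hvs))
  have sRm : IsPullback ((yon S).map (pullback.fst qm qm)) ((yon S).map (pullback.snd qm qm)) (aW m) (aW m) := by
    rw [← hqm]; exact (IsPullback.of_hasPullback qm qm).map _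
  have hkd : (yon S).map (pullback.fst qm qm) ≫ ((yon S).map (W.map χ ≫ αl) ≫ u) =
      (yon S).map (pullback.snd qm qm) ≫ ((yon S).map (W.map χ ≫ αl) ≫ u) := by
    let r : pullback qm qm ⟶ R := pullback.map qm qm ql ql (W.map χ) (W.map χ) (D.map k.hom) hχq.symm hχq.symm
    let n : (yon S).obj (pullback qm qm) ⟶ (yon S).obj (W'.obj k) :=
      (sqj' k).lift ((yon S).map (pullback.fst qm qm ≫ qm)) ((yon S).map r) (by
        rw [← hql]
        change _ ≫ (yon S).map (D.map k.hom) = _
        simp only [← Functor.map_comp, r, Category.assoc, pullback.lift_fst_assoc, hχq])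
    have hn : n ≫ (yon S).map (bW' k) = (yon S).map r := (sqj' k).lift_snd _ _ _
    have h₂ := n ≫= hk
    have r₁ : (yon S).map r ≫ (yon S).map (pullback.fst ql ql) =
        (yon S).map (pullback.fst qm qm) ≫ (yon S).map (W.map χ) := by
      rw [← Functor.map_comp, ← Functor.map_comp, pullback.lift_fst]
    have r₂ : (yon S).map r ≫ (yon S).map (pullback.snd ql ql) =
        (yon S).map (pullback.snd qm qm) ≫ (yon S).map (W.map χ) := by
      rw [← Functor.map_comp, ← Functor.map_comp, pullback.lift_snd]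
    simp only [Functor.map_comp, Category.assoc, reassoc_of% hn, reassoc_of% r₁, reassoc_of% r₂] at h₂ ⊢
    exact h₂
  obtain ⟨xk, hxk⟩ := exists_desc_of_kernelPair sRm _ hkd
  refine ⟨k.left, k.hom ≫ d, xk, ?_, ?_⟩
  · have : Epi fst := (Sheaf.isLocallySurjective_iff_epi _).1 (isLocallySurjective_of_etale_surjective
      (repWith_of_isPullback sqW.flip ((repWith_yon_map_iff _ v).2 hve))
      (repWith_of_isPullback sqW.flip ((repWith_yon_map_iff _ v).2 hvs)))
    rw [← cancel_epi fst, ← Category.assoc,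
      show fst ≫ (yon S).map (c.π.app k.left) = (yon S).map (cW.π.app m) ≫ aW m from hfst m, Category.assoc,
      hxk, ← Functor.map_comp_assoc, ← Category.assoc, cW.w, hαl, hαu]
  · have : Epi (aW m) := (Sheaf.isLocallySurjective_iff_epi _).1 inferInstance
    rw [← cancel_epi (aW m), ← Category.assoc, hxk, Functor.map_comp_assoc, Category.assoc]
    simp only [Category.assoc] at hxl ⊢
    rw [hxl, ← hqm]
    simp only [← Functor.map_comp_assoc]
    congr 2
    rw [← Category.assoc, hχq]
    simp [d]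

end Groth.Agent.AlgSpOne.LfpLimit

namespace Groth.Agent.AlgSpOne.LfpLimit

variable {S : Scheme.{u}}

theorem equiv_comp {T : Over S} {F G : Sp S} (g : (yon S).obj T ⟶ F) (f : F ⟶ G) :
    f.hom.app _ ((J S).uliftYonedaEquiv g) = (J S).uliftYonedaEquiv (g ≫ f) :=
  (GrothendieckTopology.uliftYonedaEquiv_comp _ g f).symm

theorem locP_lfp_iff {X Y : Sp S} (hX : IsAlgSpace X) (hY : IsAlgSpace Y) (f : X ⟶ Y) :
    LocP @LocallyOfFinitePresentation f ↔ IsRelLimitPreserving f.hom := by
  rw [isRelLimitPreserving_iff]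
  refine ⟨fun hf => ⟨?_, ?_⟩, fun h => ?_⟩
  · intro I _ _ D c hc hA hT i y x hxy
    obtain ⟨k, φ, x', h₁, h₂⟩ := exists_point_stage hX hY f hf D hA c hc hT ((J S).uliftYonedaEquiv.symm x)
      ((J S).uliftYonedaEquiv.symm y) ((J S).uliftYonedaEquiv.injective (by
        rw [← equiv_comp, ← uliftYonedaEquiv_precomp, Equiv.apply_symm_apply, Equiv.apply_symm_apply]
        exact hxy))
    refine ⟨k, φ, (J S).uliftYonedaEquiv x', ?_, ?_⟩
    · rw [equiv_comp, h₂, ← uliftYonedaEquiv_precomp, Equiv.apply_symm_apply]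
    · rw [uliftYonedaEquiv_precomp, h₁]; exact Equiv.apply_symm_apply _ _
  · intro I _ _ D c hc hA _ i x x' h h'
    have hfft : LocP @LocallyOfFiniteType f := fun U V a b h ha hb e =>
      have : LocallyOfFinitePresentation h.left := hf a b h ha hb e
      inferInstance
    obtain ⟨l, g, hl⟩ := exists_eq_stage hX hY f hfft D hA c hc ((J S).uliftYonedaEquiv.symm x)
      ((J S).uliftYonedaEquiv.symm x') ((J S).uliftYonedaEquiv.injective (by
        rw [← equiv_comp, ← equiv_comp, Equiv.apply_symm_apply, Equiv.apply_symm_apply]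
        exact h)) ((J S).uliftYonedaEquiv.injective (by
        rw [← uliftYonedaEquiv_precomp, ← uliftYonedaEquiv_precomp, Equiv.apply_symm_apply, Equiv.apply_symm_apply]
        exact h'))
    exact ⟨l, g, by simpa [← uliftYonedaEquiv_precomp] using congrArg (J S).uliftYonedaEquiv hl⟩
  · refine LfpOfLimit.locP_lfp_of_surjective f fun I _ _ D c hc hA hT x i y hxy => ?_
    obtain ⟨k, φ, z, hz, hzx⟩ := h.surj D c hc hA hT i ((J S).uliftYonedaEquiv y) ((J S).uliftYonedaEquiv x) (by
      rw [equiv_comp, hxy, ← uliftYonedaEquiv_precomp]; rfl)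
    refine ⟨k, φ, (J S).uliftYonedaEquiv.symm z, (J S).uliftYonedaEquiv.injective ?_,
      (J S).uliftYonedaEquiv.injective ?_⟩
    · rw [← uliftYonedaEquiv_precomp, Equiv.apply_symm_apply]; exact hzx
    · rw [← equiv_comp, ← uliftYonedaEquiv_precomp, Equiv.apply_symm_apply]; exact hz

end Groth.Agent.AlgSpOne.LfpLimit
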