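import Groth.Agent.AlgSpOne.LimStage
import Groth.Agent.AlgSpLib.Rep
import Groth.Agent.AlgSpLib.LocP
import Groth.Agent.LimitsH94.FPCrit

/-!
# Morphisms of spaces with surjective limit comparisons are locally of finite presentation
-/

set_option autoImplicit false
set_option backward.isDefEq.respectTransparency false
set_option backward.isDefEq.respectTransparency.types false

universe u

open CategoryTheory Limits Opposite AlgebraicGeometry AlgSp Groth.Agent.AlgSpLib

namespace Groth.Agent.AlgSpOne.LfpOfLimit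

variable {S : Scheme.{u}}

theorem exists_section_stage {I : Type u} [SmallCategory I] [IsCofiltered I] (D : I ⥤ Over S)
    (hA : ∀ i, IsAffine (D.obj i).left) (c : Cone D) (hc : IsLimit ((Over.forget S).mapCone c))
    {F : Sp S} {U : Over S} {a : (yon S).obj U ⟶ F} (ha : RepWith @Etale a) {k : I}
    (x : (yon S).obj (D.obj k) ⟶ F) (g : c.pt ⟶ U) (h : (yon S).map g ≫ a = (yon S).map (c.π.app k) ≫ x) :
    ∃ (l : I) (f : l ⟶ k) (gl : D.obj l ⟶ U),
      c.π.app l ≫ gl = g ∧ (yon S).map gl ≫ a = (yon S).map (D.map f) ≫ x := by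
  let W := ha.rep.pullback x
  haveI : Etale (ha.rep.snd x).left := ha.property_snd x
  have sq : IsPullback ((yon S).map (ha.rep.fst' x)) ((yon S).map (ha.rep.snd x)) a x := ha.rep.isPullback' x
  let σ₀ : c.pt ⟶ W := (yon S).preimage (sq.lift _ _ h)
  have h₁ : σ₀ ≫ ha.rep.fst' x = g := (yon S).map_injective (by
    rw [Functor.map_comp, Functor.map_preimage, sq.lift_fst])
  have h₂ : σ₀ ≫ ha.rep.snd x = c.π.app k := (yon S).map_injective (by
    rw [Functor.map_comp, Functor.map_preimage, sq.lift_snd])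
  obtain ⟨l, f, τ, hτ, hτ'⟩ := LimStage.exists_lift_stage (D ⋙ Over.forget S) hA _ hc (ha.rep.snd x).left
    σ₀.left (congrArg CommaMorphism.left h₂)
  let τ' : D.obj l ⟶ W := Over.homMk τ (by
    rw [← Over.w (ha.rep.snd x), ← Category.assoc]
    exact (congrArg (· ≫ (D.obj k).hom) hτ).trans (Over.w (D.map f)))
  have e : τ' ≫ ha.rep.snd x = D.map f := Over.OverMorphism.ext hτ
  refine ⟨l, f, τ' ≫ ha.rep.fst' x, ?_, ?_⟩
  · rw [← Category.assoc, show c.π.app l ≫ τ' = σ₀ from Over.OverMorphism.ext hτ', h₁]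
  · rw [Functor.map_comp, Category.assoc, sq.w, ← Functor.map_comp_assoc, e]

theorem exists_eq_stage {I : Type u} [SmallCategory I] [IsCofiltered I] (D : I ⥤ Over S)
    (hA : ∀ i, IsAffine (D.obj i).left) (c : Cone D) (hc : IsLimit ((Over.forget S).mapCone c))
    {F : Sp S} {U : Over S} {a : (yon S).obj U ⟶ F} (ha : RepWith @Etale a) {k : I}
    (g₁ g₂ : D.obj k ⟶ U) (h : (yon S).map g₁ ≫ a = (yon S).map g₂ ≫ a) (he : c.π.app k ≫ g₁ = c.π.app k ≫ g₂) :
    ∃ (l : I) (f : l ⟶ k), D.map f ≫ g₁ = D.map f ≫ g₂ := by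
  let x := (yon S).map g₂ ≫ a
  let W := ha.rep.pullback x
  haveI : Etale (ha.rep.snd x).left := ha.property_snd x
  have sq : IsPullback ((yon S).map (ha.rep.fst' x)) ((yon S).map (ha.rep.snd x)) a x := ha.rep.isPullback' x
  let σ₁ : D.obj k ⟶ W := (yon S).preimage (sq.lift ((yon S).map g₁) (𝟙 _) (h.trans (Category.id_comp _).symm))
  let σ₂ : D.obj k ⟶ W := (yon S).preimage (sq.lift ((yon S).map g₂) (𝟙 _) (Category.id_comp _).symm)
  have a₁ : σ₁ ≫ ha.rep.fst' x = g₁ := (yon S).map_injective (by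
    rw [Functor.map_comp, Functor.map_preimage, sq.lift_fst])
  have a₂ : σ₂ ≫ ha.rep.fst' x = g₂ := (yon S).map_injective (by
    rw [Functor.map_comp, Functor.map_preimage, sq.lift_fst])
  have b₁ : σ₁ ≫ ha.rep.snd x = 𝟙 _ := (yon S).map_injective (by
    rw [Functor.map_comp, Functor.map_preimage, sq.lift_snd, CategoryTheory.Functor.map_id])
  have b₂ : σ₂ ≫ ha.rep.snd x = 𝟙 _ := (yon S).map_injective (by
    rw [Functor.map_comp, Functor.map_preimage, sq.lift_snd, CategoryTheory.Functor.map_id])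
  have hlim : c.π.app k ≫ σ₁ = c.π.app k ≫ σ₂ := (yon S).map_injective (sq.hom_ext
    (by rw [← Functor.map_comp, ← Functor.map_comp, Category.assoc, Category.assoc, a₁, a₂, he])
    (by rw [← Functor.map_comp, ← Functor.map_comp, Category.assoc, Category.assoc, b₁, b₂]))
  obtain ⟨l, f, hf⟩ := LimStage.exists_eq_stage (D ⋙ Over.forget S) hA _ hc (ha.rep.snd x).left (𝟙 k)
    σ₁.left σ₂.left
    ((congrArg CommaMorphism.left b₁).trans (congrArg CommaMorphism.left (D.map_id k)).symm)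
    ((congrArg CommaMorphism.left b₂).trans (congrArg CommaMorphism.left (D.map_id k)).symm)
    (congrArg CommaMorphism.left hlim)
  refine ⟨l, f, ?_⟩
  rw [← a₁, ← a₂, ← Category.assoc, ← Category.assoc,
    show D.map f ≫ σ₁ = D.map f ≫ σ₂ from Over.OverMorphism.ext hf]

theorem locP_lfp_of_surjective {X Y : Sp S} (f : X ⟶ Y)
    (h : ∀ ⦃I : Type u⦄ [SmallCategory I] [IsCofiltered I] (D : I ⥤ Over S) (c : Cone D),
      IsLimit ((Over.forget S).mapCone c) → (∀ i, IsAffine (D.obj i).left) → IsAffine c.pt.left →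
      ∀ (x : (yon S).obj c.pt ⟶ X) (i : I) (y : (yon S).obj (D.obj i) ⟶ Y),
        x ≫ f = (yon S).map (c.π.app i) ≫ y →
        ∃ (i' : I) (φ : i' ⟶ i) (x' : (yon S).obj (D.obj i') ⟶ X),
          (yon S).map (c.π.app i') ≫ x' = x ∧ x' ≫ f = (yon S).map (D.map φ) ≫ y) :
    LocP @LocallyOfFinitePresentation f := by
  intro U V a b hm ha hb he
  refine LimitsH94.locallyOfFinitePresentation_of_factor hm.left fun O hO J _ _ _ D t c hc haff j₀ g hg => ?_
  let tV : D ⟶ (Functor.const Jᵒᵖ).obj V.left := t ≫ (Functor.const _).map O.ι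
  let DS : Jᵒᵖ ⥤ Over S :=
    { obj := fun j => Over.mk (tV.app j ≫ V.hom)
      map := fun {j k} φ => Over.homMk (D.map φ) (by
        change D.map φ ≫ tV.app k ≫ V.hom = tV.app j ≫ V.hom
        rw [← Category.assoc, tV.naturality φ]
        simp) }
  have hcomp : ∀ j : Jᵒᵖ, c.π.app j ≫ tV.app j = c.π.app j₀ ≫ tV.app j₀ := fun j => by
    obtain ⟨l, u, v, -⟩ := IsCofilteredOrEmpty.cone_objs j j₀
    rw [← c.w u, ← c.w v, Category.assoc, Category.assoc, tV.naturality u, tV.naturality v]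
    simp
  let cS : Cone DS :=
    { pt := Over.mk (c.π.app j₀ ≫ tV.app j₀ ≫ V.hom)
      π :=
        { app := fun j => Over.homMk (c.π.app j) (by
            change c.π.app j ≫ tV.app j ≫ V.hom = c.π.app j₀ ≫ tV.app j₀ ≫ V.hom
            rw [reassoc_of% (hcomp j)])
          naturality := fun j k φ => Over.OverMorphism.ext (by
            change 𝟙 _ ≫ c.π.app k = c.π.app j ≫ D.map φ
            rw [Category.id_comp, c.w φ]) } }
  have hcS : IsLimit ((Over.forget S).mapCone cS) := hc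
  haveI : IsAffine cS.pt.left := by
    haveI : ∀ j, IsAffine (D.obj j) := haff
    exact Scheme.isAffine_of_isLimit c hc
  have hg' : g ≫ hm.left = c.π.app j₀ ≫ tV.app j₀ := hg
  let g' : cS.pt ⟶ U := Over.homMk g (by
    change g ≫ U.hom = c.π.app j₀ ≫ tV.app j₀ ≫ V.hom
    rw [← Over.w hm, reassoc_of% hg'])
  let tj : ∀ j, DS.obj j ⟶ V := fun j => Over.homMk (tV.app j) rfl
  have htj : ∀ {j k : Jᵒᵖ} (φ : j ⟶ k), DS.map φ ≫ tj k = tj j := fun {j k} φ =>
    Over.OverMorphism.ext ((tV.naturality φ).trans (Category.comp_id _))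
  have hgm : g' ≫ hm = cS.π.app j₀ ≫ tj j₀ := Over.OverMorphism.ext hg'
  obtain ⟨k, φ, x', hx', hx'f⟩ := h DS cS hcS haff inferInstance ((yon S).map g' ≫ a) j₀
    ((yon S).map (tj j₀) ≫ b) (by rw [Category.assoc, he, ← Functor.map_comp_assoc, hgm, Functor.map_comp_assoc])
  obtain ⟨l, ψ, gl, hgl, hgl'⟩ := exists_section_stage DS haff cS hcS ha x' g' hx'.symm
  obtain ⟨m, χ, hχ⟩ := exists_eq_stage DS haff cS hcS hb (gl ≫ hm) (tj l) (by
    rw [Functor.map_comp_assoc, ← he, reassoc_of% hgl', hx'f, ← Functor.map_comp_assoc,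
      ← Functor.map_comp_assoc, ← DS.map_comp, htj]) (by
    rw [reassoc_of% hgl, hgm, ← htj (ψ ≫ φ), ← Category.assoc (cS.π.app l), cS.w])
  refine ⟨m, D.map χ ≫ gl.left, ?_, ?_⟩
  · have := congrArg CommaMorphism.left (hχ.trans (htj χ))
    simpa [tV, tj, DS] using this
  · rw [← Category.assoc, c.w χ]
    exact congrArg CommaMorphism.left hgl

end Groth.Agent.AlgSpOne.LfpOfLimit
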