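import Mathlib.AlgebraicGeometry.AffineTransitionLimit
import Mathlib.CategoryTheory.Filtered.Final
import Mathlib.AlgebraicGeometry.Morphisms.Etale

/-!
# Sections over the stages of an affine limit
-/

set_option autoImplicit false
set_option backward.isDefEq.respectTransparency false
set_option backward.isDefEq.respectTransparency.types false

universe u

open CategoryTheory Limits AlgebraicGeometry

namespace Groth.Agent.AlgSpOne.LimStage

variable {I : Type u} [SmallCategory I] [IsCofiltered I] (D : I ⥤ Scheme.{u}) (hA : ∀ i, IsAffine (D.obj i))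
  (c : Cone D) (hc : IsLimit c) {i : I} {Z : Scheme.{u}} (p : Z ⟶ D.obj i)

include hA hc

theorem exists_lift_stage [LocallyOfFinitePresentation p] (a : c.pt ⟶ Z) (ha : a ≫ p = c.π.app i) :
    ∃ (k : I) (f : k ⟶ i) (g : D.obj k ⟶ Z), g ≫ p = D.map f ∧ c.π.app k ≫ g = a := by
  haveI := IsCofiltered.isConnected (Over i)
  let D' : Over i ⥤ Scheme.{u} := Over.forget i ⋙ D
  haveI : ∀ j, IsAffine (D'.obj j) := fun j => hA _
  haveI : ∀ {j k : Over i} (f : j ⟶ k), IsAffineHom (D'.map f) := fun f => inferInstance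
  let t : D' ⟶ (Functor.const _).obj (D.obj i) :=
    { app := fun j => D.map j.hom
      naturality := fun j k f => by
        change D.map f.left ≫ D.map k.hom = D.map j.hom ≫ 𝟙 _
        rw [Category.comp_id, ← D.map_comp, Over.w f] }
  obtain ⟨j, g, hg, hg'⟩ := Scheme.exists_π_app_comp_eq_of_locallyOfFinitePresentation D' t p
    (c.whisker (Over.forget i)) ((Functor.Initial.isLimitWhiskerEquiv (Over.forget i) c).symm hc) a
    (by ext j; exact (c.w j.hom).trans ha.symm)
  exact ⟨j.left, j.hom, g, hg', hg⟩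

theorem exists_eq_stage [LocallyOfFiniteType p] {k : I} (f : k ⟶ i) (a b : D.obj k ⟶ Z)
    (ha : a ≫ p = D.map f) (hb : b ≫ p = D.map f) (h : c.π.app k ≫ a = c.π.app k ≫ b) :
    ∃ (l : I) (g : l ⟶ k), D.map g ≫ a = D.map g ≫ b := by
  haveI := IsCofiltered.isConnected (Over i)
  let D' : Over i ⥤ Scheme.{u} := Over.forget i ⋙ D
  haveI : ∀ j, IsAffine (D'.obj j) := fun j => hA _
  haveI : ∀ {j k : Over i} (f : j ⟶ k), IsAffineHom (D'.map f) := fun f => inferInstance
  let t : D' ⟶ (Functor.const _).obj (D.obj i) :=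
    { app := fun j => D.map j.hom
      naturality := fun j k f => by
        change D.map f.left ≫ D.map k.hom = D.map j.hom ≫ 𝟙 _
        rw [Category.comp_id, ← D.map_comp, Over.w f] }
  obtain ⟨l, g, hg⟩ := Scheme.exists_hom_comp_eq_comp_of_locallyOfFiniteType D' t p
    (c.whisker (Over.forget i)) ((Functor.Initial.isLimitWhiskerEquiv (Over.forget i) c).symm hc)
    (i := Over.mk f) a b ha.symm hb.symm h
  exact ⟨l.left, g.left, hg⟩

end Groth.Agent.AlgSpOne.LimStage
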