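import Groth.Agent.AlgSpOne.StalkLimit
import Groth.Agent.AlgSpOne.BaseSystem
import Groth.Agent.AlgSpBase.SpaceEquiv
import Groth.Agent.AlgSpDec.OpenGlue

/-!
# Spaces which are schemes over the local rings of the base
-/

set_option autoImplicit false
set_option backward.isDefEq.respectTransparency false
set_option backward.isDefEq.respectTransparency.types false

universe u

open CategoryTheory Limits Opposite AlgebraicGeometry AlgSp Groth.Agent.AlgSpLib Groth.Agent.AlgSpPts
  Groth.Agent.AlgSpDec Groth.Agent.AlgSpBase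

namespace Groth.Agent.AlgSpOne.LocalBase

variable {S S' : Scheme.{u}} (g : S ⟶ S')

theorem repWith_jinv_diag {F : Sp S'} {P : MorphismProperty Scheme.{u}} [P.IsStableUnderBaseChange]
    [P.IsMultiplicative] {G : Sp S'} {f : F ⟶ G} (h : RepWith P (pullback.diagonal f)) :
    RepWith P (pullback.diagonal ((jinv g).map f)) := by
  have sq := jinv_map_isPullback g (IsPullback.of_hasPullback f f)
  have e : pullback.diagonal ((jinv g).map f) = (jinv g).map (pullback.diagonal f) ≫ sq.isoPullback.hom := by
    apply pullback.hom_ext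
    · rw [pullback.diagonal_fst, Category.assoc, sq.isoPullback_hom_fst, ← Functor.map_comp, pullback.diagonal_fst,
        (jinv g).map_id]
    · rw [pullback.diagonal_snd, Category.assoc, sq.isoPullback_hom_snd, ← Functor.map_comp, pullback.diagonal_snd,
        (jinv g).map_id]
  rw [e]
  exact repWith_comp (repWith_jinv g h) (repWith_of_isIso _ _)

theorem isQuasiSeparatedMor_jinv {F G : Sp S'} {f : F ⟶ G} (h : IsQuasiSeparatedMor f) :
    IsQuasiSeparatedMor ((jinv g).map f) :=
  repWith_jinv_diag g h

/-- The restriction of a space quasi-compact over the base is quasi-compact over affine schemes. -/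
theorem isQuasiCompactSp_jinv [Mono g] {F : Sp S'} (hF : IsQuasiCompactSp F) {T : Over S} (r : F ⟶ (yon S').obj ((Over.map g).obj T)) :
    IsQuasiCompactSp ((jinv g).obj F) := by
  obtain ⟨U, a, ha, has, hU⟩ := hF
  haveI : CompactSpace ↥U.left := hU
  let φ := (yon S').preimage (a ≫ r)
  have hφ : U.hom = φ.left ≫ T.hom ≫ g := (Over.w φ).symm
  haveI : IsIso (pullback.fst U.hom g) := by
    refine ⟨pullback.lift (𝟙 _) (φ.left ≫ T.hom) (by simp [hφ]), ?_, ?_⟩
    · apply pullback.hom_ext
      · simp
      · rw [Category.assoc, pullback.lift_snd, Category.id_comp, ← cancel_mono g, Category.assoc, Category.assoc,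
          ← hφ, pullback.condition]
    · simp
  refine ⟨Over.mk (pullback.snd U.hom g), (jinvYonIso g U).hom ≫ (jinv g).map a,
    repWith_comp (repWith_of_isIso _ _) (repWith_jinv g ha), repWith_comp (repWith_of_isIso _ _) (repWith_jinv g has), ?_⟩
  exact (asIso (pullback.fst U.hom g)).hom.homeomorph.symm.compactSpace

theorem isRepresentable_jinv {F : Sp S'} (h : F.obj.IsRepresentable) : ((jinv g).obj F).obj.IsRepresentable := by
  obtain ⟨Z, ⟨r⟩⟩ := h.has_representation
  exact isRepresentable_of_iso ((jinvYonIso g Z) ≪≫ (jinv g).mapIso (AlgSp.isoOfRepresentableBy r))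

/-- A sheaf over a monomorphism is a scheme if its restriction is. -/
theorem isRepresentable_of_jinv [Mono g] {F : Sp S'} (r : F ⟶ (yon S').obj (Over.mk g))
    (h : ((jinv g).obj F).obj.IsRepresentable) : F.obj.IsRepresentable := by
  obtain ⟨Z, ⟨e⟩⟩ := h.has_representation
  haveI : Mono ((yon S').map (Over.mkIdTerminal.from (Over.mk g))) := by
    haveI : Mono ((Over.forget S').map (Over.mkIdTerminal.from (Over.mk g))) := by
      rw [show (Over.forget S').map (Over.mkIdTerminal.from (Over.mk g)) = g from
        (Category.comp_id _).symm.trans (Over.w (Over.mkIdTerminal.from (Over.mk g)))]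
      infer_instance
    haveI : Mono (Over.mkIdTerminal.from (Over.mk g)) := (Over.forget S').mono_of_mono_map ‹_›
    infer_instance
  have hm : ∀ {W : Sp S'} (a b : W ⟶ (yon S').obj (Over.mk g)), a = b := fun a b =>
    (cancel_mono ((yon S').map (Over.mkIdTerminal.from (Over.mk g)))).1 ((isTerminalYon S').hom_ext _ _)
  let p : (yon S').obj (Over.mk g) ⨯ F ≅ F :=
    { hom := Limits.prod.snd
      inv := prod.lift r (𝟙 F)
      hom_inv_id := Limits.prod.hom_ext (hm _ _) (by simp)
      inv_hom_id := prod.lift_snd _ _ }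
  exact isRepresentable_of_iso (jshYonIso g Z ≪≫ (jsh g).mapIso (AlgSp.isoOfRepresentableBy e) ≪≫
    jshJinvIso g F ≪≫ p)

theorem isRepresentable_of_local {X : Sp S} (hX : IsAlgSpace X) (q : X ⟶ (yon S).obj (Over.mk (𝟙 S)))
    (hqc : IsQuasiCompactMor q) (hqs : IsQuasiSeparatedMor q)
    (h : ∀ x : Points X, ∀ (P : Sp S) (fst : P ⟶ X)
      (snd : P ⟶ (yon S).obj (Over.mk (S.fromSpecStalk ((Points.schemeHomeo (Over.mk (𝟙 S))).symm (Points.map q x))))),
      IsPullback fst snd q ((yon S).map (Over.homMk (S.fromSpecStalk _))) → P.obj.IsRepresentable) :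
    X.obj.IsRepresentable := by
  let one : Over S := Over.mk (𝟙 S)
  have key : ∀ x : Points X, ∃ (T : Over S) (j : (yon S).obj T ⟶ X),
      RepWith @IsOpenImmersion j ∧ ∃ v, Points.ofPt j v = x := by
    intro x
    let s : ↥S := (Points.schemeHomeo one).symm (Points.map q x)
    obtain ⟨U, hU, hsU, -⟩ := exists_isAffineOpen_mem_and_subset (U := (⊤ : S.Opens)) (x := s) trivial
    haveI : IsAffine (U : Scheme.{u}) := hU
    obtain ⟨J, _, _, W, cW, hcW, e, he, hWj⟩ := StalkLimit.exists_stalk_system hU s hsU
    let oneU : Over (U : Scheme.{u}) := Over.mk (𝟙 _)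
    let τ : ∀ Z : Over (U : Scheme.{u}), (Over.map U.ι).obj Z ⟶ one := fun Z =>
      Over.homMk (Z.hom ≫ U.ι) (Category.comp_id _)
    let K := (jinv U.ι).obj X
    let b := (jinvYonIso U.ι one).inv
    let qK : K ⟶ (yon (U : Scheme.{u})).obj oneU := (isTerminalYon _).from K
    -- restrictions of base changes
    have hres : ∀ (Z : Over (U : Scheme.{u})),
        Nonempty ((jinv U.ι).obj (pullback q ((yon S).map (τ Z))) ≅
          pullback qK ((yon (U : Scheme.{u})).map (Over.homMk Z.hom : Z ⟶ oneU))) := fun Z => by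
      haveI : IsIso (pullback.fst ((Over.map U.ι).obj Z).hom U.ι) := by
        refine ⟨pullback.lift (𝟙 _) Z.hom (Category.id_comp _), ?_, ?_⟩
        · apply pullback.hom_ext
          · simp
          · rw [Category.assoc, pullback.lift_snd, Category.id_comp, ← cancel_mono U.ι, Category.assoc]
            exact pullback.condition
        · simp
      let i : Z ≅ Over.mk (pullback.snd ((Over.map U.ι).obj Z).hom U.ι) :=
        (Over.isoMk (asIso (pullback.fst ((Over.map U.ι).obj Z).hom U.ι)) (by
          dsimp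
          rw [← cancel_mono U.ι, Category.assoc]
          exact pullback.condition)).symm
      let β : (jinv U.ι).obj ((yon S).obj ((Over.map U.ι).obj Z)) ≅ (yon (U : Scheme.{u})).obj Z :=
        (jinvYonIso U.ι _).symm ≪≫ (yon _).mapIso i.symm
      let γ : (jinv U.ι).obj ((yon S).obj one) ≅ (yon (U : Scheme.{u})).obj oneU :=
        (jinvYonIso U.ι one).symm ≪≫ (yon _).mapIso (Over.isoMk (asIso (pullback.snd (𝟙 S) U.ι)) (by simp [oneU, one]))
      have sq := jinv_map_isPullback U.ι (IsPullback.of_hasPullback q ((yon S).map (τ Z)))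
      exact ⟨(IsPullback.of_iso sq (Iso.refl _) (Iso.refl _) β γ ((Category.comp_id _).trans (Category.id_comp _).symm) (Category.id_comp _).symm ((isTerminalYon _).hom_ext _ _)
        ((isTerminalYon _).hom_ext _ _) : IsPullback _ _ qK _).isoPullback⟩
    have hKqs : IsQuasiSeparatedMor qK := by
      haveI : IsIso ((isTerminalYon (U : Scheme.{u})).from ((jinv U.ι).obj ((yon S).obj one))) := by
        let γ : (jinv U.ι).obj ((yon S).obj one) ≅ (yon (U : Scheme.{u})).obj oneU :=
          (jinvYonIso U.ι one).symm ≪≫ (yon _).mapIso (Over.isoMk (asIso (pullback.snd (𝟙 S) U.ι)) (by simp [oneU, one]))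
        rw [(isTerminalYon _).hom_ext ((isTerminalYon _).from _) γ.hom]
        infer_instance
      rw [show qK = (jinv U.ι).map q ≫ (isTerminalYon _).from _ from (isTerminalYon _).hom_ext _ _]
      haveI := isIso_diagonal_of_mono ((isTerminalYon (U : Scheme.{u})).from ((jinv U.ι).obj ((yon S).obj one)))
      exact isQuasiSeparatedMor_comp (isQuasiSeparatedMor_jinv U.ι hqs) (repWith_of_isIso _ _)
    -- the system
    have hP : (pullback qK ((yon (U : Scheme.{u})).map (Over.homMk cW.pt.hom : cW.pt ⟶ oneU))).obj.IsRepresentable := by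
      obtain ⟨i⟩ := hres cW.pt
      refine BaseSystem.isRepresentable_congr i (isRepresentable_jinv U.ι ?_)
      let α : Over.mk (S.fromSpecStalk s) ≅ (Over.map U.ι).obj cW.pt := Over.isoMk e.symm he
      have hα : α.hom ≫ τ cW.pt = Over.homMk (S.fromSpecStalk s) := Over.OverMorphism.ext he
      refine h x _ (pullback.fst _ _) (pullback.snd _ _ ≫ (yon S).map α.inv) ?_
      refine IsPullback.of_iso (IsPullback.of_hasPullback q ((yon S).map (τ cW.pt))) (Iso.refl _) (Iso.refl _)
        ((yon S).mapIso α.symm) (Iso.refl _) (by simp) (by simp) (by simp) ?_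
      rw [Iso.refl_hom, Category.comp_id, Functor.mapIso_hom, ← Functor.map_comp, ← hα, Iso.symm_hom,
        α.inv_hom_id_assoc]
    obtain ⟨i, hi⟩ := BaseSystem.exists_isRepresentable_baseChange' (isAlgSpace_jinv U.ι hX) qK
      (fun Z hZ => by
        obtain ⟨i⟩ := hres Z
        have h₁ : IsQuasiCompactSp (pullback q ((yon S).map (τ Z))) := isQuasiCompactSp_of_mor (IsAlgSpace.yon_obj _)
          (isQuasiCompactMor_of_isPullback (IsPullback.of_hasPullback q _) hqc)
          ((isQuasiCompactSp_yon_iff _).2 (inferInstanceAs (CompactSpace Z.left)))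
        obtain ⟨V, a, ha, has, hV⟩ := isQuasiCompactSp_jinv U.ι h₁ (pullback.snd _ _)
        exact ⟨V, a ≫ i.hom, repWith_comp ha (repWith_of_isIso _ _), repWith_comp has (repWith_of_isIso _ _), hV⟩)
      hKqs W (fun j => (hWj j).1) cW hcW (IsPullback.of_hasPullback qK _) hP
    obtain ⟨-, hio, z, hz⟩ := hWj i
    have hPi : (pullback q ((yon S).map (τ (W.obj i)))).obj.IsRepresentable := by
      obtain ⟨i'⟩ := hres (W.obj i)
      exact isRepresentable_of_jinv U.ι (pullback.snd _ _ ≫ (yon S).map (Over.homMk (W.obj i).hom))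
        (BaseSystem.isRepresentable_congr i'.symm hi)
    obtain ⟨T, ⟨r⟩⟩ := hPi.has_representation
    let ei := AlgSp.isoOfRepresentableBy r
    have hτ : RepWith @IsOpenImmersion ((yon S).map (τ (W.obj i))) :=
      (repWith_yon_map_iff _ _).2 (inferInstanceAs (IsOpenImmersion ((W.obj i).hom ≫ U.ι)))
    have hzs : Points.map q x = Points.map ((yon S).map (τ (W.obj i))) (Points.schemeHomeo _ z) := by
      rw [Points.map_yon_map_eq, Function.comp_apply, Function.comp_apply, Homeomorph.symm_apply_apply]
      refine ((Points.schemeHomeo one).apply_symm_apply (Points.map q x)).symm.trans (congrArg _ ?_)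
      exact hz.symm
    obtain ⟨w, hw, -⟩ := exists_point_of_isPullback (IsPullback.of_hasPullback q ((yon S).map (τ (W.obj i)))) hzs
    refine ⟨T, ei.hom ≫ pullback.fst _ _, repWith_comp (repWith_of_isIso _ _) (repWith_fst q hτ),
      (Points.schemeHomeo T).symm (Points.map ei.inv w), ?_⟩
    rw [← hw, Points.ofPt_eq_map_ofScheme]
    change Points.map _ (Points.schemeHomeo T ((Points.schemeHomeo T).symm (Points.map ei.inv w))) = _
    rw [Homeomorph.apply_symm_apply, ← Points.map_comp, ei.inv_hom_id_assoc]
  choose T j hj v hv using key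
  obtain ⟨ι, f, hf⟩ : ∃ (ι : Type u) (f : ι → Points X), Function.Surjective f := by
    obtain ⟨U, a, ha, has⟩ := hX.atlas
    exact ⟨U.left, fun u => Points.ofPt a u, surjective_ofPt has⟩
  obtain ⟨Q, ⟨eQ⟩, -⟩ := exists_iso_of_open_cover (fun i => T (f i)) (fun i => j (f i)) (fun i => hj _) (fun x => by
    obtain ⟨i, rfl⟩ := hf x
    exact ⟨i, v _, hv _⟩)
  exact isRepresentable_of_iso eQ

end Groth.Agent.AlgSpOne.LocalBase
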