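import Groth.Agent.AlgSpOne.BaseSystem
import Groth.Agent.LimitsH94.FPCrit
import Mathlib.RingTheory.Ideal.Quotient.Operations

/-!
# A maximal ideal over which a space is not a scheme
-/

set_option autoImplicit false
set_option backward.isDefEq.respectTransparency false
set_option backward.isDefEq.respectTransparency.types false

universe u

open CategoryTheory Limits Opposite AlgebraicGeometry AlgSp Groth.Agent.AlgSpLib Groth.Agent.AlgSpPts
  Groth.Agent.AlgSpDec

namespace Groth.Agent.AlgSpOne.MaxNonScheme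

variable {A : CommRingCat.{u}}

/-- The closed subscheme of an ideal. -/
noncomputable def qOver (I : Ideal A) : Over (Spec A) := Over.mk (Spec.map (CommRingCat.ofHom (Ideal.Quotient.mk I)))

/-- The map to the base. -/
noncomputable def qHom (I : Ideal A) : qOver I ⟶ Over.mk (𝟙 (Spec A)) :=
  Over.homMk (Spec.map (CommRingCat.ofHom (Ideal.Quotient.mk I))) (Category.comp_id _)

theorem exists_quotient_system {J : Type u} [Preorder J] [IsDirectedOrder J] [Nonempty J] (I : J → Ideal A)
    (hI : Monotone I) (K : Ideal A) (hK : K = ⨆ j, I j) :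
    ∃ (W : Jᵒᵖ ⥤ Over (Spec A)) (cW : Cone W) (_ : IsLimit ((Over.forget _).mapCone cW)),
      cW.pt = qOver K ∧ ∀ j, W.obj j = qOver (I j.unop) := by
  haveI : IsConnected J := IsFiltered.isConnected J
  have hle : ∀ j, I j ≤ K := fun j => hK ▸ le_iSup I j
  have hmem : ∀ x ∈ K, ∃ j, x ∈ I j := fun x hx =>
    (Submodule.mem_iSup_of_directed I hI.directed_le).1 (hK ▸ hx)
  let F : J ⥤ CommRingCat.{u} :=
    { obj := fun j => CommRingCat.of (A ⧸ I j)
      map := fun {i j} f => CommRingCat.ofHom (Ideal.Quotient.factor (hI (leOfHom f)))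
      map_id := fun j => by ext; rfl
      map_comp := fun f g => by ext; rfl }
  let co : Cocone F :=
    { pt := CommRingCat.of (A ⧸ K)
      ι := { app := fun j => CommRingCat.ofHom (Ideal.Quotient.factor (hle j))
             naturality := fun i j f => by ext; rfl } }
  have hco : IsColimit co := by
    haveI : ReflectsColimit F (forget CommRingCat.{u}) := reflectsColimit_of_reflectsIsomorphisms _ _
    refine isColimitOfReflects (forget CommRingCat.{u})
      (Types.FilteredColimit.isColimitOf' _ _ (fun z => ?_) fun j x y h => ?_)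
    · obtain ⟨x, rfl⟩ := Ideal.Quotient.mk_surjective (z : A ⧸ K)
      obtain ⟨j⟩ := ‹Nonempty J›
      exact ⟨j, Ideal.Quotient.mk (I j) x, rfl⟩
    · obtain ⟨x, rfl⟩ := Ideal.Quotient.mk_surjective (x : A ⧸ I j)
      obtain ⟨y, rfl⟩ := Ideal.Quotient.mk_surjective (y : A ⧸ I j)
      obtain ⟨i, hi⟩ := hmem (x - y) (Ideal.Quotient.eq.1 h)
      obtain ⟨k, hjk, hik⟩ := directed_of (· ≤ ·) j i
      exact ⟨k, homOfLE hjk, Ideal.Quotient.eq.2 (hI hik hi)⟩
  haveI : PreservesLimitsOfSize.{u, u} Scheme.Spec.{u} := ΓSpec.adjunction.rightAdjoint_preservesLimits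
  let W : Jᵒᵖ ⥤ Over (Spec A) :=
    { obj := fun j => qOver (I j.unop)
      map := fun {i j} f => Over.homMk (Spec.map (CommRingCat.ofHom (Ideal.Quotient.factor (hI (leOfHom f.unop))))) (by
        change Spec.map _ ≫ Spec.map _ = Spec.map _
        rw [← Spec.map_comp]; rfl)
      map_id := fun j => Over.OverMorphism.ext ((congrArg Spec.map (by ext; rfl)).trans (Spec.map_id _))
      map_comp := fun f g => Over.OverMorphism.ext ((congrArg Spec.map (by ext; rfl)).trans (Spec.map_comp _ _)) }
  let cW : Cone W :=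
    { pt := qOver K
      π :=
        { app := fun j => Over.homMk (Spec.map (CommRingCat.ofHom (Ideal.Quotient.factor (hle j.unop)))) (by
            change Spec.map _ ≫ Spec.map _ = Spec.map _
            rw [← Spec.map_comp]; rfl)
          naturality := fun i j f => Over.OverMorphism.ext ((Category.id_comp _).trans
            ((congrArg Spec.map (by ext; rfl)).trans (Spec.map_comp _ _))) } }
  exact ⟨W, cW, isLimitOfPreserves Scheme.Spec hco.op, rfl, fun _ => rfl⟩

/-- The property of being a scheme over the closed subscheme of an ideal. -/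
def SchemeOver {X : Sp (Spec A)} (q : X ⟶ (yon (Spec A)).obj (Over.mk (𝟙 (Spec A)))) (I : Ideal A) : Prop :=
  (pullback q ((yon (Spec A)).map (qHom I))).obj.IsRepresentable

theorem exists_maximal {X : Sp (Spec A)} (hX : IsAlgSpace X)
    (q : X ⟶ (yon (Spec A)).obj (Over.mk (𝟙 (Spec A)))) (hqc : IsQuasiCompactMor q) (hqs : IsQuasiSeparatedMor q)
    (hns : ¬ X.obj.IsRepresentable) :
    ∃ I : Ideal A, ¬ SchemeOver q I ∧ ∀ I', I < I' → SchemeOver q I' := by
  have hbot : ¬ SchemeOver q ⊥ := fun h => hns (by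
    haveI : IsIso (CommRingCat.ofHom (Ideal.Quotient.mk (⊥ : Ideal A))) :=
      (RingEquiv.quotientBot A).symm.toCommRingCatIso.isIso_hom
    haveI : IsIso ((Over.forget _).map (qHom (⊥ : Ideal A))) :=
      inferInstanceAs (IsIso (Spec.map (CommRingCat.ofHom (Ideal.Quotient.mk (⊥ : Ideal A)))))
    haveI : IsIso (qHom (⊥ : Ideal A)) := isIso_of_reflects_iso _ (Over.forget _)
    exact BaseSystem.isRepresentable_congr (asIso (pullback.fst q ((yon (Spec A)).map (qHom ⊥)))) h)
  obtain ⟨M, -, hM⟩ := zorn_le_nonempty₀ {I | ¬ SchemeOver q I} (fun C hC hch I₀ hI₀ => by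
    haveI : Nonempty C := ⟨⟨I₀, hI₀⟩⟩
    haveI : IsDirectedOrder C := ⟨fun x y => (hch.total x.2 y.2).elim
      (fun h => ⟨y, h, le_rfl⟩) fun h => ⟨x, le_rfl, h⟩⟩
    obtain ⟨W, cW, hcW, hpt, hobj⟩ := exists_quotient_system (fun J : C => J.1) (fun _ _ h => h) _ rfl
    refine ⟨⨆ J : C, J.1, fun h => ?_, fun J hJ => le_iSup (fun J : C => J.1) ⟨J, hJ⟩⟩
    have h' : ∀ (Z : Over (Spec A)) (_ : Z = qOver (⨆ J : C, J.1)),
        (pullback q ((yon (Spec A)).map (Over.homMk Z.hom : Z ⟶ Over.mk (𝟙 (Spec A))))).obj.IsRepresentable := by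
      rintro _ rfl; exact h
    obtain ⟨j, hj⟩ := BaseSystem.exists_isRepresentable_baseChange hX q hqc hqs W
      (fun j => by rw [hobj]; exact inferInstanceAs (IsAffine (Spec _))) cW hcW
      (IsPullback.of_hasPullback q _) (h' _ hpt)
    have h'' : ∀ (Z : Over (Spec A)) (J : Ideal A) (_ : Z = qOver J),
        (pullback q ((yon (Spec A)).map (Over.homMk Z.hom : Z ⟶ Over.mk (𝟙 (Spec A))))).obj.IsRepresentable →
          SchemeOver q J := by
      rintro _ J rfl h; exact h
    exact hC j.unop.2 (h'' _ _ (hobj j) hj)) ⊥ hbot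
  exact ⟨M, hM.prop, fun I' hI' => not_not.1 fun h => hI'.not_ge (hM.le_of_ge h hI'.le)⟩

end Groth.Agent.AlgSpOne.MaxNonScheme
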