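import Groth.Agent.AlgSpDec.MonoRep
import Groth.Agent.AlgSpDec.EtField
import Groth.Agent.AlgSpDec.DecentMor
import Groth.Agent.AlgSpPts.Field
import Groth.Agent.AlgSpPts.Misc
import Groth.Agent.AlgSpLib.EtLocalInst
import Groth.Agent.AlgSpOne.Residual

/-!
# Representing points by monomorphisms descends along quasi-compact etale morphisms
-/

set_option backward.isDefEq.respectTransparency false
set_option backward.isDefEq.respectTransparency.types false

universe u

open CategoryTheory Limits Opposite AlgebraicGeometry AlgSp Groth.Agent.AlgSpLib Groth.Agent.AlgSpPts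
  Groth.Agent.AlgSpDec

namespace Groth.Agent.AlgSpOne

variable {S : Scheme.{u}} {X Y : Sp S}

theorem exists_mono_fieldPt_image (hX : IsAlgSpace X) (hY : IsAlgSpace Y) (f : X ⟶ Y)
    (hq : IsQuasiCompactMor f) (he : IsEtaleMor f)
    (hmono : ∀ x : Points X, ∃ p : FieldPt X, Points.mk p = x ∧ Mono p.toHom) (x : Points X) :
    ∃ q : FieldPt Y, Points.mk q = Points.map f x ∧ Mono q.toHom := by
  obtain ⟨V, aX, v, -, haX, hv⟩ := exists_affine_chart_at hX x
  have ha : RepWith @Etale (aX ≫ f) := he aX haX
  let q := FieldPt.ofPt (aX ≫ f) v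
  let jv : q.pt ⟶ V := CategoryTheory.Over.homMk (V.left.fromSpecResidueField v) rfl
  have hqX : ((yon S).map jv ≫ aX) ≫ f = q.toHom := by rw [Category.assoc]; exact (FieldPt.toHom_ofPt _ v).symm
  obtain ⟨R, t, s, sq, hs⟩ := exists_etale_kernelPair ha v
  -- the fibre of `f` over the point is a finite scheme
  let P := pullback f q.toHom
  have hP : IsAlgSpace P := isAlgSpace_pullback hX (IsAlgSpace.yon_obj _) hY f q.toHom
  let e : P ⟶ (yon S).obj q.pt := pullback.snd f q.toHom
  have hee : IsEtaleMor e := (isEtaleMor_iff_locP hP (IsAlgSpace.yon_obj _) e).2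
    (locP_of_isPullback (IsPullback.of_hasPullback f q.toHom) hX hY (IsAlgSpace.yon_obj _)
      ((isEtaleMor_iff_locP hX hY f).1 he))
  obtain ⟨T, ⟨eT⟩⟩ := exists_discrete_decomposition hP e hee
  obtain ⟨cT, hcT⟩ := (yon S).map_surjective (eT.hom ≫ e)
  have : CompactSpace ↥q.pt.left := inferInstanceAs (CompactSpace ↥(Spec (CommRingCat.of q.K)))
  have hcP : CompactSpace (Points P) := (isQuasiCompactSp_iff hP).1
    (hq (IsAlgSpace.yon_obj _) ((isQuasiCompactSp_yon_iff q.pt).2 ‹_›) q.toHom _ _ (IsPullback.of_hasPullback _ _))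
  have : CompactSpace ↥T.left := by
    have hc : Continuous ((Points.schemeHomeo T).symm ∘ Points.map eT.inv) :=
      (Points.schemeHomeo T).symm.continuous.comp (Points.continuous_map _)
    have hs' : Function.Surjective ((Points.schemeHomeo T).symm ∘ Points.map eT.inv) :=
      (Points.schemeHomeo T).symm.surjective.comp fun z => ⟨Points.map eT.hom z, by
        rw [← Points.map_comp, eT.hom_inv_id, Points.map_id]⟩
    exact ⟨by rw [← hs'.range_eq]; exact isCompact_range hc⟩
  have hcTe : Etale cT.left := by
    have h := hee eT.hom (repWith_of_isIso _ _)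
    rw [← hcT] at h
    exact (repWith_yon_map_iff _ _).1 h
  have hsub : Subsingleton ↥q.pt.left := inferInstanceAs (Subsingleton ↥(Spec (CommRingCat.of q.K)))
  have : DiscreteTopology ↥T.left := by
    have h1 := cT.left.isDiscrete_preimage_singleton (IsLocalRing.closedPoint q.K)
    rw [show cT.left ⁻¹' {IsLocalRing.closedPoint q.K} = Set.univ from
      Set.eq_univ_of_forall fun x => Subsingleton.elim (α := ↥q.pt.left) _ _] at h1
    exact isDiscrete_univ_iff.1 h1
  have : Finite ↥T.left := finite_of_compact_of_discrete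
  -- the map from the kernel pair to the fibre
  have htw : ((yon S).map (t ≫ jv) ≫ aX) ≫ f = (yon S).map s ≫ q.toHom := by
    rw [← sq.w, ← hqX, Functor.map_comp]
    simp only [Category.assoc]
  obtain ⟨m, hm⟩ := (yon S).map_surjective (pullback.lift _ _ htw ≫ eT.inv)
  have hm₁ : (yon S).map m ≫ eT.hom ≫ pullback.fst f q.toHom = (yon S).map (t ≫ jv) ≫ aX := by
    rw [hm, Category.assoc, eT.inv_hom_id_assoc, pullback.lift_fst]
  have hm₂ : m ≫ cT = s := (yon S).map_injective (by
    rw [Functor.map_comp, hm, hcT, Category.assoc, eT.inv_hom_id_assoc, pullback.lift_snd])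
  -- each piece of the kernel pair is compact
  have hpiece : ∀ w : ↥T.left, IsCompact (m.left ⁻¹' {w}) := by
    intro w
    let ε : (yon S).obj T ⟶ X := eT.hom ≫ pullback.fst f q.toHom
    by_cases hw : ∃ r, m.left r = w
    swap
    · rw [show m.left ⁻¹' {w} = ∅ from Set.eq_empty_of_forall_notMem fun r hr => hw ⟨r, hr⟩]
      exact isCompact_empty
    obtain ⟨r₀, hr₀⟩ := hw
    obtain ⟨p, hp, hpm⟩ := hmono (Points.ofPt aX v)
    have hpw : Points.ofPt ε w = Points.mk p := by
      rw [← hr₀, ← ofPt_comp, hm₁, ofPt_comp, hp, Over.comp_left, Scheme.Hom.comp_apply]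
      congr 1
      exact Scheme.fromSpecResidueField_apply _ _
    let rw' := FieldPt.ofPt ε w
    let jw : rw'.pt ⟶ T := CategoryTheory.Over.homMk (T.left.fromSpecResidueField w) rfl
    obtain ⟨c, hc, -⟩ := existsUnique_factor p.toHom (representable_from_yon' hX _) rw'.toHom (by
      rw [Points.ofPt_toHom, Points.ofPt_toHom]
      exact hpw.symm)
    obtain ⟨cv, hcv, -⟩ := existsUnique_factor p.toHom (representable_from_yon' hX _) ((yon S).map jv ≫ aX) (by
      rw [Points.ofPt_toHom, ofPt_comp, hp]
      exact congrArg (Points.ofPt aX) (Scheme.fromSpecResidueField_apply _ _).symm)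
    let Q := pullback c cv
    let q₁ : Q ⟶ rw'.pt := pullback.fst c cv
    let q₂ : Q ⟶ q.pt := pullback.snd c cv
    have : IsAffine rw'.pt.left := inferInstanceAs (IsAffine (Spec (CommRingCat.of rw'.K)))
    have : IsAffine q.pt.left := inferInstanceAs (IsAffine (Spec (CommRingCat.of q.K)))
    have : IsAffine p.pt.left := inferInstanceAs (IsAffine (Spec (CommRingCat.of p.K)))
    have : IsAffine (pullback ((Over.forget S).map c) ((Over.forget S).map cv)) :=
      inferInstanceAs (IsAffine (pullback c.left cv.left))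
    have : IsAffine Q.left := .of_isIso ((IsPullback.of_hasPullback c cv).map (Over.forget S)).isoPullback.hom
    have hQw : (yon S).map (q₁ ≫ jw) ≫ ε = (yon S).map q₂ ≫ (yon S).map jv ≫ aX := by
      rw [Functor.map_comp, Category.assoc, ← FieldPt.toHom_ofPt, ← hc, ← hcv, ← Functor.map_comp_assoc,
        ← Functor.map_comp_assoc, pullback.condition]
    obtain ⟨ψ, hψ⟩ := (yon S).map_surjective (sq.lift ((yon S).map q₂) ((yon S).map (q₁ ≫ jw ≫ cT)) (by
      rw [← hqX, ← Category.assoc ((yon S).map q₂), ← hQw]
      simp only [ε, Functor.map_comp, Category.assoc, pullback.condition, hcT, ← hqX]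
      rfl))
    have hψt : ψ ≫ t = q₂ := (yon S).map_injective (by rw [Functor.map_comp, hψ, sq.lift_fst])
    have hψs : ψ ≫ s = q₁ ≫ jw ≫ cT := (yon S).map_injective (by rw [Functor.map_comp, hψ, sq.lift_snd])
    have hψm : ψ ≫ m = q₁ ≫ jw := by
      refine (yon S).map_injective ?_
      rw [← cancel_mono eT.hom]
      apply pullback.hom_ext
      · rw [Category.assoc, Category.assoc, Functor.map_comp, Category.assoc, hm₁, ← Functor.map_comp_assoc,
          ← Category.assoc, hψt, Functor.map_comp, Category.assoc, ← hQw]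
      · rw [Category.assoc, Category.assoc, ← hcT, ← Functor.map_comp, ← Functor.map_comp, Category.assoc,
          hm₂, hψs, Category.assoc]
    rw [show m.left ⁻¹' {w} = Set.range ψ.left from Set.Subset.antisymm ?_ ?_]
    · exact isCompact_range ψ.left.continuous
    · intro r hr
      let rp := R.left.fromSpecResidueField r
      let Rr : Over S := Over.mk (rp ≫ R.hom)
      let jr : Rr ⟶ R := CategoryTheory.Over.homMk rp rfl
      have : IsReduced Rr.left := inferInstanceAs (IsReduced (Spec (R.left.residueField r)))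
      obtain ⟨l, hl⟩ := exists_factor_residueField (rp ≫ m.left) w fun z => by
        rw [Scheme.Hom.comp_apply, show rp z = r from Scheme.fromSpecResidueField_apply _ _]
        exact hr
      let lw : Rr ⟶ rw'.pt := CategoryTheory.Over.homMk l (by
        change l ≫ T.left.fromSpecResidueField w ≫ T.hom = rp ≫ R.hom
        rw [reassoc_of% hl, CategoryTheory.Over.w])
      have hlw : lw ≫ jw = jr ≫ m := Over.OverMorphism.ext hl
      have hagree : lw ≫ c = (jr ≫ t) ≫ cv := (yon S).map_injective ((cancel_mono p.toHom).1 (by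
        rw [Functor.map_comp, Functor.map_comp, Category.assoc, Category.assoc, hc, hcv, FieldPt.toHom_ofPt,
          ← Category.assoc, ← Functor.map_comp, hlw, Functor.map_comp, Category.assoc, hm₁]
        simp only [Functor.map_comp, Category.assoc]))
      let d : Rr ⟶ Q := pullback.lift lw (jr ≫ t) hagree
      have hd : d ≫ ψ = jr := (yon S).map_injective (sq.hom_ext
        (by rw [← Functor.map_comp, ← Functor.map_comp, Category.assoc, hψt, pullback.lift_snd])
        (by rw [← Functor.map_comp, ← Functor.map_comp, Category.assoc, hψs, pullback.lift_fst_assoc,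
          reassoc_of% hlw, hm₂]))
      refine ⟨d.left (IsLocalRing.closedPoint _), ?_⟩
      rw [← Scheme.Hom.comp_apply, ← Over.comp_left, hd]
      exact Scheme.fromSpecResidueField_apply _ _
    · rintro _ ⟨z, rfl⟩
      change m.left (ψ.left z) = w
      rw [← Scheme.Hom.comp_apply, ← Over.comp_left, hψm, Over.comp_left, Scheme.Hom.comp_apply]
      exact Scheme.fromSpecResidueField_apply _ _
  have : CompactSpace ↥R.left := ⟨by
    rw [show (Set.univ : Set ↥R.left) = ⋃ w, m.left ⁻¹' {w} by ext; simp]
    exact isCompact_iUnion hpiece⟩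
  have : IsReduced q.pt.left := inferInstanceAs (IsReduced (Spec (CommRingCat.of q.K)))
  have : DiscreteTopology ↥R.left := by
    have h1 := s.left.isDiscrete_preimage_singleton (IsLocalRing.closedPoint q.K)
    rw [show s.left ⁻¹' {IsLocalRing.closedPoint q.K} = Set.univ from
      Set.eq_univ_of_forall fun x => Subsingleton.elim (α := ↥q.pt.left) _ _] at h1
    exact isDiscrete_univ_iff.1 h1
  have : Finite ↥R.left := finite_of_compact_of_discrete
  have hRa : IsAffine R.left := inferInstance
  let R' : Over S := Over.mk (R.left.isoSpec.inv ≫ R.hom)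
  let eR : R' ≅ R := CategoryTheory.Over.isoMk R.left.isoSpec.symm rfl
  let ι : R' ⟶ R := eR.hom
  have sq' : IsPullback ((yon S).map (ι ≫ t)) ((yon S).map (ι ≫ s)) q.toHom q.toHom :=
    sq.of_iso ((yon S).mapIso eR).symm (Iso.refl _) (Iso.refl _) (Iso.refl _)
      (by simp [ι]) (by simp [ι]) (by simp [q]) (by simp [q])
  have hfin : IsFinite (ι ≫ s).left := by
    rw [Over.comp_left]
    have : IsIso ι.left := inferInstanceAs (IsIso R.left.isoSpec.inv)
    have : IsLocallyArtinian q.pt.left := isLocallyArtinian_field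
    have : LocallyQuasiFinite s.left := AlgSpLib.locallyQuasiFinite_of_formallyUnramified s.left
    have : QuasiCompact s.left := HasAffineProperty.iff_of_isAffine.2 (inferInstanceAs (CompactSpace ↥R.left))
    have : IsFinite s.left := IsFinite.of_locallyQuasiFinite _
    infer_instance
  obtain ⟨p, i, hi, -, hmonop⟩ := exists_mono_of_isPullback q.toHom hY sq' hfin
  refine ⟨p, ?_, hmonop⟩
  rw [← Points.ofPt_toHom p (i.left (IsLocalRing.closedPoint q.K)), ← ofPt_comp, hi, Points.ofPt_toHom, ← hv,
    Points.map_ofPt]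
  rfl

end Groth.Agent.AlgSpOne
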