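import Groth.Agent.AlgSpDec.MonoPoint
import Groth.Agent.AlgSpDec.Fibres
import Groth.Agent.AlgSpDec.Closed

/-!
# A quasi-compact monomorphism from a field meets affine charts in preimmersions
-/

set_option backward.isDefEq.respectTransparency false
set_option backward.isDefEq.respectTransparency.types false

universe u

open CategoryTheory Limits Opposite AlgebraicGeometry AlgSp Groth.Agent.AlgSpLib Groth.Agent.AlgSpPts
  Groth.Agent.AlgSpDec Topology Order

namespace Groth.Agent.AlgSpOne

/-- A monomorphism from a finite discrete reduced scheme with no specialisations among the images is a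
preimmersion. -/
theorem isPreimmersion_of_mono_discrete {V U : Scheme.{u}} (f : V ⟶ U) [Mono f] [IsReduced V]
    [DiscreteTopology ↥V] [Finite ↥V] (hs : ∀ v v' : ↥V, f v ⤳ f v' → v = v') : IsPreimmersion f := by
  refine { toSurjectiveOnStalks := ⟨fun v => ?_⟩, isEmbedding := ⟨⟨?_⟩, f.injective⟩ }
  · have : Mono (V.fromSpecResidueField v ≫ f) := mono_comp _ _
    have : Mono (Spec.map (f.residueFieldMap v) ≫ U.fromSpecResidueField (f v)) := by
      rw [Scheme.Hom.SpecMap_residueFieldMap_fromSpecResidueField]; infer_instance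
    have : Mono (Spec.map (f.residueFieldMap v)) := mono_of_mono _ (U.fromSpecResidueField (f v))
    have : Nonempty ↥(Spec (V.residueField v)) := inferInstanceAs (Nonempty (PrimeSpectrum _))
    have : IsIso (Spec.map (f.residueFieldMap v)) :=
      isIso_of_mono_to_field (K := ↥(U.residueField (f v))) (Spec.map (f.residueFieldMap v))
    have hbij := isIso_SpecMap_iff.1 this
    intro z
    obtain ⟨y, hy⟩ := hbij.2 (V.residue v z)
    obtain ⟨y, rfl⟩ := U.residue_surjective (f v) y
    refine ⟨y, ?_⟩
    have hfield : IsField ↥(V.presheaf.stalk v) := by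
      have : Ring.KrullDimLE 0 ↥(V.presheaf.stalk v) := by
        refine krullDimLE_of_coheight_le (n := 0) (le_of_eq ?_)
        exact (coheight_eq_zero (α := ↥V)).2 fun w hw => le_of_eq (Specializes.eq hw)
      exact Ring.KrullDimLE.isField_of_isReduced
    let _ := hfield.toField
    have h2 : V.residue v (f.stalkMap v y) = V.residue v z := by
      rw [← hy]
      exact (congrArg (fun m => m.hom y) (Scheme.residue_residueFieldMap f v)).symm
    exact (V.residue v).hom.injective h2
  · refine le_antisymm f.continuous.le_induced fun s _ => ?_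
    have hO : ∀ v : ↥V, ∃ O : Set ↥U, IsOpen O ∧ f v ∈ O ∧ O ∩ Set.range f ⊆ {f v} := fun v =>
      isOpen_singleton_fibre (Set.finite_range f) ⟨v, rfl⟩ fun _ ⟨w, hw⟩ hwv => by
        subst hw
        rw [hs w v hwv]
    choose O hOo hOm hOs using hO
    refine isOpen_induced_iff.2 ⟨⋃ v ∈ s, O v, isOpen_biUnion fun v _ => hOo v, Set.ext fun w => ?_⟩
    simp only [Set.mem_preimage, Set.mem_iUnion₂]
    exact ⟨fun ⟨v, hv, hw⟩ => (f.injective (hOs v ⟨hw, w, rfl⟩) : w = v) ▸ hv,
      fun hw => ⟨w, hw, hOm w⟩⟩

variable {S : Scheme.{u}} {X : Sp S}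

/-- The base change of a quasi-compact monomorphism from a field to an affine chart is a preimmersion. -/
theorem isPreimmersion_snd_chart {p : FieldPt X} [Mono p.toHom]
    (hq : RepWith @QuasiCompact p.toHom) {V : Over S} [IsAffine V.left] {b : (yon S).obj V ⟶ X}
    (hb : RepWith @Etale b) : IsPreimmersion (hq.rep.snd b).left := by
  let P := hq.rep.pullback b
  let v₁ : P ⟶ p.pt := hq.rep.fst' b
  let v₂ : P ⟶ V := hq.rep.snd b
  have sq : IsPullback ((yon S).map v₁) ((yon S).map v₂) p.toHom b := hq.rep.isPullback' b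
  have : Etale v₁.left := hb.property _ _ _ sq.flip
  have : IsReduced p.pt.left := inferInstanceAs (IsReduced (Spec (CommRingCat.of p.K)))
  have : IsReduced P.left := isReduced_of_etaleMor v₁.left
  have : Mono v₂ := (yon S).mono_of_mono_map (PullbackCone.mono_snd_of_is_pullback_of_mono sq.isLimit)
  have hm : Mono v₂.left := inferInstanceAs (Mono ((Over.forget S).map v₂))
  have hpt : ∀ z : ↥P.left, Points.ofPt b (v₂.left z) = Points.mk p := fun z => by
    rw [← ofPt_comp, ← sq.w, ofPt_comp, Points.ofPt_toHom]
  have hfinx : ∀ (V' : Over S) (b' : (yon S).obj V' ⟶ X), IsAffine V'.left → RepWith @Etale b' →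
      (Points.ofPt b' ⁻¹' {Points.mk p}).Finite := fun V' b' _ hb' => finite_fibre_of_repWith hb' p hq
  have : Finite ↥P.left := Set.finite_univ_iff.1 (Set.Finite.of_finite_image
    ((hfinx V b inferInstance hb).subset (by rintro _ ⟨z, -, rfl⟩; exact hpt z)) v₂.left.injective.injOn)
  have : DiscreteTopology ↥P.left := by
    have h1 := v₁.left.isDiscrete_preimage_singleton (IsLocalRing.closedPoint p.K)
    rw [show v₁.left ⁻¹' {IsLocalRing.closedPoint p.K} = Set.univ from
      Set.eq_univ_of_forall fun x => Subsingleton.elim (α := ↥p.pt.left) _ _] at h1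
    exact isDiscrete_univ_iff.1 h1
  exact isPreimmersion_of_mono_discrete v₂.left fun z z' h =>
    v₂.left.injective (eq_of_specializes _ hfinx hb (hpt z') (hpt z) h).symm

end Groth.Agent.AlgSpOne
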