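import Mathlib.RingTheory.Smooth.IntegralClosure
import Mathlib.RingTheory.Flat.Basic
import Mathlib.RingTheory.Smooth.Flat

/-!
# The integral closure inside an equalizer commutes with smooth base change
-/

set_option autoImplicit false

universe u

open TensorProduct

namespace Groth.Agent.AlgSpOne

variable {A B C A₁ : Type u} [CommRing A] [CommRing B] [CommRing C] [CommRing A₁] [Algebra A B] [Algebra A C]
  [Algebra A A₁] (p q : B →ₐ[A] C)

/-- The elements of `B` integral over `A` and equalized by `p` and `q`. -/
def normEq : Subalgebra A B := integralClosure A B ⊓ AlgHom.equalizer p q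

theorem mem_normEq {b : B} : b ∈ normEq p q ↔ IsIntegral A b ∧ p b = q b := Iff.rfl

instance : Algebra.IsIntegral A (normEq p q) :=
  ⟨fun x => (isIntegral_algHom_iff (normEq p q).val Subtype.val_injective).1 ((mem_normEq p q).1 x.2).1⟩

/-- Integral and equalized elements after a smooth base change come from those before. -/
theorem mem_range_of_smooth [Algebra.Smooth A A₁] {x : A₁ ⊗[A] B} (hx : IsIntegral A₁ x)
    (he : Algebra.TensorProduct.map (AlgHom.id A A₁) p x = Algebra.TensorProduct.map (AlgHom.id A A₁) q x) :
    x ∈ Set.range (Algebra.TensorProduct.map (AlgHom.id A A₁) (normEq p q).val) := by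
  let i : integralClosure A B →ₗ[A] B := (integralClosure A B).val.toLinearMap
  let L : integralClosure A B →ₗ[A] C := (p.toLinearMap - q.toLinearMap) ∘ₗ i
  let j : normEq p q →ₗ[A] integralClosure A B :=
    (Subalgebra.inclusion (inf_le_left : normEq p q ≤ integralClosure A B)).toLinearMap
  have hex : Function.Exact j L := by
    intro b
    constructor
    · intro hb
      exact ⟨⟨b.1, b.2, sub_eq_zero.1 hb⟩, rfl⟩
    · rintro ⟨b', rfl⟩
      exact sub_eq_zero.2 b'.2.2
  have hex' := Module.Flat.lTensor_exact A₁ hex
  obtain ⟨z, hz⟩ := (TensorProduct.toIntegralClosure_bijective_of_smooth (R := A) (S := A₁) (B := B)).2 ⟨x, hx⟩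
  have hzx : i.lTensor A₁ z = x := congrArg Subtype.val hz
  have hLz : L.lTensor A₁ z = 0 := by
    rw [LinearMap.lTensor_comp_apply, hzx, LinearMap.lTensor_sub, LinearMap.sub_apply, sub_eq_zero]
    exact he
  obtain ⟨w, hw⟩ := (hex' z).1 hLz
  refine ⟨w, ?_⟩
  rw [← hzx, ← hw, ← LinearMap.lTensor_comp_apply]
  rfl

/-- The base change of the equalized integral closure injects. -/
theorem injective_map_normEq [Module.Flat A A₁] :
    Function.Injective (Algebra.TensorProduct.map (AlgHom.id A A₁) (normEq p q).val) :=
  Module.Flat.lTensor_preserves_injective_linearMap (M := A₁) (normEq p q).val.toLinearMap Subtype.val_injective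

end Groth.Agent.AlgSpOne
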