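import Groth.Agent.AlgSpOne.NormDefs
import Groth.Agent.AlgSpOne.NormRing
import Groth.Agent.AlgSpDec.QuasiAffineDescent
import Groth.Agent.AlgSpLib.CartierRegular
import Groth.Agent.AlgSpVal.UnivClosedPoly
import Groth.Agent.AlgSpDec.Glue
import Mathlib.AlgebraicGeometry.Morphisms.Smooth
import Mathlib.AlgebraicGeometry.Morphisms.Affine

/-!
# Relative normalization of an affine scheme in a space over it
-/

set_option autoImplicit false
set_option backward.isDefEq.respectTransparency false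
set_option backward.isDefEq.respectTransparency.types false

universe u

open CategoryTheory CategoryTheory.Limits AlgebraicGeometry AlgSp Groth.Agent.AlgSpLib
open scoped TensorProduct

namespace Groth.Agent.AlgSpOne

variable {S : Scheme.{u}}

/-- The morphism of affine schemes with prescribed functions, over `T`. -/
theorem exists_overHom {T Q Z : Over S} [IsAffine T.left] [IsAffine Z.left] (π : Z ⟶ T) (q : Q ⟶ T)
    (φ : Γ(Z.left, ⊤) ⟶ Γ(Q.left, ⊤)) (hφ : π.left.appTop ≫ φ = q.left.appTop) :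
    ∃ h : Q ⟶ Z, h.left.appTop = φ ∧ h ≫ π = q := by
  obtain ⟨h, hh⟩ := exists_hom_appTop (X := Q.left) φ
  have hw : h ≫ π.left = q.left := ext_of_isAffine (by rw [Scheme.Hom.comp_appTop, hh, hφ])
  exact ⟨Over.homMk h (by rw [← Over.w π, ← Category.assoc, hw, Over.w q]), hh, Over.OverMorphism.ext hw⟩

set_option maxHeartbeats 1200000 in
/-- Integral elements equalized after a smooth base change come from the equalized integral closure. -/
theorem exists_hom_of_smooth {T W N P₀ T' Z : Over S} [IsAffine T.left] [IsAffine W.left] [IsAffine N.left]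
    [IsAffine P₀.left] [IsAffine T'.left] {w : W ⟶ T} {n : N ⟶ T} {e : W ⟶ N} (hen : e ≫ n = w)
    {a₁ a₂ : P₀ ⟶ W} (hab : a₁ ≫ w = a₂ ≫ w) (hinj : Function.Injective e.left.appTop.hom)
    (hrange : ∀ x, w.left.appTop.hom.IsIntegralElem x → a₁.left.appTop.hom x = a₂.left.appTop.hom x →
      ∃ y, e.left.appTop.hom y = x)
    (k : T' ⟶ T) (hk : Smooth k.left) (π : Z ⟶ T') (hπ : IsIntegralHom π.left) (γ : pullback w k ⟶ Z)
    (hγπ : γ ≫ π = pullback.snd w k)
    (hγab : (pullback.lift (pullback.fst (a₁ ≫ w) k ≫ a₁) (pullback.snd _ _)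
        (by rw [Category.assoc, pullback.condition]) : pullback (a₁ ≫ w) k ⟶ pullback w k) ≫ γ =
      pullback.lift (pullback.fst (a₁ ≫ w) k ≫ a₂) (pullback.snd _ _)
        (by rw [Category.assoc, ← hab, pullback.condition]) ≫ γ) :
    ∃! h : pullback n k ⟶ Z, (pullback.lift (pullback.fst w k ≫ e) (pullback.snd w k)
        (by rw [Category.assoc, hen, pullback.condition]) : pullback w k ⟶ pullback n k) ≫ h = γ ∧
      h ≫ π = pullback.snd n k := by
  have hπ' := (HasAffineProperty.iff_of_isAffine (P := @IsIntegralHom)).1 hπ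
  have := hπ'.1
  -- tensor products
  let _ : Algebra Γ(T.left, ⊤) Γ(T'.left, ⊤) := k.left.appTop.hom.toAlgebra
  have : Algebra.Smooth Γ(T.left, ⊤) Γ(T'.left, ⊤) :=
    RingHom.smooth_algebraMap.1 ((HasRingHomProperty.iff_of_isAffine (P := @Smooth)).1 hk)
  let _ : Algebra Γ(T.left, ⊤) Γ(N.left, ⊤) := n.left.appTop.hom.toAlgebra
  let _ : Algebra Γ(T.left, ⊤) Γ(W.left, ⊤) := w.left.appTop.hom.toAlgebra
  let _ : Algebra Γ(T.left, ⊤) Γ(P₀.left, ⊤) := (a₁ ≫ w).left.appTop.hom.toAlgebra
  have happ : ∀ {X Y : Over S} {f g : X ⟶ Y}, f = g → ∀ r, f.left.appTop.hom r = g.left.appTop.hom r :=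
    fun h r => h ▸ rfl
  let p : Γ(W.left, ⊤) →ₐ[Γ(T.left, ⊤)] Γ(P₀.left, ⊤) :=
    { a₁.left.appTop.hom with commutes' := fun _ => rfl }
  let q : Γ(W.left, ⊤) →ₐ[Γ(T.left, ⊤)] Γ(P₀.left, ⊤) :=
    { a₂.left.appTop.hom with commutes' := fun r => (happ hab r).symm }
  let a₁' : pullback (a₁ ≫ w) k ⟶ pullback w k := pullback.lift (pullback.fst (a₁ ≫ w) k ≫ a₁)
    (pullback.snd _ _) (by rw [Category.assoc, pullback.condition])
  let a₂' : pullback (a₁ ≫ w) k ⟶ pullback w k := pullback.lift (pullback.fst (a₁ ≫ w) k ≫ a₂)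
    (pullback.snd _ _) (by rw [Category.assoc, ← hab, pullback.condition])
  let W' := pullback w k
  let N' := pullback n k
  let P₀' := pullback (a₁ ≫ w) k
  have sqW : IsPullback (pullback.fst w k).left (pullback.snd w k).left w.left k.left :=
    (IsPullback.of_hasPullback w k).map (Over.forget S)
  have sqN : IsPullback (pullback.fst n k).left (pullback.snd n k).left n.left k.left :=
    (IsPullback.of_hasPullback n k).map (Over.forget S)
  have sqC : IsPullback (pullback.fst (a₁ ≫ w) k).left (pullback.snd (a₁ ≫ w) k).left (a₁ ≫ w).left k.left :=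
    (IsPullback.of_hasPullback (a₁ ≫ w) k).map (Over.forget S)
  have : IsAffine N'.left := IsAffine.of_isPullback sqN
  let e' : W' ⟶ N' := pullback.lift (pullback.fst w k ≫ e) (pullback.snd w k)
    (by rw [Category.assoc, hen, pullback.condition])
  let _ : Algebra Γ(T.left, ⊤) Γ(W'.left, ⊤) := ((pullback.snd w k) ≫ k).left.appTop.hom.toAlgebra
  let _ : Algebra Γ(T.left, ⊤) Γ(N'.left, ⊤) := ((pullback.snd n k) ≫ k).left.appTop.hom.toAlgebra
  let _ : Algebra Γ(T.left, ⊤) Γ(P₀'.left, ⊤) := ((pullback.snd (a₁ ≫ w) k) ≫ k).left.appTop.hom.toAlgebra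
  let pW : Γ(W.left, ⊤) →ₐ[Γ(T.left, ⊤)] Γ(W'.left, ⊤) :=
    { (pullback.fst w k).left.appTop.hom with commutes' := fun r => happ pullback.condition r }
  let rW : Γ(T'.left, ⊤) →ₐ[Γ(T.left, ⊤)] Γ(W'.left, ⊤) :=
    { (pullback.snd w k).left.appTop.hom with commutes' := fun _ => rfl }
  let pN : Γ(N.left, ⊤) →ₐ[Γ(T.left, ⊤)] Γ(N'.left, ⊤) :=
    { (pullback.fst n k).left.appTop.hom with commutes' := fun r => happ pullback.condition r }
  let rN : Γ(T'.left, ⊤) →ₐ[Γ(T.left, ⊤)] Γ(N'.left, ⊤) :=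
    { (pullback.snd n k).left.appTop.hom with commutes' := fun _ => rfl }
  let pC : Γ(P₀.left, ⊤) →ₐ[Γ(T.left, ⊤)] Γ(P₀'.left, ⊤) :=
    { (pullback.fst (a₁ ≫ w) k).left.appTop.hom with commutes' := fun r => happ pullback.condition r }
  let rC : Γ(T'.left, ⊤) →ₐ[Γ(T.left, ⊤)] Γ(P₀'.left, ⊤) :=
    { (pullback.snd (a₁ ≫ w) k).left.appTop.hom with commutes' := fun _ => rfl }
  let κW := Algebra.TensorProduct.lift rW pW (fun _ _ => Commute.all _ _)
  let κN := Algebra.TensorProduct.lift rN pN (fun _ _ => Commute.all _ _)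
  let κC := Algebra.TensorProduct.lift rC pC (fun _ _ => Commute.all _ _)
  have hκW : Function.Bijective κW :=
    AlgSpDec.bijective_lift_of_isPushout rW pW (isPushout_appTop_of_isPullback sqW).flip
  have hκN : Function.Bijective κN :=
    AlgSpDec.bijective_lift_of_isPushout rN pN (isPushout_appTop_of_isPullback sqN).flip
  have hκC : Function.Bijective κC :=
    AlgSpDec.bijective_lift_of_isPushout rC pC (isPushout_appTop_of_isPullback sqC).flip
  let ea : Γ(N.left, ⊤) →ₐ[Γ(T.left, ⊤)] Γ(W.left, ⊤) :=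
    { e.left.appTop.hom with commutes' := fun r => happ hen r }
  have happ₂ : ∀ {X Y Z : Over S} {f : X ⟶ Y} {g : Y ⟶ Z} {h : X ⟶ Z}, f ≫ g = h →
      ∀ r, f.left.appTop.hom (g.left.appTop.hom r) = h.left.appTop.hom r := fun h r => by subst h; rfl
  have hι : ∀ z, e'.left.appTop.hom (κN z) = κW (Algebra.TensorProduct.map (AlgHom.id Γ(T.left, ⊤) Γ(T'.left, ⊤)) ea z) := by
    intro z
    induction z using TensorProduct.induction_on with
    | zero => simp
    | add x y hx hy => simp only [map_add, hx, hy]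
    | tmul a x =>
      simp only [κN, κW, Algebra.TensorProduct.map_tmul, Algebra.TensorProduct.lift_tmul, map_mul]
      exact congrArg₂ (· * ·) (happ₂ (pullback.lift_snd _ _ _) a)
        ((happ₂ (pullback.lift_fst _ _ _) x).trans rfl)
  have hp' : ∀ z, a₁'.left.appTop.hom (κW z) = κC (Algebra.TensorProduct.map (AlgHom.id Γ(T.left, ⊤) Γ(T'.left, ⊤)) p z) := by
    intro z
    induction z using TensorProduct.induction_on with
    | zero => simp
    | add x y hx hy => simp only [map_add, hx, hy]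
    | tmul a x =>
      simp only [κC, κW, Algebra.TensorProduct.map_tmul, Algebra.TensorProduct.lift_tmul, map_mul]
      exact congrArg₂ (· * ·) (happ₂ (pullback.lift_snd _ _ _) a) ((happ₂ (pullback.lift_fst _ _ _) x).trans rfl)
  have hq' : ∀ z, a₂'.left.appTop.hom (κW z) = κC (Algebra.TensorProduct.map (AlgHom.id Γ(T.left, ⊤) Γ(T'.left, ⊤)) q z) := by
    intro z
    induction z using TensorProduct.induction_on with
    | zero => simp
    | add x y hx hy => simp only [map_add, hx, hy]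
    | tmul a x =>
      simp only [κC, κW, Algebra.TensorProduct.map_tmul, Algebra.TensorProduct.lift_tmul, map_mul]
      exact congrArg₂ (· * ·) (happ₂ (pullback.lift_snd _ _ _) a) ((happ₂ (pullback.lift_fst _ _ _) x).trans rfl)
  have hinj' : Function.Injective e'.left.appTop.hom := by
    intro x y hxy
    obtain ⟨x, rfl⟩ := hκN.2 x
    obtain ⟨y, rfl⟩ := hκN.2 y
    rw [hι, hι] at hxy
    exact congrArg κN (Module.Flat.lTensor_preserves_injective_linearMap (M := Γ(T'.left, ⊤))
      ea.toLinearMap hinj (hκW.1 hxy))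
  have hlift : ∀ d : Γ(Z.left, ⊤), ∃ y, e'.left.appTop.hom y = γ.left.appTop.hom d := by
    intro d
    obtain ⟨x, hx⟩ := hκW.2 (γ.left.appTop.hom d)
    have hxi : IsIntegral Γ(T'.left, ⊤) x := by
      obtain ⟨m, hm, hmd⟩ := hπ'.2 d
      refine ⟨m, hm, hκW.1 ?_⟩
      rw [map_zero, show κW (Polynomial.eval₂ _ x m) = κW.toRingHom (Polynomial.eval₂ _ x m) from rfl,
        Polynomial.hom_eval₂]
      have h1 : κW.toRingHom.comp (algebraMap Γ(T'.left, ⊤) (Γ(T'.left, ⊤) ⊗[Γ(T.left, ⊤)] Γ(W.left, ⊤))) =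
          γ.left.appTop.hom.comp π.left.appTop.hom := RingHom.ext fun a => by
        change κW (a ⊗ₜ 1) = γ.left.appTop.hom (π.left.appTop.hom a)
        rw [happ₂ hγπ a, Algebra.TensorProduct.lift_tmul, map_one, mul_one]
        rfl
      rw [h1, show κW.toRingHom x = γ.left.appTop.hom d from hx, ← Polynomial.hom_eval₂, hmd, map_zero]
    obtain ⟨z, hz⟩ := mem_range_of_smooth p q hxi (hκC.1 (by
      rw [← hp', ← hq', hx, happ₂ rfl d, happ₂ rfl d, happ hγab d]))
    have hr : ∀ z : Γ(T'.left, ⊤) ⊗[Γ(T.left, ⊤)] (normEq p q),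
        ∃ y, Algebra.TensorProduct.map (AlgHom.id Γ(T.left, ⊤) Γ(T'.left, ⊤)) ea y =
          Algebra.TensorProduct.map (AlgHom.id Γ(T.left, ⊤) Γ(T'.left, ⊤)) (normEq p q).val z := by
      intro z
      induction z using TensorProduct.induction_on with
      | zero => exact ⟨0, by simp⟩
      | add x y hx hy =>
        obtain ⟨x', hx⟩ := hx
        obtain ⟨y', hy⟩ := hy
        exact ⟨x' + y', by rw [map_add, map_add, hx, hy]⟩
      | tmul a x =>
        obtain ⟨y, hy⟩ := hrange x.1 ((mem_normEq p q).1 x.2).1 ((mem_normEq p q).1 x.2).2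
        exact ⟨a ⊗ₜ y, by simp only [Algebra.TensorProduct.map_tmul]; exact congrArg (a ⊗ₜ ·) hy⟩
    obtain ⟨y, hy⟩ := hr z
    exact ⟨κN y, by rw [hι, hy, hz, hx]⟩
  choose η hη using hlift
  let φ : Γ(Z.left, ⊤) ⟶ Γ(N'.left, ⊤) := CommRingCat.ofHom
    { toFun := η
      map_one' := hinj' (by rw [hη, map_one, map_one])
      map_mul' := fun x y => hinj' (by rw [map_mul, hη, hη, hη, map_mul])
      map_zero' := hinj' (by rw [hη, map_zero, map_zero])
      map_add' := fun x y => hinj' (by rw [map_add, hη, hη, hη, map_add]) }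
  obtain ⟨h, hh, hhπ⟩ := exists_overHom π (pullback.snd n k) φ (CommRingCat.hom_ext (RingHom.ext fun a => hinj' (by
    change e'.left.appTop.hom (η (π.left.appTop.hom a)) = _
    rw [hη, happ₂ hγπ a, happ₂ (pullback.lift_snd _ _ _) a])))
  have hhγ : e' ≫ h = γ := Over.OverMorphism.ext (ext_of_isAffine (by
    rw [Over.comp_left, Scheme.Hom.comp_appTop, hh]
    exact CommRingCat.hom_ext (RingHom.ext hη)))
  refine ⟨h, ⟨hhγ, hhπ⟩, fun h' hh' => Over.OverMorphism.ext (ext_of_isAffine (CommRingCat.hom_ext (RingHom.ext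
    fun d => hinj' ((happ₂ hh'.1 d).trans ((happ₂ hhγ d).symm)))))⟩

/-- Relative normalization of an affine scheme, with the universal property after smooth base change. -/
theorem exists_affineNorm {T : Over S} [IsAffine T.left] {P : Sp S} (hP : IsAlgSpace P)
    (fT : P ⟶ (yon S).obj T) (hqc : IsQuasiCompactMor fT) (hqs : IsQuasiSeparatedMor fT) :
    ∃ (N : Over S) (n : N ⟶ T) (f' : P ⟶ (yon S).obj N), IsAffine N.left ∧ IsIntegralHom n.left ∧
      f' ≫ (yon S).map n = fT ∧
      ∀ ⦃T' : Over S⦄ (k : T' ⟶ T), IsAffine T'.left → Smooth k.left →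
        IsNormGood fT ((yon S).map n) f' ((yon S).map k) := by
  have hPqc : IsQuasiCompactSp P := hqc (IsAlgSpace.yon_obj T) AlgSpVal.isQuasiCompactSp_yon (𝟙 _) (𝟙 _) fT
    (IsPullback.of_horiz_isIso ⟨by simp⟩)
  obtain ⟨W, b, hW, hbe, hbs⟩ := AlgSpLib.CartierRegular.exists_affine_atlas hP hPqc
  obtain ⟨w, hw⟩ := (yon S).map_surjective (b ≫ fT)
  let R : Over S := hbe.rep.pullback b
  let t : R ⟶ W := hbe.rep.fst' b
  let s : R ⟶ W := hbe.rep.snd b
  have sq : IsPullback ((yon S).map t) ((yon S).map s) b b := hbe.rep.isPullback' b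
  have hWW := (IsPullback.of_hasPullback w w).map (yon S)
  have hWWw : IsAffine (pullback w w).left := by
    have h : IsPullback (pullback.fst w w).left (pullback.snd w w).left w.left w.left :=
      (IsPullback.of_hasPullback w w).map (Over.forget S)
    exact IsAffine.of_isPullback h
  rw [hw] at hWW
  let l : R ⟶ pullback w w := (yon S).preimage (hWW.lift ((yon S).map t) ((yon S).map s) (by
    simp only [← Category.assoc, sq.w]))
  have : QuasiCompact l.left := quasiCompact_kernelPair hqs hWW sq l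
    ((yon S).map_injective (by rw [Functor.map_comp, Functor.map_preimage, hWW.lift_fst]))
    ((yon S).map_injective (by rw [Functor.map_comp, Functor.map_preimage, hWW.lift_snd]))
  have : CompactSpace (pullback w w).left := inferInstance
  have : CompactSpace R.left := QuasiCompact.compactSpace_of_compactSpace l.left
  let 𝒰 := R.left.affineCover.finiteSubcover
  have : ∀ i, IsAffine (𝒰.X i) := fun i => inferInstanceAs (IsAffine (R.left.affineCover.X _))
  let U : 𝒰.I₀ → Over S := fun i => Over.mk (𝒰.f i ≫ R.hom)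
  let P₀ : Over S := AlgSpDec.sigmaOver U
  have hP₀ : IsAffine P₀.left := inferInstanceAs (IsAffine (∐ fun i => 𝒰.X i))
  let π₀ : P₀ ⟶ R := Over.homMk (Sigma.desc fun i => 𝒰.f i) (Sigma.hom_ext _ _ fun i => by
    change Sigma.ι 𝒰.X i ≫ Sigma.desc _ ≫ R.hom = Sigma.ι 𝒰.X i ≫ Sigma.desc _
    rw [Sigma.ι_desc_assoc, Sigma.ι_desc]; rfl)
  have hπ₀ : fppf π₀.left := by
    have : Etale π₀.left := by
      refine IsZariskiLocalAtSource.of_openCover (sigmaOpenCover 𝒰.X) fun i => ?_
      change Etale (Sigma.ι 𝒰.X i ≫ Sigma.desc _)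
      rw [Sigma.ι_desc]
      infer_instance
    have : Surjective π₀.left := ⟨fun x => by
      obtain ⟨i, y, hy⟩ := 𝒰.exists_eq x
      refine ⟨Sigma.ι 𝒰.X i y, ?_⟩
      change (Sigma.desc fun i => 𝒰.f i) (Sigma.ι 𝒰.X i y) = x
      rw [← Scheme.Hom.comp_apply, Sigma.ι_desc, hy]⟩
    exact fppf_of_etale π₀.left
  let a₁ : P₀ ⟶ W := π₀ ≫ t
  let a₂ : P₀ ⟶ W := π₀ ≫ s
  have hab : a₁ ≫ w = a₂ ≫ w := (yon S).map_injective (by
    simp only [a₁, a₂, Functor.map_comp, Category.assoc, hw, reassoc_of% sq.w])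
  -- the algebras
  let _ : Algebra Γ(T.left, ⊤) Γ(W.left, ⊤) := w.left.appTop.hom.toAlgebra
  let _ : Algebra Γ(T.left, ⊤) Γ(P₀.left, ⊤) := (a₁ ≫ w).left.appTop.hom.toAlgebra
  let p : Γ(W.left, ⊤) →ₐ[Γ(T.left, ⊤)] Γ(P₀.left, ⊤) :=
    { a₁.left.appTop.hom with commutes' := fun _ => rfl }
  let q : Γ(W.left, ⊤) →ₐ[Γ(T.left, ⊤)] Γ(P₀.left, ⊤) :=
    { a₂.left.appTop.hom with
      commutes' := fun r => (congrArg (fun m : P₀ ⟶ T => m.left.appTop.hom r) hab).symm }
  let A' : CommRingCat.{u} := CommRingCat.of (normEq p q)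
  let c : Γ(T.left, ⊤) ⟶ A' := CommRingCat.ofHom (algebraMap _ (normEq p q))
  let v : A' ⟶ Γ(W.left, ⊤) := CommRingCat.ofHom (normEq p q).val.toRingHom
  let N : Over S := Over.mk ((Spec.map c ≫ T.left.isoSpec.inv) ≫ T.hom)
  let n : N ⟶ T := Over.homMk (Spec.map c ≫ T.left.isoSpec.inv) rfl
  have hN : IsAffine N.left := inferInstanceAs (IsAffine (Spec A'))
  have hn : IsIntegralHom n.left := by
    have : IsIntegralHom (Spec.map c) := IsIntegralHom.SpecMap_iff.2 (algebraMap_isIntegral_iff.2 inferInstance)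
    change IsIntegralHom (Spec.map c ≫ T.left.isoSpec.inv)
    infer_instance
  let θ : A' ⟶ Γ(N.left, ⊤) := (Scheme.ΓSpecIso A').inv
  have hθ : Function.Bijective θ.hom := ConcreteCategory.bijective_of_isIso θ
  have hnθ : n.left.appTop = c ≫ θ := by
    change (Spec.map c ≫ T.left.isoSpec.inv).appTop = c ≫ (Scheme.ΓSpecIso A').inv
    rw [Scheme.Hom.comp_appTop, Scheme.ΓSpecIso_inv_naturality]
    congr 1
    rw [← cancel_mono T.left.isoSpec.hom.appTop, ← Scheme.Hom.comp_appTop, Iso.hom_inv_id]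
    simp [Scheme.isoSpec]
  obtain ⟨e, he, hen⟩ := exists_overHom n w ((Scheme.ΓSpecIso A').hom ≫ v) (by
    rw [hnθ, Category.assoc]
    exact congrArg (c ≫ ·) ((Scheme.ΓSpecIso A').inv_hom_id_assoc v))
  have heθ : θ ≫ e.left.appTop = v := by rw [he]; exact (Scheme.ΓSpecIso A').inv_hom_id_assoc v
  have hea : a₁ ≫ e = a₂ ≫ e := Over.OverMorphism.ext (ext_of_isAffine (by
    simp only [a₁, a₂, Over.comp_left, Scheme.Hom.comp_appTop]
    rw [← cancel_epi θ]
    simp only [← Category.assoc, heθ]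
    exact CommRingCat.hom_ext (RingHom.ext fun x => by
      have hx : a₁.left.appTop.hom x.1 = a₂.left.appTop.hom x.1 := ((mem_normEq p q).1 x.2).2
      simp only [a₁, a₂, Over.comp_left, Scheme.Hom.comp_appTop] at hx
      exact hx)))
  obtain ⟨f', hf'⟩ := exists_desc_atlas hbe hbs sq ((yon S).map e) (hom_ext_of_fppf π₀ hπ₀ _ _ (by
    rw [← Category.assoc, ← Category.assoc, ← Functor.map_comp, ← Functor.map_comp, ← Functor.map_comp,
      ← Functor.map_comp]
    exact congrArg _ hea))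
  have : Epi b := epi_of_etale_surjective hbe hbs
  have hfn : f' ≫ (yon S).map n = fT := by
    rw [← cancel_epi b, reassoc_of% hf', ← Functor.map_comp, hen, hw]
  have hea' : Function.Injective e.left.appTop.hom := by
    intro x y hxy
    obtain ⟨x, rfl⟩ := hθ.2 x
    obtain ⟨y, rfl⟩ := hθ.2 y
    have : v.hom x = v.hom y := by rw [← heθ]; exact hxy
    exact congrArg θ.hom (Subtype.val_injective this)
  have hrange : ∀ x, w.left.appTop.hom.IsIntegralElem x → a₁.left.appTop.hom x = a₂.left.appTop.hom x →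
      ∃ y, e.left.appTop.hom y = x := fun x hx hx' =>
    ⟨θ.hom ⟨x, (mem_normEq p q).2 ⟨hx, hx'⟩⟩, (congrArg (fun m => m.hom ⟨x, (mem_normEq p q).2 ⟨hx, hx'⟩⟩) heθ :)⟩
  refine ⟨N, n, f', hN, hn, hfn, fun T' k hT' hk => ?_⟩
  let W' := pullback w k
  let N' := pullback n k
  let P₀' := pullback (a₁ ≫ w) k
  have sqW : IsPullback (pullback.fst w k).left (pullback.snd w k).left w.left k.left :=
    (IsPullback.of_hasPullback w k).map (Over.forget S)
  have sqN : IsPullback (pullback.fst n k).left (pullback.snd n k).left n.left k.left :=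
    (IsPullback.of_hasPullback n k).map (Over.forget S)
  have sqC : IsPullback (pullback.fst (a₁ ≫ w) k).left (pullback.snd (a₁ ≫ w) k).left (a₁ ≫ w).left k.left :=
    (IsPullback.of_hasPullback (a₁ ≫ w) k).map (Over.forget S)
  have : IsAffine N'.left := IsAffine.of_isPullback sqN
  have sqNk : IsPullback ((yon S).map (pullback.fst n k)) ((yon S).map (pullback.snd n k)) ((yon S).map n)
      ((yon S).map k) := (IsPullback.of_hasPullback n k).map (yon S)
  let f₀' : pullback fT ((yon S).map k) ⟶ (yon S).obj N' :=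
    sqNk.lift (pullback.fst _ _ ≫ f') (pullback.snd _ _) (by rw [Category.assoc, hfn, pullback.condition])
  refine isNormGood_of_squares (f₀' := f₀') (IsPullback.of_hasPullback fT ((yon S).map k)) sqNk (sqNk.lift_snd _ _ _)
    (sqNk.lift_fst _ _ _) fun Z π hπ g hg => ?_
  have hwk : (yon S).map (pullback.fst w k) ≫ b ≫ fT = (yon S).map (pullback.snd w k) ≫ (yon S).map k := by
    rw [← hw, ← Functor.map_comp, ← Functor.map_comp, pullback.condition]
  let b₁ : (yon S).obj W' ⟶ pullback fT ((yon S).map k) :=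
    pullback.lift ((yon S).map (pullback.fst w k) ≫ b) ((yon S).map (pullback.snd w k))
      (by rw [Category.assoc]; exact hwk)
  have hb₁ : IsPullback b₁ ((yon S).map (pullback.fst w k)) (pullback.fst fT ((yon S).map k)) b := by
    refine IsPullback.of_right ?_ (pullback.lift_fst _ _ _) (IsPullback.of_hasPullback fT ((yon S).map k)).flip
    rw [pullback.lift_snd, ← hw]
    exact ((IsPullback.of_hasPullback w k).map (yon S)).flip
  have hb₁e : RepWith @Etale b₁ := repWith_of_isPullback hb₁.flip hbe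
  have hb₁s : RepWith @Surjective b₁ := repWith_of_isPullback hb₁.flip hbs
  have : Epi b₁ := epi_of_etale_surjective hb₁e hb₁s
  let e' : W' ⟶ N' := pullback.lift (pullback.fst w k ≫ e) (pullback.snd w k)
    (by rw [Category.assoc, hen, pullback.condition])
  have hb₁f : b₁ ≫ f₀' = (yon S).map e' := sqNk.hom_ext
    (by simp only [Category.assoc, f₀', IsPullback.lift_fst, b₁, pullback.lift_fst_assoc, hf', ← Functor.map_comp,
      e', pullback.lift_fst])
    (by simp only [Category.assoc, f₀', IsPullback.lift_snd, b₁, pullback.lift_snd, ← Functor.map_comp,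
      e'])
  let a₁' : P₀' ⟶ W' := pullback.lift (pullback.fst _ k ≫ a₁) (pullback.snd _ k)
    (by rw [Category.assoc, pullback.condition])
  let a₂' : P₀' ⟶ W' := pullback.lift (pullback.fst _ k ≫ a₂) (pullback.snd _ k)
    (by rw [Category.assoc, ← hab, pullback.condition])
  have hab₁ : (yon S).map a₁' ≫ b₁ = (yon S).map a₂' ≫ b₁ := pullback.hom_ext
    (by simp only [b₁, Category.assoc, pullback.lift_fst, ← Functor.map_comp_assoc, a₁', a₂']
        simp only [a₁, a₂, Functor.map_comp, Category.assoc, sq.w])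
    (by simp only [b₁, Category.assoc, pullback.lift_snd, ← Functor.map_comp, a₁', a₂'])
  obtain ⟨γ, hγ⟩ := (yon S).map_surjective (b₁ ≫ g)
  have hγab : a₁' ≫ γ = a₂' ≫ γ := (yon S).map_injective (by
    rw [Functor.map_comp, Functor.map_comp, hγ, reassoc_of% hab₁])
  have hγπ : γ ≫ π = pullback.snd w k := (yon S).map_injective (by
    rw [Functor.map_comp, hγ, Category.assoc, hg, pullback.lift_snd])
  obtain ⟨h, ⟨hhγ, hhπ⟩, huniq⟩ := exists_hom_of_smooth hen hab hea' hrange k hk π hπ γ hγπ hγab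
  refine ⟨(yon S).map h, ⟨?_, ?_⟩, fun h' hh' => ?_⟩
  · rw [← cancel_epi b₁, reassoc_of% hb₁f, ← Functor.map_comp, hhγ, hγ]
  · rw [← Functor.map_comp, hhπ]
  · obtain ⟨h', rfl⟩ := (yon S).map_surjective h'
    congr 1
    exact huniq h' ⟨(yon S).map_injective (by rw [Functor.map_comp, ← hb₁f, Category.assoc, hh'.1, hγ]),
      (yon S).map_injective (by rw [Functor.map_comp, hh'.2])⟩

end Groth.Agent.AlgSpOne
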