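import Groth.Agent.AlgSpOne.NormAffine
import Groth.Agent.AlgSpPts.Sep

/-!
# Normalizations on affine etale charts and their comparison maps
-/

set_option autoImplicit false
set_option backward.isDefEq.respectTransparency false
set_option backward.isDefEq.respectTransparency.types false

universe u

open CategoryTheory CategoryTheory.Limits AlgebraicGeometry AlgSp Groth.Agent.AlgSpLib

namespace Groth.Agent.AlgSpOne

variable {S : Scheme.{u}} {X : Sp S}

/-- An affine scheme etale over a space. -/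
structure NChart (X : Sp S) : Type (u + 1) where
  /-- the scheme -/
  T : Over S
  aff : IsAffine T.left
  /-- the map -/
  q : (yon S).obj T ⟶ X
  et : RepWith @Etale q

/-- Maps of charts. -/
structure NChart.Hom (c d : NChart X) : Type (u + 1) where
  /-- the map of schemes -/
  k : c.T ⟶ d.T
  w : (yon S).map k ≫ d.q = c.q

/-- The identity of a chart. -/
noncomputable def NChart.Hom.id (c : NChart X) : c.Hom c :=
  ⟨𝟙 _, by rw [CategoryTheory.Functor.map_id, Category.id_comp]⟩

/-- The composite of maps of charts. -/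
noncomputable def NChart.Hom.comp {c d e : NChart X} (φ : c.Hom d) (ψ : d.Hom e) : c.Hom e :=
  ⟨φ.k ≫ ψ.k, by rw [Functor.map_comp, Category.assoc, ψ.w, φ.w]⟩

theorem NChart.Hom.etale {c d : NChart X} (φ : c.Hom d) : Etale φ.k.left := by
  refine (repWith_yon_map_iff _ φ.k).1 (repWith_etale_of_comp _ d.q ?_ d.et)
  rw [φ.w]
  exact c.et

/-- The chart obtained by an etale map of an affine scheme to a chart. -/
noncomputable def NChart.restrict (c : NChart X) {T : Over S} (k : T ⟶ c.T) (hT : IsAffine T.left)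
    (hk : Etale k.left) : NChart X :=
  ⟨T, hT, (yon S).map k ≫ c.q, repWith_comp ((repWith_yon_map_iff _ k).2 hk) c.et⟩

/-- The map from the restricted chart. -/
noncomputable def NChart.restrictHom (c : NChart X) {T : Over S} (k : T ⟶ c.T) (hT : IsAffine T.left)
    (hk : Etale k.left) : (c.restrict k hT hk).Hom c :=
  ⟨k, rfl⟩

variable {Y : Sp S} (f : Y ⟶ X)

/-- The hypotheses of the construction. -/
structure NormHyp : Prop where
  source : IsAlgSpace Y
  target : IsAlgSpace X
  qc : IsQuasiCompactMor f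
  qs : IsQuasiSeparatedMor f

variable {f} (H : NormHyp f) (c : NChart X)
include H

theorem NormHyp.exists_norm :
    ∃ (N : Over S) (n : N ⟶ c.T) (f' : pullback f c.q ⟶ (yon S).obj N), IsAffine N.left ∧ IsIntegralHom n.left ∧
      f' ≫ (yon S).map n = pullback.snd f c.q ∧
      ∀ ⦃T' : Over S⦄ (k : T' ⟶ c.T), IsAffine T'.left → Smooth k.left →
        IsNormGood (pullback.snd f c.q) ((yon S).map n) f' ((yon S).map k) :=
  have := c.aff
  exists_affineNorm (isAlgSpace_pullback H.source (IsAlgSpace.yon_obj _) H.target f c.q) _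
    (AlgSpPts.isQuasiCompactMor_of_isPullback (IsPullback.of_hasPullback f c.q) H.qc)
    (AlgSpPts.isQuasiSeparatedMor_of_isPullback (IsPullback.of_hasPullback f c.q) H.qs)

/-- The normalization over a chart. -/
noncomputable def NormHyp.N : Over S := (H.exists_norm c).choose

/-- Its structure map. -/
noncomputable def NormHyp.n : H.N c ⟶ c.T := (H.exists_norm c).choose_spec.choose

/-- Its map from the source. -/
noncomputable def NormHyp.f' : pullback f c.q ⟶ (yon S).obj (H.N c) := (H.exists_norm c).choose_spec.choose_spec.choose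

theorem NormHyp.affine_N : IsAffine (H.N c).left := (H.exists_norm c).choose_spec.choose_spec.choose_spec.1

theorem NormHyp.integral_n : IsIntegralHom (H.n c).left := (H.exists_norm c).choose_spec.choose_spec.choose_spec.2.1

@[reassoc]
theorem NormHyp.f'_n : H.f' c ≫ (yon S).map (H.n c) = pullback.snd f c.q :=
  (H.exists_norm c).choose_spec.choose_spec.choose_spec.2.2.1

theorem NormHyp.good {T' : Over S} (k : T' ⟶ c.T) (hT' : IsAffine T'.left) (hk : Smooth k.left) :
    IsNormGood (pullback.snd f c.q) ((yon S).map (H.n c)) (H.f' c) ((yon S).map k) :=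
  (H.exists_norm c).choose_spec.choose_spec.choose_spec.2.2.2 k hT' hk

theorem NormHyp.up_self : IsNormUP (pullback.snd f c.q) ((yon S).map (H.n c)) (H.f' c) := by
  refine H.good c (𝟙 _) c.aff (inferInstanceAs (Smooth (𝟙 c.T.left))) (𝟙 _) _ (𝟙 _) _ (H.f' c) ?_ ?_
    (H.f'_n c) (by simp)
  · exact IsPullback.of_horiz_isIso ⟨by simp⟩
  · exact IsPullback.of_horiz_isIso ⟨by simp⟩

variable {c} {d : NChart X} (φ : c.Hom d)

theorem NormHyp.exists_cmp : ∃ χ : H.N c ⟶ H.N d, IsPullback χ (H.n c) (H.n d) φ.k ∧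
    H.f' c ≫ (yon S).map χ =
      pullback.lift (pullback.fst f c.q) (pullback.snd f c.q ≫ (yon S).map φ.k)
        (by rw [Category.assoc, φ.w, pullback.condition]) ≫ H.f' d ∧
    ∀ χ' : H.N c ⟶ H.N d, χ' ≫ H.n d = H.n c ≫ φ.k → H.f' c ≫ (yon S).map χ' =
      pullback.lift (pullback.fst f c.q) (pullback.snd f c.q ≫ (yon S).map φ.k)
        (by rw [Category.assoc, φ.w, pullback.condition]) ≫ H.f' d → χ' = χ := by
  have hc := c.aff
  have := φ.etale
  have := H.integral_n d
  let a : pullback f c.q ⟶ pullback f d.q := pullback.lift (pullback.fst f c.q)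
    (pullback.snd f c.q ≫ (yon S).map φ.k) (by rw [Category.assoc, φ.w, pullback.condition])
  let M := pullback (H.n d) φ.k
  have sqM := IsPullback.of_hasPullback (H.n d) φ.k
  have hM : IsIntegralHom (pullback.snd (H.n d) φ.k).left :=
    MorphismProperty.of_isPullback (P := @IsIntegralHom) (sqM.map (Over.forget S)) this
  have sqM' := sqM.map (yon S)
  let g : pullback f c.q ⟶ (yon S).obj M := sqM'.lift (a ≫ H.f' d) (pullback.snd f c.q)
    (by rw [Category.assoc, H.f'_n, pullback.lift_snd])
  have hg : g ≫ (yon S).map (pullback.snd (H.n d) φ.k) = pullback.snd f c.q := sqM'.lift_snd _ _ _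
  have hgf : g ≫ (yon S).map (pullback.fst (H.n d) φ.k) = a ≫ H.f' d := sqM'.lift_fst _ _ _
  have hMup : IsNormUP (pullback.snd f c.q) ((yon S).map (pullback.snd (H.n d) φ.k)) g :=
    H.good d φ.k hc inferInstance a _ _ _ g
      (IsPullback.of_right (by rw [pullback.lift_fst, φ.w]; exact IsPullback.of_hasPullback f c.q)
        (pullback.lift_snd _ _ _) (IsPullback.of_hasPullback f d.q)) sqM' hg hgf
  obtain ⟨h, ⟨h1, h2⟩, hu⟩ := H.up_self c (pullback.snd (H.n d) φ.k) hM g hg
  obtain ⟨h', ⟨h1', h2'⟩, -⟩ := hMup (H.n c) (H.integral_n c) (H.f' c) (H.f'_n c)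
  obtain ⟨i₁, -, hu₁⟩ := hMup (pullback.snd (H.n d) φ.k) hM g hg
  obtain ⟨i₂, -, hu₂⟩ := H.up_self c (H.n c) (H.integral_n c) (H.f' c) (H.f'_n c)
  have e₁ : h' ≫ h = 𝟙 _ := (hu₁ _ ⟨by rw [reassoc_of% h1', h1], by rw [Category.assoc, h2, h2']⟩).trans
    (hu₁ _ ⟨Category.comp_id _, Category.id_comp _⟩).symm
  have e₂ : h ≫ h' = 𝟙 _ := (hu₂ _ ⟨by rw [reassoc_of% h1, h1'], by rw [Category.assoc, h2', h2]⟩).trans
    (hu₂ _ ⟨Category.comp_id _, Category.id_comp _⟩).symm
  obtain ⟨l, rfl⟩ := (yon S).map_surjective h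
  obtain ⟨l', rfl⟩ := (yon S).map_surjective h'
  let e : H.N c ≅ M := ⟨l, l', (yon S).map_injective (by simpa using e₂), (yon S).map_injective (by simpa using e₁)⟩
  have hl : l ≫ pullback.snd (H.n d) φ.k = H.n c := (yon S).map_injective (by rw [Functor.map_comp, h2])
  refine ⟨l ≫ pullback.fst (H.n d) φ.k, ?_, ?_, fun χ' hχ hχ' => ?_⟩
  · exact sqM.of_iso e.symm (Iso.refl _) (Iso.refl _) (Iso.refl _) (by simp [e]; exact (e.inv_hom_id_assoc _).symm)
      (by simp [e]; rw [← hl]; exact (e.inv_hom_id_assoc _).symm) (by simp) (by simp)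
  · rw [Functor.map_comp, reassoc_of% h1, hgf]
  · have : (yon S).map (pullback.lift χ' (H.n c) hχ) = (yon S).map l := hu _ ⟨sqM'.hom_ext
      (by rw [hgf, Category.assoc, ← Functor.map_comp, pullback.lift_fst, hχ'])
      (by rw [hg, Category.assoc, ← Functor.map_comp, pullback.lift_snd, H.f'_n]),
      by rw [← Functor.map_comp, pullback.lift_snd]⟩
    rw [← (yon S).map_injective this, pullback.lift_fst]

/-- The comparison map of normalizations along a map of charts. -/
noncomputable def NormHyp.cmp : H.N c ⟶ H.N d := (H.exists_cmp φ).choose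

theorem NormHyp.cmp_isPullback : IsPullback (H.cmp φ) (H.n c) (H.n d) φ.k := (H.exists_cmp φ).choose_spec.1

theorem NormHyp.f'_cmp : H.f' c ≫ (yon S).map (H.cmp φ) =
    pullback.lift (pullback.fst f c.q) (pullback.snd f c.q ≫ (yon S).map φ.k)
      (by rw [Category.assoc, φ.w, pullback.condition]) ≫ H.f' d :=
  (H.exists_cmp φ).choose_spec.2.1

theorem NormHyp.cmp_id : H.cmp (NChart.Hom.id c) = 𝟙 (H.N c) := by
  refine ((H.exists_cmp (NChart.Hom.id c)).choose_spec.2.2 (𝟙 _) (by simp [NChart.Hom.id]) ?_).symm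
  rw [CategoryTheory.Functor.map_id, Category.comp_id]
  conv_lhs => rw [← Category.id_comp (H.f' c)]
  congr 1
  apply pullback.hom_ext <;> simp [NChart.Hom.id]

theorem NormHyp.cmp_comp {e : NChart X} (ψ : d.Hom e) : H.cmp (φ.comp ψ) = H.cmp φ ≫ H.cmp ψ := by
  refine ((H.exists_cmp (φ.comp ψ)).choose_spec.2.2 _ ?_ ?_).symm
  · rw [Category.assoc, (H.cmp_isPullback ψ).w, ← Category.assoc, (H.cmp_isPullback φ).w, Category.assoc]
    rfl
  · rw [Functor.map_comp, ← Category.assoc, H.f'_cmp φ, Category.assoc, H.f'_cmp ψ, ← Category.assoc]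
    congr 1
    apply pullback.hom_ext <;> simp [NChart.Hom.comp]

end Groth.Agent.AlgSpOne
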