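import Groth.Agent.AlgSpOne.NormUnique
import Groth.Agent.AlgSpOne.QfCodim
import Groth.Agent.AlgSpLib.WeakAssUnit

/-!
# Points of codimension zero of a relative normalization
-/

set_option autoImplicit false
set_option backward.isDefEq.respectTransparency false
set_option backward.isDefEq.respectTransparency.types false

universe u

open CategoryTheory CategoryTheory.Limits AlgebraicGeometry AlgSp Groth.Agent.AlgSpLib

namespace Groth.Agent.AlgSpOne

theorem primeAtPt_comap {U V : Scheme.{u}} (h : U ⟶ V) (u : ↥U) :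
    (primeAtPt U u).comap h.appTop.hom = primeAtPt V (h u) := by
  unfold primeAtPt
  rw [Ideal.comap_comap]
  have e : (U.presheaf.germ ⊤ u trivial).hom.comp h.appTop.hom =
      (h.stalkMap u).hom.comp (V.presheaf.germ ⊤ (h u) trivial).hom := by
    rw [← CommRingCat.hom_comp, ← CommRingCat.hom_comp]
    exact congrArg CommRingCat.Hom.hom (Scheme.Hom.germ_stalkMap h ⊤ u trivial).symm
  rw [e, ← Ideal.comap_comap, IsLocalRing.maximalIdeal_comap]

theorem primeAtPt_injective {U : Scheme.{u}} [IsAffine U] {w w' : ↥U}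
    (h : primeAtPt U w = primeAtPt U w') : w = w' := by
  rw [Cartier.primeAtPt_eq, Cartier.primeAtPt_eq] at h
  have h' := congrArg (isAffineOpen_top U).fromSpec (PrimeSpectrum.ext h)
  rwa [IsAffineOpen.fromSpec_primeIdealOf, IsAffineOpen.fromSpec_primeIdealOf] at h'

theorem exists_codimZero_preimage {W N : Scheme.{u}} [IsAffine W] [IsAffine N] (e : W ⟶ N)
    (he : Function.Injective e.appTop.hom) (v : ↥N) (hv : ringKrullDim (N.presheaf.stalk v) = 0) :
    ∃ w, e w = v ∧ ringKrullDim (W.presheaf.stalk w) = 0 := by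
  rw [WeakAssUnit.ringKrullDim_stalk_eq_zero_iff] at hv
  obtain ⟨p, hp, hpv⟩ := Ideal.exists_minimalPrimes_comap_eq (I := ⊥) e.appTop.hom (primeAtPt N v)
    (by rw [Ideal.comap_bot_of_injective _ he]; exact hv)
  have : p.IsPrime := hp.isPrime
  obtain ⟨w, hw⟩ := Cartier.exists_primeAtPt_eq p
  refine ⟨w, primeAtPt_injective ?_, (WeakAssUnit.ringKrullDim_stalk_eq_zero_iff w).2 (hw ▸ hp)⟩
  rw [← primeAtPt_comap, hw, hpv]

variable {S : Scheme.{u}} {X Y : Sp S} {f : Y ⟶ X}

/-- Functions on the normalization over a chart inject into the functions of an affine atlas. -/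
theorem injective_appTop_of_f' (H : NormHyp f) (c : NChart X) {W : Over S} (hW : IsAffine W.left)
    {b : (yon S).obj W ⟶ pullback f c.q} (hbe : RepWith @Etale b) (hbs : RepWith @Surjective b)
    (γ : W ⟶ H.N c) (hγ : (yon S).map γ = b ≫ H.f' c) : Function.Injective γ.left.appTop.hom := by
  have := H.affine_N c
  have := H.integral_n c
  let I : Ideal Γ((H.N c).left, ⊤) := RingHom.ker γ.left.appTop.hom
  let q : Γ((H.N c).left, ⊤) ⟶ CommRingCat.of (Γ((H.N c).left, ⊤) ⧸ I) :=
    CommRingCat.ofHom (Ideal.Quotient.mk I)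
  let Z : Over S := Over.mk ((Spec.map q ≫ (H.N c).left.isoSpec.inv) ≫ (H.N c).hom)
  let ι : Z ⟶ H.N c := Over.homMk (Spec.map q ≫ (H.N c).left.isoSpec.inv) rfl
  have : IsClosedImmersion (Spec.map q) := IsClosedImmersion.spec_of_surjective _ Ideal.Quotient.mk_surjective
  have hι : IsClosedImmersion ι.left := inferInstanceAs (IsClosedImmersion (Spec.map q ≫ (H.N c).left.isoSpec.inv))
  have : IsAffine Z.left := inferInstanceAs (IsAffine (Spec _))
  have hιq : ι.left.appTop = q ≫ (Scheme.ΓSpecIso _).inv := by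
    change (Spec.map q ≫ (H.N c).left.isoSpec.inv).appTop = q ≫ (Scheme.ΓSpecIso _).inv
    rw [Scheme.Hom.comp_appTop, Scheme.ΓSpecIso_inv_naturality]
    congr 1
    rw [← cancel_mono (H.N c).left.isoSpec.hom.appTop, ← Scheme.Hom.comp_appTop, Iso.hom_inv_id]
    simp [Scheme.isoSpec]
  let φ : Γ(Z.left, ⊤) ⟶ Γ(W.left, ⊤) :=
    (Scheme.ΓSpecIso _).hom ≫ CommRingCat.ofHom (Ideal.Quotient.lift I γ.left.appTop.hom fun a ha => ha)
  obtain ⟨g, -, hg⟩ := exists_overHom ι γ φ (by
    rw [hιq, Category.assoc]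
    change q ≫ (Scheme.ΓSpecIso _).inv ≫ (Scheme.ΓSpecIso _).hom ≫ _ = _
    rw [Iso.inv_hom_id_assoc]
    exact CommRingCat.hom_ext (Ideal.Quotient.lift_comp_mk _ _ _))
  have : Mono ι := Over.mono_of_mono_left ι
  obtain ⟨g', hg'⟩ := exists_desc_atlas hbe hbs (hbe.rep.isPullback' b) ((yon S).map g) (by
    rw [← cancel_mono ((yon S).map ι), Category.assoc, Category.assoc, ← Functor.map_comp, hg, hγ,
      ← Category.assoc, ← Category.assoc, (hbe.rep.isPullback' b).w])
  have : Epi b := epi_of_etale_surjective hbe hbs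
  have hg'ι : g' ≫ (yon S).map ι = H.f' c := by
    rw [← cancel_epi b, reassoc_of% hg', ← Functor.map_comp, hg, hγ]
  have hπ : IsIntegralHom (ι ≫ H.n c).left := by rw [Over.comp_left]; infer_instance
  obtain ⟨h, ⟨h1, h2⟩, -⟩ := H.up_self c (ι ≫ H.n c) hπ g' (by rw [Functor.map_comp, reassoc_of% hg'ι, H.f'_n])
  obtain ⟨i, -, hi⟩ := H.up_self c (H.n c) (H.integral_n c) (H.f' c) (H.f'_n c)
  have hsec : h ≫ (yon S).map ι = 𝟙 _ :=
    (hi _ ⟨by rw [reassoc_of% h1, hg'ι], by rw [Category.assoc, ← Functor.map_comp, h2]⟩).trans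
      (hi _ ⟨Category.comp_id _, Category.id_comp _⟩).symm
  obtain ⟨h, rfl⟩ := (yon S).map_surjective h
  have hs : h.left ≫ ι.left = 𝟙 _ := by
    rw [← Over.comp_left, (yon S).map_injective (show (yon S).map (h ≫ ι) = (yon S).map (𝟙 _) by
      rw [Functor.map_comp, hsec, CategoryTheory.Functor.map_id])]
    rfl
  have hinj : Function.Injective ι.left.appTop.hom := Function.LeftInverse.injective
    (g := h.left.appTop.hom) fun a => by
      rw [← RingHom.comp_apply, ← CommRingCat.hom_comp, ← Scheme.Hom.comp_appTop, hs]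
      simp
  refine (injective_iff_map_eq_zero _).2 fun a ha => hinj ?_
  rw [map_zero, hιq]
  change (Scheme.ΓSpecIso (CommRingCat.of (Γ((H.N c).left, ⊤) ⧸ I))).inv.hom (Ideal.Quotient.mk I a) = 0
  rw [Ideal.Quotient.eq_zero_iff_mem.2 (show a ∈ I from ha), map_zero]

/-- A point of codimension zero of the normalization comes from one of the source. -/
theorem exists_codimZero_lift (H : NormHyp f) {X' : Sp S} (hX' : IsAlgSpace X') {ν : X' ⟶ X} {f' : Y ⟶ X'}
    (hn : IsRelNormalization f ν f') (x' : Points X')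
    (hx' : HasAt (fun U u => ringKrullDim ↥(U.presheaf.stalk u) = 0) X' x') :
    ∃ y : Points Y, HasAt (fun U u => ringKrullDim ↥(U.presheaf.stalk u) = 0) Y y ∧ Points.map f' y = x' := by
  obtain ⟨e, he₁, he₂⟩ := exists_iso_of_isRelNormalization hX' (isAlgSpace_normSp H) hn (isRelNormalization_normMap H)
  obtain ⟨U, p, hpe, hps⟩ := H.target.atlas
  obtain ⟨t, ht⟩ := surjective_ofPt hps (Points.map ν x')
  obtain ⟨V, hV, htV, -⟩ := exists_isAffineOpen_mem_and_subset (U := (⊤ : U.left.Opens)) (x := t) trivial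
  let TV : Over S := Over.mk (V.ι ≫ U.hom)
  let j : TV ⟶ U := Over.homMk V.ι rfl
  let c : NChart X := ⟨TV, hV, (yon S).map j ≫ p,
    repWith_comp ((repWith_yon_map_iff _ j).2 (inferInstanceAs (Etale V.ι))) hpe⟩
  let m : (yon S).obj (H.N c) ⟶ X' := chartMap H c ≫ e.inv
  have sq : IsPullback m ((yon S).map (H.n c)) ν c.q :=
    (isPullback_chartMap H c).of_iso (Iso.refl _) e.symm (Iso.refl _) (Iso.refl _) (by simp [m]) (by simp)
      (by simp [← he₂]) (by simp)
  have hm : RepWith @Etale m := repWith_of_isPullback sq.flip c.et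
  obtain ⟨z, hz, -⟩ := exists_point_of_isPullback sq (x := x') (y := Points.ofPt (𝟙 _) (⟨t, htV⟩ : TV.left))
    (by
      rw [Points.map_ofPt, Category.id_comp, ← ht]
      exact (ofPt_comp j p (⟨t, htV⟩ : TV.left)).symm)
  obtain ⟨v, rfl⟩ := surjective_ofPt (repWith_of_isIso @Surjective (𝟙 ((yon S).obj (H.N c)))) z
  rw [Points.map_ofPt, Category.id_comp] at hz
  rw [← hz, hasAt_codimZero_iff hm] at hx'
  have := H.affine_N c
  have := c.aff
  have hP : IsAlgSpace (pullback f c.q) := isAlgSpace_pullback H.source (IsAlgSpace.yon_obj _) H.target f c.q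
  have hPqc : IsQuasiCompactSp (pullback f c.q) :=
    AlgSpPts.isQuasiCompactMor_of_isPullback (IsPullback.of_hasPullback f c.q) H.qc (IsAlgSpace.yon_obj _)
      AlgSpVal.isQuasiCompactSp_yon (𝟙 _) (𝟙 _) (pullback.snd f c.q) (IsPullback.of_horiz_isIso ⟨by simp⟩)
  obtain ⟨W, b, hW, hbe, hbs⟩ := AlgSpLib.CartierRegular.exists_affine_atlas hP hPqc
  obtain ⟨γ, hγ⟩ := (yon S).map_surjective (b ≫ H.f' c)
  have hv : ringKrullDim ((H.N c).left.presheaf.stalk v) = 0 := by
    rw [ringKrullDim_stalk_eq_coheight, hx']; rfl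
  obtain ⟨w, hwv, hw⟩ := exists_codimZero_preimage γ.left (injective_appTop_of_f' H c hW hbe hbs γ hγ) v hv
  refine ⟨Points.ofPt (b ≫ pullback.fst f c.q) w,
    ⟨W, _, w, repWith_comp hbe (repWith_of_isPullback (IsPullback.of_hasPullback f c.q).flip c.et), rfl, hw⟩, ?_⟩
  have hf' : (b ≫ pullback.fst f c.q) ≫ f' = (yon S).map γ ≫ m := by
    rw [hγ]
    simp only [m, Category.assoc, reassoc_of% (f'_chartMap H c)]
    rw [← he₁]
    simp
  rw [Points.map_ofPt, hf', ofPt_comp, hwv, hz]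

end Groth.Agent.AlgSpOne
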