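import Groth.Agent.AlgSpLib.EtLift
import Groth.Agent.AlgSpDec.AffineRep
import Groth.Prelude.Def_AlgSpMor5
import Mathlib.AlgebraicGeometry.Morphisms.Integral

/-!
# Universal property of relative normalization on test schemes
-/

set_option autoImplicit false
set_option backward.isDefEq.respectTransparency false
set_option backward.isDefEq.respectTransparency.types false

universe u

open CategoryTheory CategoryTheory.Limits AlgebraicGeometry AlgSp Groth.Agent.AlgSpLib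

namespace Groth.Agent.AlgSpOne

variable {S : Scheme.{u}}

/-- Initial among factorizations through schemes integral over `T`. -/
def IsNormUP {P Q : Sp S} {T : Over S} (fT : P ⟶ (yon S).obj T) (νT : Q ⟶ (yon S).obj T) (fT' : P ⟶ Q) : Prop :=
  ∀ ⦃Z : Over S⦄ (π : Z ⟶ T), IsIntegralHom π.left → ∀ g : P ⟶ (yon S).obj Z, g ≫ (yon S).map π = fT →
    ∃! h : Q ⟶ (yon S).obj Z, fT' ≫ h = g ∧ h ≫ (yon S).map π = νT

/-- The universal property holds after base change to `t`. -/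
def IsNormGood {Y X X' : Sp S} (f : Y ⟶ X) (ν : X' ⟶ X) (f' : Y ⟶ X') {T : Over S}
    (t : (yon S).obj T ⟶ X) : Prop :=
  ∀ ⦃P Q : Sp S⦄ (a : P ⟶ Y) (fT : P ⟶ (yon S).obj T) (b : Q ⟶ X') (νT : Q ⟶ (yon S).obj T) (fT' : P ⟶ Q),
    IsPullback a fT f t → IsPullback b νT ν t → fT' ≫ νT = fT → fT' ≫ b = a ≫ f' → IsNormUP fT νT fT'

theorem IsNormGood.congr {Y X X' : Sp S} {f : Y ⟶ X} {ν : X' ⟶ X} {f' : Y ⟶ X'} {T : Over S}
    {t t' : (yon S).obj T ⟶ X} (h : t = t') (hg : IsNormGood f ν f' t) : IsNormGood f ν f' t' := h ▸ hg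

/-- The universal property at a test scheme follows from the one for a base change. -/
theorem IsNormGood.of_baseChange {Y X X' P₀ Q₀ : Sp S} {f : Y ⟶ X} {ν : X' ⟶ X} {f' : Y ⟶ X'} {T₀ : Over S}
    {t₀ : (yon S).obj T₀ ⟶ X} {a₀ : P₀ ⟶ Y} {f₀ : P₀ ⟶ (yon S).obj T₀} {b₀ : Q₀ ⟶ X'}
    {ν₀ : Q₀ ⟶ (yon S).obj T₀} {f₀' : P₀ ⟶ Q₀} (sqP : IsPullback a₀ f₀ f t₀) (sqQ : IsPullback b₀ ν₀ ν t₀)
    (h₁ : f₀' ≫ ν₀ = f₀) (h₂ : f₀' ≫ b₀ = a₀ ≫ f') {T : Over S} (k : T ⟶ T₀)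
    (hg : IsNormGood f₀ ν₀ f₀' ((yon S).map k)) : IsNormGood f ν f' ((yon S).map k ≫ t₀) := by
  intro P Q a fT b νT fT' sP sQ w₁ w₂
  let a₁ := sqP.lift a (fT ≫ (yon S).map k) (by rw [sP.w, Category.assoc])
  let b₁ := sqQ.lift b (νT ≫ (yon S).map k) (by rw [sQ.w, Category.assoc])
  have sP₁ : IsPullback a₁ fT f₀ ((yon S).map k) :=
    IsPullback.of_right (by rw [sqP.lift_fst]; exact sP) (sqP.lift_snd _ _ _) sqP
  have sQ₁ : IsPullback b₁ νT ν₀ ((yon S).map k) :=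
    IsPullback.of_right (by rw [sqQ.lift_fst]; exact sQ) (sqQ.lift_snd _ _ _) sqQ
  refine hg a₁ fT b₁ νT fT' sP₁ sQ₁ w₁ (sqQ.hom_ext ?_ ?_)
  · rw [Category.assoc, sqQ.lift_fst, w₂, Category.assoc, h₂, ← Category.assoc, sqP.lift_fst]
  · rw [Category.assoc, sqQ.lift_snd, ← Category.assoc, w₁, Category.assoc, h₁, sqP.lift_snd]

/-- It is enough to check the universal property on one pair of pullback squares. -/
theorem isNormGood_of_squares {Y X X' P₀ Q₀ : Sp S} {f : Y ⟶ X} {ν : X' ⟶ X} {f' : Y ⟶ X'} {T : Over S}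
    {t : (yon S).obj T ⟶ X} {a₀ : P₀ ⟶ Y} {f₀ : P₀ ⟶ (yon S).obj T} {b₀ : Q₀ ⟶ X'}
    {ν₀ : Q₀ ⟶ (yon S).obj T} {f₀' : P₀ ⟶ Q₀} (sqP : IsPullback a₀ f₀ f t) (sqQ : IsPullback b₀ ν₀ ν t)
    (h₁ : f₀' ≫ ν₀ = f₀) (h₂ : f₀' ≫ b₀ = a₀ ≫ f') (hup : IsNormUP f₀ ν₀ f₀') : IsNormGood f ν f' t := by
  intro P Q a fT b νT fT' sP sQ w₁ w₂ Z π hπ g hg
  let eP := sqP.isoIsPullback _ _ sP
  let eQ := sqQ.isoIsPullback _ _ sQ
  have hP1 : eP.hom ≫ a = a₀ := sqP.isoIsPullback_hom_fst _ _ sP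
  have hP2 : eP.hom ≫ fT = f₀ := sqP.isoIsPullback_hom_snd _ _ sP
  have hQ1 : eQ.hom ≫ b = b₀ := sqQ.isoIsPullback_hom_fst _ _ sQ
  have hQ2 : eQ.hom ≫ νT = ν₀ := sqQ.isoIsPullback_hom_snd _ _ sQ
  have hf : f₀' ≫ eQ.hom = eP.hom ≫ fT' := sQ.hom_ext
    (by rw [Category.assoc, hQ1, h₂, ← hP1, Category.assoc, Category.assoc, w₂])
    (by rw [Category.assoc, hQ2, h₁, Category.assoc, w₁, hP2])
  obtain ⟨h, ⟨hh₁, hh₂⟩, huniq⟩ := hup π hπ (eP.hom ≫ g) (by rw [Category.assoc, hg, hP2])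
  refine ⟨eQ.inv ≫ h, ⟨?_, ?_⟩, fun h' hh' => ?_⟩
  · rw [← cancel_epi eP.hom, ← Category.assoc, ← hf, Category.assoc, eQ.hom_inv_id_assoc, hh₁]
  · rw [Category.assoc, hh₂, eQ.inv_comp_eq, hQ2]
  · rw [eQ.eq_inv_comp]
    exact huniq _ ⟨by rw [← Category.assoc, hf, Category.assoc, hh'.1], by rw [Category.assoc, hh'.2, hQ2]⟩

/-- Maps out of a space are given by maps out of an atlas agreeing on the kernel pair. -/
theorem exists_desc_atlas {F G : Sp S} {U R : Over S} {p : (yon S).obj U ⟶ F} (he : RepWith @Etale p)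
    (hs : RepWith @Surjective p) {t s : R ⟶ U} (sq : IsPullback ((yon S).map t) ((yon S).map s) p p)
    (g : (yon S).obj U ⟶ G) (hg : (yon S).map t ≫ g = (yon S).map s ≫ g) : ∃ h : F ⟶ G, p ≫ h = g :=
  ⟨(EtLift.isColimitOfAtlas he hs sq).desc (Cofork.ofπ g hg), (EtLift.isColimitOfAtlas he hs sq).fac (Cofork.ofπ g hg) WalkingParallelPair.one⟩

/-- Over a quasi-separated map the kernel pair of a chart is quasi-compact over the square of the chart. -/
theorem quasiCompact_kernelPair {P G : Sp S} {f : P ⟶ G} (hqs : IsQuasiSeparatedMor f) {W WW R : Over S}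
    {b : (yon S).obj W ⟶ P} {c₁ c₂ : WW ⟶ W}
    (hWW : IsPullback ((yon S).map c₁) ((yon S).map c₂) (b ≫ f) (b ≫ f))
    {t s : R ⟶ W} (sq : IsPullback ((yon S).map t) ((yon S).map s) b b) (l : R ⟶ WW)
    (h₁ : l ≫ c₁ = t) (h₂ : l ≫ c₂ = s) : QuasiCompact l.left := by
  let m : (yon S).obj WW ⟶ pullback f f :=
    pullback.lift ((yon S).map c₁ ≫ b) ((yon S).map c₂ ≫ b) (by rw [Category.assoc, hWW.w, Category.assoc])
  have hw : ((yon S).map t ≫ b) ≫ pullback.diagonal f = (yon S).map l ≫ m := by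
    refine pullback.hom_ext ?_ ?_
    · simp only [m, Category.assoc, pullback.diagonal_fst, Category.comp_id, pullback.lift_fst, ← h₁, Functor.map_comp]
    · simp only [m, Category.assoc, pullback.diagonal_snd, Category.comp_id, pullback.lift_snd]
      rw [sq.w, ← h₂, Functor.map_comp, Category.assoc]
  have hmk : IsPullback ((yon S).map t ≫ b) ((yon S).map l) (pullback.diagonal f) m := by
    have hc : ∀ c : PullbackCone (pullback.diagonal f) m, (c.snd ≫ (yon S).map c₁) ≫ b = c.fst ∧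
        (c.snd ≫ (yon S).map c₂) ≫ b = c.fst := fun c => by
      have e₁ := congrArg (· ≫ pullback.fst f f) c.condition
      have e₂ := congrArg (· ≫ pullback.snd f f) c.condition
      simp only [m, Category.assoc, pullback.diagonal_fst, pullback.diagonal_snd, Category.comp_id,
        pullback.lift_fst, pullback.lift_snd] at e₁ e₂
      exact ⟨by rw [Category.assoc, ← e₁], by rw [Category.assoc, ← e₂]⟩
    refine ⟨⟨hw⟩, ⟨PullbackCone.IsLimit.mk _ (fun c => sq.lift (c.snd ≫ (yon S).map c₁) (c.snd ≫ (yon S).map c₂)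
      ((hc c).1.trans (hc c).2.symm)) (fun c => ?_) (fun c => ?_) fun c l' hl₁ hl₂ => ?_⟩⟩
    · rw [← Category.assoc, sq.lift_fst, (hc c).1]
    · refine hWW.hom_ext ?_ ?_
      · rw [Category.assoc, ← Functor.map_comp, h₁, sq.lift_fst]
      · rw [Category.assoc, ← Functor.map_comp, h₂, sq.lift_snd]
    · refine sq.hom_ext ?_ ?_
      · rw [sq.lift_fst, ← hl₂, Category.assoc, ← Functor.map_comp, h₁]
      · rw [sq.lift_snd, ← hl₂, Category.assoc, ← Functor.map_comp, h₂]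
  exact hqs.2 m _ l hmk

/-- A morphism into an affine scheme with prescribed functions. -/
theorem exists_hom_appTop {X Z : Scheme.{u}} [IsAffine Z] (φ : Γ(Z, ⊤) ⟶ Γ(X, ⊤)) :
    ∃ h : X ⟶ Z, h.appTop = φ :=
  ⟨X.toSpecΓ ≫ Spec.map φ ≫ Z.isoSpec.inv, by
    rw [Scheme.Hom.comp_appTop, Scheme.Hom.comp_appTop]
    simp [← Category.assoc, ← Scheme.ΓSpecIso_inv_naturality, Scheme.isoSpec]
    simp [Scheme.toSpecΓ_appTop]⟩

end Groth.Agent.AlgSpOne
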