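import Groth.Agent.AlgSpOne.NormDefs
import Groth.Agent.AlgSpDec.LqfQuot
import Groth.Agent.AlgSpDec.OpenCoverSpace

/-!
# Gluing the universal property of relative normalization
-/

set_option autoImplicit false
set_option backward.isDefEq.respectTransparency false
set_option backward.isDefEq.respectTransparency.types false

universe u

open CategoryTheory CategoryTheory.Limits AlgebraicGeometry AlgSp Groth.Agent.AlgSpLib

namespace Groth.Agent.AlgSpOne

variable {S : Scheme.{u}}

/-- An etale surjective map from the disjoint union of a covering etale family. -/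
theorem exists_sigma_cover {W : Sp S} (hW : IsAlgSpace W) {ι : Type u} (T : ι → Over S)
    (q : ∀ i, (yon S).obj (T i) ⟶ W) (hq : ∀ i, RepWith @Etale (q i))
    (hc : ∀ x, ∃ i v, Points.ofPt (q i) v = x) :
    ∃ p : (yon S).obj (AlgSpDec.sigmaOver T) ⟶ W,
      (∀ i, (yon S).map (AlgSpDec.sigmaι T i) ≫ p = q i) ∧ RepWith @Etale p ∧ RepWith @Surjective p := by
  obtain ⟨p, hp⟩ := AlgSpDec.exists_hom_sigma T q
  have hr : Representable p := representable_from_yon' hW p
  refine ⟨p, hp, AlgSpDec.repWith_etale_sigma hr fun i => by rw [hp]; exact hq i,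
    repWith_surjective_of_surjective hr fun x => ?_⟩
  obtain ⟨i, v, rfl⟩ := hc x
  refine ⟨Points.ofScheme _ ((AlgSpDec.sigmaι T i).left v), ?_⟩
  rw [← Points.ofPt_eq_map_ofScheme, ← ofPt_comp, hp]

/-- Maps out of a space over `W` agree if they agree over a covering etale family of `W`. -/
theorem hom_ext_over_family {W F Z : Sp S} (hW : IsAlgSpace W) (f : F ⟶ W) {ι : Type u} (T : ι → Over S)
    (q : ∀ i, (yon S).obj (T i) ⟶ W) (hq : ∀ i, RepWith @Etale (q i))
    (hc : ∀ x, ∃ i v, Points.ofPt (q i) v = x) (g₁ g₂ : F ⟶ Z)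
    (h : ∀ i, pullback.fst f (q i) ≫ g₁ = pullback.fst f (q i) ≫ g₂) : g₁ = g₂ := by
  obtain ⟨p, hp, hpe, hps⟩ := exists_sigma_cover hW T q hq hc
  refine Sheaf.hom_ext (NatTrans.ext (funext fun O => ConcreteCategory.hom_ext _ _ fun x => ?_))
  obtain ⟨O⟩ := O
  suffices hs : ∀ c : (yon S).obj O ⟶ F, c ≫ g₁ = c ≫ g₂ by
    have := congrArg (J S).uliftYonedaEquiv (hs ((J S).uliftYonedaEquiv.symm x))
    simp only [GrothendieckTopology.uliftYonedaEquiv_comp, Equiv.apply_symm_apply] at this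
    exact this
  intro c
  let O₁ := hpe.rep.pullback (c ≫ f)
  let π := hpe.rep.snd (c ≫ f)
  let σ := hpe.rep.fst' (c ≫ f)
  have hπ : fppf π.left := @fppf_of_etale _ _ π.left (hpe.property_snd _) (hps.2 _ _ π (hpe.rep.isPullback _))
  refine hom_ext_of_fppf π hπ _ _ (AlgSpDec.hom_ext_of_openCover
    ((sigmaOpenCover fun i => (T i).left).pullback₁ σ.left) _ _ fun i => ?_)
  let O₂ : Over S := Over.mk (pullback.fst σ.left (Sigma.ι (fun i => (T i).left) i) ≫ O₁.hom)
  let j : O₂ ⟶ O₁ := Over.homMk (pullback.fst σ.left (Sigma.ι (fun i => (T i).left) i)) rfl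
  let σ₂ : O₂ ⟶ T i := Over.homMk (pullback.snd σ.left (Sigma.ι (fun i => (T i).left) i)) (by
    change _ = pullback.fst _ _ ≫ O₁.hom
    rw [← Over.w σ, pullback.condition_assoc]
    exact congrArg (pullback.snd _ _ ≫ ·) (Sigma.ι_desc (fun i => (T i).hom) i).symm)
  have hσ : σ₂ ≫ AlgSpDec.sigmaι T i = j ≫ σ := Over.OverMorphism.ext pullback.condition.symm
  have hw : ((yon S).map j ≫ (yon S).map π ≫ c) ≫ f = (yon S).map σ₂ ≫ q i := by
    rw [← hp, ← Functor.map_comp_assoc, ← Functor.map_comp_assoc, hσ, Category.assoc, Functor.map_comp,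
      Functor.map_comp, Category.assoc, Category.assoc, ← hpe.rep.w (c ≫ f),
      Functor.relativelyRepresentable.map_fst']
  calc (yon S).map j ≫ (yon S).map π ≫ c ≫ g₁
      = pullback.lift ((yon S).map j ≫ (yon S).map π ≫ c) ((yon S).map σ₂) hw ≫ pullback.fst f (q i) ≫ g₁ := by
        rw [pullback.lift_fst_assoc]; simp only [Category.assoc]
    _ = _ := by rw [h i, pullback.lift_fst_assoc]; simp only [Category.assoc]; rfl

/-- Maps out of a space covered by an etale family of schemes glue. -/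
theorem existsUnique_desc_family {Q Z : Sp S} (hQ : IsAlgSpace Q) {ι : Type u} (V : ι → Over S)
    (m : ∀ i, (yon S).obj (V i) ⟶ Q) (hm : ∀ i, RepWith @Etale (m i))
    (hc : ∀ x, ∃ i v, Points.ofPt (m i) v = x) (h : ∀ i, (yon S).obj (V i) ⟶ Z)
    (hag : ∀ i j (O : Over S) (a : O ⟶ V i) (b : O ⟶ V j), (yon S).map a ≫ m i = (yon S).map b ≫ m j →
      (yon S).map a ≫ h i = (yon S).map b ≫ h j) :
    ∃! H : Q ⟶ Z, ∀ i, m i ≫ H = h i := by
  obtain ⟨p, hp, hpe, hps⟩ := exists_sigma_cover hQ V m hm hc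
  obtain ⟨g, hg⟩ := AlgSpDec.exists_hom_sigma V h
  let R := hpe.rep.pullback p
  let t : R ⟶ AlgSpDec.sigmaOver V := hpe.rep.fst' p
  let s : R ⟶ AlgSpDec.sigmaOver V := hpe.rep.snd p
  have sq : IsPullback ((yon S).map t) ((yon S).map s) p p := hpe.rep.isPullback' p
  have hts : (yon S).map t ≫ g = (yon S).map s ≫ g := by
    let U : R.left → R.left.Opens := fun x =>
      t.left ⁻¹ᵁ (AlgSpDec.sigmaι V (AlgSpDec.exists_sigmaι V (t.left x)).choose).left.opensRange ⊓
        s.left ⁻¹ᵁ (AlgSpDec.sigmaι V (AlgSpDec.exists_sigmaι V (s.left x)).choose).left.opensRange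
    refine AlgSpDec.hom_ext_of_openCover (Scheme.openCoverOfIsOpenCover R.left U
      (TopologicalSpace.Opens.ext (Set.eq_univ_of_forall fun x => by
        rw [TopologicalSpace.Opens.coe_iSup, Set.mem_iUnion]
        exact ⟨x, (AlgSpDec.exists_sigmaι V (t.left x)).choose_spec,
          (AlgSpDec.exists_sigmaι V (s.left x)).choose_spec⟩))) _ _ fun x => ?_
    set i := (AlgSpDec.exists_sigmaι V (t.left x)).choose
    set j := (AlgSpDec.exists_sigmaι V (s.left x)).choose
    let O : Over S := Over.mk ((U x).ι ≫ R.hom)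
    let o : O ⟶ R := Over.homMk (U x).ι rfl
    have hr : ∀ (l : ι) (r : R ⟶ AlgSpDec.sigmaOver V),
        (∀ y : ↥(U x).toScheme, r.left ((U x).ι y) ∈ Set.range (AlgSpDec.sigmaι V l).left) →
        ∃ a : O ⟶ V l, a ≫ AlgSpDec.sigmaι V l = o ≫ r := fun l r hy => by
      let a := IsOpenImmersion.lift (AlgSpDec.sigmaι V l).left (o ≫ r).left (by
        rintro _ ⟨y, rfl⟩
        exact hy y)
      exact ⟨Over.homMk a (by
        rw [← Over.w (o ≫ r), ← Over.w (AlgSpDec.sigmaι V l), IsOpenImmersion.lift_fac_assoc]),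
        Over.OverMorphism.ext (IsOpenImmersion.lift_fac _ _ _)⟩
    obtain ⟨a, ha⟩ := hr i t fun y => y.2.1
    obtain ⟨b, hb⟩ := hr j s fun y => y.2.2
    change (yon S).map o ≫ (yon S).map t ≫ g = (yon S).map o ≫ (yon S).map s ≫ g
    rw [← Functor.map_comp_assoc, ← Functor.map_comp_assoc, ← ha, ← hb, Functor.map_comp, Functor.map_comp,
      Category.assoc, Category.assoc, hg, hg]
    refine hag i j O a b ?_
    rw [← hp, ← hp, ← Functor.map_comp_assoc, ← Functor.map_comp_assoc, ha, hb, Functor.map_comp, Functor.map_comp,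
      Category.assoc, Category.assoc, sq.w]
  obtain ⟨H, hH⟩ := exists_desc_atlas hpe hps sq g hts
  have : Epi p := epi_of_etale_surjective hpe hps
  refine ⟨H, fun i => by rw [← hp, Category.assoc, hH, hg], fun H' hH' => ?_⟩
  rw [← cancel_epi p, hH]
  exact AlgSpDec.hom_ext_sigma V fun i => by rw [← Category.assoc, hp, hH', hg]

/-- The universal property on affine schemes etale over a covering family gives the relative normalization. -/
theorem isRelNormalization_of_family {Y X X' W PW QW : Sp S} (hW : IsAlgSpace W)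
    {f : Y ⟶ X} {ν : X' ⟶ X} {f' : Y ⟶ X'} {w : W ⟶ X} (hν : IsIntegralMor ν)
    {a : PW ⟶ Y} {fW : PW ⟶ W} {b : QW ⟶ X'} {νW : QW ⟶ W} {fW' : PW ⟶ QW}
    (sqP : IsPullback a fW f w) (sqQ : IsPullback b νW ν w) (w₁ : fW' ≫ νW = fW) (w₂ : fW' ≫ b = a ≫ f')
    {ι : Type u} (T : ι → Over S) (q : ∀ i, (yon S).obj (T i) ⟶ W) (hT : ∀ i, IsAffine (T i).left)
    (hq : ∀ i, RepWith @Etale (q i)) (hc : ∀ x, ∃ i v, Points.ofPt (q i) v = x)
    (hgood : ∀ i ⦃T' : Over S⦄ (k : T' ⟶ T i), IsAffine T'.left → Etale k.left →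
      IsNormGood f ν f' ((yon S).map k ≫ q i ≫ w)) :
    IsRelNormalization fW νW fW' := by
  have hνW : IsIntegralMor νW :=
    AlgSpDec.isIntegralMor_iff_repWith.2 (repWith_of_isPullback sqQ (AlgSpDec.isIntegralMor_iff_repWith.1 hν))
  refine ⟨w₁, hνW, fun Z hZ π g hπ hg => ?_⟩
  have hloc : ∀ (i : ι) ⦃T' : Over S⦄ (k : T' ⟶ T i), IsAffine T'.left → Etale k.left →
      ∀ ⦃Qc : Sp S⦄ (mQ : Qc ⟶ QW) (sQ : Qc ⟶ (yon S).obj T') (sqc : IsPullback mQ sQ νW ((yon S).map k ≫ q i)),
      ∃! h : Qc ⟶ Z, sqc.lift (pullback.fst fW ((yon S).map k ≫ q i) ≫ fW') (pullback.snd fW _)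
        (by rw [Category.assoc, w₁, pullback.condition]) ≫ h = pullback.fst fW _ ≫ g ∧ h ≫ π = mQ ≫ νW := by
    intro i T' k hT' hk Qc mQ sQ sqc
    obtain ⟨Zc, πc, zc, sqZ, -, hπc⟩ := hπ hT' ((yon S).map k ≫ q i)
    have hup := hgood i k hT' hk (pullback.fst fW ((yon S).map k ≫ q i) ≫ a) (pullback.snd _ _) (mQ ≫ b) sQ
      (sqc.lift (pullback.fst fW ((yon S).map k ≫ q i) ≫ fW') (pullback.snd fW _)
        (by rw [Category.assoc, w₁, pullback.condition]))
      (by rw [← Category.assoc ((yon S).map k)]; exact (IsPullback.of_hasPullback _ _).paste_horiz sqP)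
      (by rw [← Category.assoc ((yon S).map k)]; exact sqc.paste_horiz sqQ)
      (sqc.lift_snd _ _ _) (by rw [sqc.lift_fst_assoc, Category.assoc, w₂, Category.assoc])
    obtain ⟨h, ⟨h1, h2⟩, hu⟩ := hup πc hπc (sqZ.lift (pullback.fst fW _ ≫ g) (pullback.snd fW _)
      (by rw [Category.assoc, hg, pullback.condition])) (sqZ.lift_snd _ _ _)
    refine ⟨h ≫ zc, ⟨by rw [reassoc_of% h1, sqZ.lift_fst], by rw [Category.assoc, sqZ.w, reassoc_of% h2, sqc.w]⟩,
      fun h' hh' => ?_⟩
    have e := hu (sqZ.lift h' sQ (by rw [hh'.2, sqc.w])) ⟨sqZ.hom_ext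
      (by rw [Category.assoc, sqZ.lift_fst, sqZ.lift_fst, hh'.1])
      (by rw [Category.assoc, sqZ.lift_snd, sqZ.lift_snd, sqc.lift_snd]), sqZ.lift_snd _ _ _⟩
    rw [← e, sqZ.lift_fst]
  have hrep := AlgSpDec.isIntegralMor_iff_repWith.1 hνW
  let V : ι → Over S := fun i => hrep.rep.pullback (q i)
  let m : ∀ i, (yon S).obj (V i) ⟶ QW := fun i => hrep.rep.fst (q i)
  let v : ∀ i, V i ⟶ T i := fun i => hrep.rep.snd (q i)
  have sqV : ∀ i, IsPullback (m i) ((yon S).map (v i)) νW (q i) := fun i => hrep.rep.isPullback (q i)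
  have hm : ∀ i, RepWith @Etale (m i) := fun i => repWith_of_isPullback (sqV i).flip (hq i)
  have hmc : ∀ x, ∃ i u, Points.ofPt (m i) u = x := fun x => by
    obtain ⟨i, t, ht⟩ := hc (Points.map νW x)
    obtain ⟨z, hz, -⟩ := exists_point_of_isPullback (sqV i) (x := x) (y := Points.ofScheme (T i) t)
      (by rw [← ht, Points.ofPt_eq_map_ofScheme])
    obtain ⟨u, rfl⟩ := (Points.schemeHomeo _).surjective z
    exact ⟨i, u, (Points.ofPt_eq_map_ofScheme _ u).trans hz⟩
  have sqV' : ∀ i, IsPullback (m i) ((yon S).map (v i)) νW ((yon S).map (𝟙 (T i)) ≫ q i) := fun i => by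
    rw [CategoryTheory.Functor.map_id, Category.id_comp]; exact sqV i
  choose h hh huniq using fun i => hloc i (𝟙 (T i)) (hT i) (inferInstanceAs (Etale (𝟙 (T i).left))) _ _ (sqV' i)
  have hQW : IsAlgSpace QW := AlgSpDec.isAlgSpace_of_representable hW νW hrep.rep
  obtain ⟨H, hH, hHu⟩ := existsUnique_desc_family hQW V m hm hmc h (by
    intro i j O x y hxy
    have hqxy : (yon S).map (x ≫ v i) ≫ q i = (yon S).map (y ≫ v j) ≫ q j := by
      rw [Functor.map_comp, Functor.map_comp, Category.assoc, Category.assoc, ← (sqV i).w, ← (sqV j).w,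
        ← Category.assoc, ← Category.assoc, hxy]
    let R := (hq i).rep.pullback (q j)
    let ri : R ⟶ T i := (hq i).rep.fst' (q j)
    let rj : R ⟶ T j := (hq i).rep.snd (q j)
    have sqR : IsPullback ((yon S).map ri) ((yon S).map rj) (q i) (q j) := (hq i).rep.isPullback' (q j)
    have : Etale ri.left := (hq j).2 _ _ _ sqR.flip
    have : Etale rj.left := (hq i).property_snd (q j)
    obtain ⟨c, hc₁, hc₂⟩ : ∃ c : O ⟶ R, c ≫ ri = x ≫ v i ∧ c ≫ rj = y ≫ v j :=
      ⟨(yon S).preimage (sqR.lift _ _ hqxy),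
        (yon S).map_injective (by rw [Functor.map_comp, Functor.map_preimage, sqR.lift_fst]),
        (yon S).map_injective (by rw [Functor.map_comp, Functor.map_preimage, sqR.lift_snd])⟩
    refine AlgSpDec.hom_ext_of_openCover ((R.left.openCoverOfIsOpenCover (fun K : R.left.affineOpens => K.1)
      (iSup_affineOpens_eq_top _)).pullback₁ c.left) _ _ fun K => ?_
    let RK : Over S := Over.mk (K.1.ι ≫ R.hom)
    let κ : RK ⟶ R := Over.homMk K.1.ι rfl
    have hK : IsAffine RK.left := K.2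
    have : Etale κ.left := inferInstanceAs (Etale K.1.ι)
    have hki : Etale (κ ≫ ri).left := by rw [Over.comp_left]; infer_instance
    let O₁ : Over S := Over.mk (pullback.fst c.left K.1.ι ≫ O.hom)
    let o : O₁ ⟶ O := Over.homMk (pullback.fst c.left K.1.ι) rfl
    let cK : O₁ ⟶ RK := Over.homMk (pullback.snd c.left K.1.ι) (by
      change pullback.snd c.left K.1.ι ≫ K.1.ι ≫ R.hom = pullback.fst _ _ ≫ O.hom
      rw [← Over.w c, pullback.condition_assoc])
    have hoc : o ≫ c = cK ≫ κ := Over.OverMorphism.ext pullback.condition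
    have hqq : (yon S).map (κ ≫ ri) ≫ q i = (yon S).map (κ ≫ rj) ≫ q j := by
      simp only [Functor.map_comp, Category.assoc, sqR.w]
    have sqK := IsPullback.of_hasPullback νW ((yon S).map (κ ≫ ri) ≫ q i)
    let di := (sqV i).lift (pullback.fst νW _) (pullback.snd νW _ ≫ (yon S).map (κ ≫ ri))
      (by rw [sqK.w, Category.assoc])
    let dj := (sqV j).lift (pullback.fst νW _) (pullback.snd νW _ ≫ (yon S).map (κ ≫ rj))
      (sqK.w.trans ((congrArg (pullback.snd νW _ ≫ ·) hqq).trans (Category.assoc _ _ _).symm))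
    obtain ⟨hK₀, -, hK'⟩ := hloc i (κ ≫ ri) hK hki _ _ sqK
    have hd : di ≫ h i = dj ≫ h j := by
      refine (hK' _ ⟨?_, ?_⟩).trans (hK' _ ⟨?_, ?_⟩).symm
      · rw [← Category.assoc]
        refine Eq.trans (congrArg (· ≫ h i) ((sqV i).hom_ext ?_ ?_ : _ = pullback.lift (pullback.fst fW _)
          (pullback.snd fW _ ≫ (yon S).map (κ ≫ ri)) (by
            rw [CategoryTheory.Functor.map_id, Category.id_comp, Category.assoc, pullback.condition]) ≫
          (sqV' i).lift (pullback.fst fW ((yon S).map (𝟙 (T i)) ≫ q i) ≫ fW') (pullback.snd fW _)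
            (by rw [Category.assoc, w₁, pullback.condition]))) ?_
        · simp [di]
        · simp [di]
        · rw [Category.assoc, (hh i).1, pullback.lift_fst_assoc]
      · rw [Category.assoc, (hh i).2, (sqV i).lift_fst_assoc]
      · rw [← Category.assoc]
        refine Eq.trans (congrArg (· ≫ h j) ((sqV j).hom_ext ?_ ?_ : _ = pullback.lift (pullback.fst fW _)
          (pullback.snd fW _ ≫ (yon S).map (κ ≫ rj)) (by
            rw [CategoryTheory.Functor.map_id, Category.id_comp, Category.assoc, ← hqq, pullback.condition]) ≫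
          (sqV' j).lift (pullback.fst fW ((yon S).map (𝟙 (T j)) ≫ q j) ≫ fW') (pullback.snd fW _)
            (by rw [Category.assoc, w₁, pullback.condition]))) ?_
        · simp [dj]
        · simp [dj]
        · rw [Category.assoc, (hh j).1, pullback.lift_fst_assoc]
      · rw [Category.assoc, (hh j).2, (sqV j).lift_fst_assoc]
    have hox : ((yon S).map (o ≫ x) ≫ m i) ≫ νW = (yon S).map cK ≫ (yon S).map (κ ≫ ri) ≫ q i := by
      rw [Category.assoc, (sqV i).w, ← Functor.map_comp_assoc, ← Functor.map_comp_assoc, Category.assoc o, ← hc₁,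
        ← Category.assoc o, hoc, Category.assoc]
    let l := pullback.lift _ _ hox
    have hli : l ≫ di = (yon S).map (o ≫ x) := (sqV i).hom_ext
      (by simp [l, di])
      (by simp only [l, di, Category.assoc, IsPullback.lift_snd, pullback.lift_snd_assoc, ← Functor.map_comp]
          rw [← hc₁, ← Category.assoc o, hoc, Category.assoc])
    have hlj : l ≫ dj = (yon S).map (o ≫ y) := (sqV j).hom_ext
      (by simp only [l, dj, Category.assoc, IsPullback.lift_fst, pullback.lift_fst, Functor.map_comp, hxy])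
      (by simp only [l, dj, Category.assoc, IsPullback.lift_snd, pullback.lift_snd_assoc, ← Functor.map_comp]
          rw [← hc₂, ← Category.assoc o, hoc, Category.assoc])
    change (yon S).map o ≫ (yon S).map x ≫ h i = (yon S).map o ≫ (yon S).map y ≫ h j
    rw [← Functor.map_comp_assoc, ← Functor.map_comp_assoc, ← hli, ← hlj, Category.assoc, Category.assoc, hd])
  have hm_ext : ∀ {G : Sp S} (g₁ g₂ : QW ⟶ G), (∀ i, m i ≫ g₁ = m i ≫ g₂) → g₁ = g₂ := by
    intro G g₁ g₂ hg'
    obtain ⟨p, hp, hpe, hps⟩ := exists_sigma_cover hQW V m hm hmc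
    have : Epi p := epi_of_etale_surjective hpe hps
    rw [← cancel_epi p]
    exact AlgSpDec.hom_ext_sigma V fun i => by rw [← Category.assoc, ← Category.assoc, hp, hg']
  refine ⟨H, ⟨hom_ext_over_family hW fW T q hq hc _ _ fun i => ?_, hm_ext _ _ fun i => ?_⟩, fun H' hH' => ?_⟩
  · have e := (hh i).1
    rw [← hH i, ← Category.assoc, (sqV' i).lift_fst, Category.assoc] at e
    have sqq : pullback.fst fW (q i) =
        pullback.lift (pullback.fst fW (q i)) (pullback.snd fW (q i)) (by
          rw [CategoryTheory.Functor.map_id, Category.id_comp, pullback.condition]) ≫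
          pullback.fst fW ((yon S).map (𝟙 (T i)) ≫ q i) := (pullback.lift_fst _ _ _).symm
    rw [sqq, Category.assoc, Category.assoc, e]
  · rw [← Category.assoc, hH, (hh i).2]
  · refine hm_ext _ _ fun i => ?_
    rw [hH]
    refine huniq i _ ⟨?_, by rw [Category.assoc, hH'.2]⟩
    rw [← Category.assoc, (sqV' i).lift_fst, Category.assoc, hH'.1]

end Groth.Agent.AlgSpOne
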