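import Groth.Agent.AlgSpOne.NormSheaf
import Groth.Agent.AlgSpOne.NormGlue
import Groth.Agent.AlgSpDec.AffineCheck
import Groth.Agent.AlgSpPts.FppfTarget

/-!
# Existence of relative normalization of algebraic spaces
-/

set_option autoImplicit false
set_option backward.isDefEq.respectTransparency false
set_option backward.isDefEq.respectTransparency.types false

universe u

open CategoryTheory CategoryTheory.Limits AlgebraicGeometry Opposite AlgSp Groth.Agent.AlgSpLib

namespace Groth.Agent.AlgSpOne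

variable {S : Scheme.{u}} {X : Sp S}

@[ext]
theorem NChart.Hom.ext' {c d : NChart X} {φ ψ : c.Hom d} (h : φ.k = ψ.k) : φ = ψ := by
  cases φ; cases ψ; cases h; rfl

theorem hom_ext_openCover' {O M : Over S} (𝒰 : Scheme.OpenCover.{u} O.left) (a b : O ⟶ M)
    (h : ∀ i, (Over.homMk (U := Over.mk (𝒰.f i ≫ O.hom)) (𝒰.f i) rfl : _ ⟶ O) ≫ a =
      (Over.homMk (U := Over.mk (𝒰.f i ≫ O.hom)) (𝒰.f i) rfl : _ ⟶ O) ≫ b) : a = b :=
  (yon S).map_injective (AlgSpDec.hom_ext_of_openCover 𝒰 _ _ fun i => by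
    rw [← Functor.map_comp, ← Functor.map_comp, h i])

variable {Y : Sp S} {f : Y ⟶ X} (H : NormHyp f)

theorem NormHyp.cmp_n {c d : NChart X} (φ : c.Hom d) : H.cmp φ ≫ H.n d = H.n c ≫ φ.k := (H.cmp_isPullback φ).w

/-- The value at the chart `d` of the point `π` of the normalization over the chart `c`. -/
def IsVal (c d : NChart X) {O' : Over S} (π : O' ⟶ H.N c) (x : O' ⟶ d.T) (s : O' ⟶ H.N d) : Prop :=
  ∀ ⦃O'' : Over S⦄ (l : O'' ⟶ O') (e : NChart X) (φc : e.Hom c) (φd : e.Hom d) (z : O'' ⟶ H.N e),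
    z ≫ H.cmp φc = l ≫ π → z ≫ H.n e ≫ φd.k = l ≫ x → l ≫ s = z ≫ H.cmp φd

theorem cover_common {c d : NChart X} {O' : Over S} (π : O' ⟶ H.N c) (x : O' ⟶ d.T)
    (h : (yon S).map π ≫ (yon S).map (H.n c) ≫ c.q = (yon S).map x ≫ d.q) :
    ∃ 𝒰 : Scheme.OpenCover.{u} O'.left, ∀ i, ∃ (e : NChart X) (φc : e.Hom c) (φd : e.Hom d)
      (z : Over.mk (𝒰.f i ≫ O'.hom) ⟶ H.N e),
      z ≫ H.cmp φc = (Over.homMk (𝒰.f i) rfl : Over.mk (𝒰.f i ≫ O'.hom) ⟶ O') ≫ π ∧
      z ≫ H.n e ≫ φd.k = (Over.homMk (𝒰.f i) rfl : Over.mk (𝒰.f i ≫ O'.hom) ⟶ O') ≫ x := by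
  let R := c.et.rep.pullback d.q
  let rc : R ⟶ c.T := c.et.rep.fst' d.q
  let rd : R ⟶ d.T := c.et.rep.snd d.q
  have sqR : IsPullback ((yon S).map rc) ((yon S).map rd) c.q d.q := c.et.rep.isPullback' d.q
  have : Etale rc.left := d.et.2 _ _ _ sqR.flip
  obtain ⟨r, hr₁, hr₂⟩ : ∃ r : O' ⟶ R, r ≫ rc = π ≫ H.n c ∧ r ≫ rd = x :=
    ⟨(yon S).preimage (sqR.lift ((yon S).map (π ≫ H.n c)) ((yon S).map x) (by rw [Functor.map_comp, Category.assoc]; exact h)),
      (yon S).map_injective (by rw [Functor.map_comp, Functor.map_preimage, sqR.lift_fst]),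
      (yon S).map_injective (by rw [Functor.map_comp, Functor.map_preimage, sqR.lift_snd])⟩
  let 𝒰 : Scheme.OpenCover.{u} R.left := Scheme.openCoverOfIsOpenCover R.left (fun K : R.left.affineOpens => K.1)
    (iSup_affineOpens_eq_top _)
  refine ⟨𝒰.pullback₁ r.left, fun K => ?_⟩
  let TK : Over S := Over.mk (K.1.ι ≫ R.hom)
  let κ : TK ⟶ R := Over.homMk K.1.ι rfl
  have : Etale κ.left := inferInstanceAs (Etale K.1.ι)
  have he : Etale (κ ≫ rc).left := by rw [Over.comp_left]; infer_instance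
  let e := c.restrict (κ ≫ rc) K.2 he
  let φd : e.Hom d := ⟨κ ≫ rd, by
    change (yon S).map (κ ≫ rd) ≫ d.q = (yon S).map (κ ≫ rc) ≫ c.q
    simp only [Functor.map_comp, Category.assoc, sqR.w]⟩
  let O₁ : Over S := Over.mk (pullback.fst r.left K.1.ι ≫ O'.hom)
  let o : O₁ ⟶ O' := Over.homMk (pullback.fst r.left K.1.ι) rfl
  let y : O₁ ⟶ TK := Over.homMk (pullback.snd r.left K.1.ι) (by
    change pullback.snd r.left K.1.ι ≫ K.1.ι ≫ R.hom = pullback.fst _ _ ≫ O'.hom
    rw [← Over.w r, pullback.condition_assoc])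
  have hy : o ≫ r = y ≫ κ := Over.OverMorphism.ext pullback.condition
  obtain ⟨z, hz₁, hz₂⟩ := (H.cmp_isPullback (c.restrictHom (κ ≫ rc) K.2 he)).exists_lift (o ≫ π) y
    (by
      change (o ≫ π) ≫ H.n c = y ≫ κ ≫ rc
      rw [Category.assoc, ← hr₁, ← Category.assoc o, hy, Category.assoc])
  refine ⟨e, c.restrictHom (κ ≫ rc) K.2 he, φd, z, hz₁, ?_⟩
  rw [← Category.assoc, hz₂]
  change y ≫ κ ≫ rd = o ≫ x
  rw [← hr₂, ← Category.assoc o, hy, Category.assoc]

theorem IsVal.unique {c d : NChart X} {O' : Over S} {π : O' ⟶ H.N c} {x : O' ⟶ d.T}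
    (h : (yon S).map π ≫ (yon S).map (H.n c) ≫ c.q = (yon S).map x ≫ d.q)
    {s s' : O' ⟶ H.N d} (hs : IsVal H c d π x s) (hs' : IsVal H c d π x s') : s = s' := by
  obtain ⟨𝒰, h𝒰⟩ := cover_common H π x h
  refine hom_ext_openCover' 𝒰 _ _ fun i => ?_
  obtain ⟨e, φc, φd, z, h1, h2⟩ := h𝒰 i
  rw [hs _ e φc φd z h1 h2, hs' _ e φc φd z h1 h2]

theorem val_congr {c d : NChart X} {O'' : Over S} {e e' : NChart X} (φc : e.Hom c) (φd : e.Hom d)
    (φc' : e'.Hom c) (φd' : e'.Hom d) (z : O'' ⟶ H.N e) (z' : O'' ⟶ H.N e')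
    (h₁ : z ≫ H.cmp φc = z' ≫ H.cmp φc') (h₂ : z ≫ H.n e ≫ φd.k = z' ≫ H.n e' ≫ φd'.k) :
    z ≫ H.cmp φd = z' ≫ H.cmp φd' := by
  let R := c.et.rep.pullback d.q
  let rc : R ⟶ c.T := c.et.rep.fst' d.q
  let rd : R ⟶ d.T := c.et.rep.snd d.q
  have sqR : IsPullback ((yon S).map rc) ((yon S).map rd) c.q d.q := c.et.rep.isPullback' d.q
  have : Etale rc.left := d.et.2 _ _ _ sqR.flip
  have hk : ∀ {g : NChart X} (ψc : g.Hom c) (ψd : g.Hom d),
      ∃ k : g.T ⟶ R, k ≫ rc = ψc.k ∧ k ≫ rd = ψd.k ∧ Etale k.left := fun {g} ψc ψd => by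
    obtain ⟨k, hk⟩ := (yon S).map_surjective (sqR.lift _ _ (ψc.w.trans ψd.w.symm))
    have hk₁ : k ≫ rc = ψc.k := (yon S).map_injective (by rw [Functor.map_comp, hk, sqR.lift_fst])
    refine ⟨k, hk₁, (yon S).map_injective (by rw [Functor.map_comp, hk, sqR.lift_snd]), ?_⟩
    have : Etale (k.left ≫ rc.left) := by rw [← Over.comp_left, hk₁]; exact ψc.etale
    exact Etale.of_comp k.left rc.left
  obtain ⟨k, hkc, hkd, _⟩ := hk φc φd
  obtain ⟨k', hkc', hkd', _⟩ := hk φc' φd'
  have hzz : (z ≫ H.n e) ≫ k = (z' ≫ H.n e') ≫ k' := (yon S).map_injective (sqR.hom_ext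
    (by
      rw [← Functor.map_comp, ← Functor.map_comp]
      congr 1
      simp only [Category.assoc, hkc, hkc', ← H.cmp_n]
      rw [reassoc_of% h₁])
    (by
      rw [← Functor.map_comp, ← Functor.map_comp]
      congr 1
      simp only [Category.assoc, hkd, hkd', h₂]))
  let P := pullback k k'
  have sqP : IsPullback (pullback.fst k k').left (pullback.snd k k').left k.left k'.left :=
    (IsPullback.of_hasPullback k k').map (Over.forget S)
  have : Etale (pullback.fst k k').left := MorphismProperty.of_isPullback (P := @Etale) sqP.flip ‹Etale k'.left›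
  let r : O'' ⟶ P := pullback.lift (z ≫ H.n e) (z' ≫ H.n e') hzz
  let 𝒰 : Scheme.OpenCover.{u} P.left := Scheme.openCoverOfIsOpenCover P.left (fun K : P.left.affineOpens => K.1)
    (iSup_affineOpens_eq_top _)
  refine hom_ext_openCover' (𝒰.pullback₁ r.left) _ _ fun K => ?_
  let TK : Over S := Over.mk (K.1.ι ≫ P.hom)
  let κ : TK ⟶ P := Over.homMk K.1.ι rfl
  have : Etale κ.left := inferInstanceAs (Etale K.1.ι)
  have he : Etale (κ ≫ pullback.fst k k').left := by rw [Over.comp_left]; infer_instance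
  let g := e.restrict (κ ≫ pullback.fst k k') K.2 he
  let ψ : g.Hom e := e.restrictHom (κ ≫ pullback.fst k k') K.2 he
  let ψ' : g.Hom e' := ⟨κ ≫ pullback.snd k k', by
    change (yon S).map (κ ≫ pullback.snd k k') ≫ e'.q = (yon S).map (κ ≫ pullback.fst k k') ≫ e.q
    rw [← φc'.w, ← φc.w, ← hkc, ← hkc', ← Functor.map_comp_assoc, ← Functor.map_comp_assoc]
    simp only [Category.assoc, pullback.condition_assoc]⟩
  let O₁ : Over S := Over.mk (pullback.fst r.left K.1.ι ≫ O''.hom)
  let o : O₁ ⟶ O'' := Over.homMk (pullback.fst r.left K.1.ι) rfl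
  let y : O₁ ⟶ TK := Over.homMk (pullback.snd r.left K.1.ι) (by
    change pullback.snd r.left K.1.ι ≫ K.1.ι ≫ P.hom = pullback.fst _ _ ≫ O''.hom
    rw [← Over.w r, pullback.condition_assoc])
  have hy : o ≫ r = y ≫ κ := Over.OverMorphism.ext pullback.condition
  have hy₁ : o ≫ z ≫ H.n e = y ≫ κ ≫ pullback.fst k k' := by
    rw [← reassoc_of% hy, pullback.lift_fst]
  have hy₂ : o ≫ z' ≫ H.n e' = y ≫ κ ≫ pullback.snd k k' := by
    rw [← reassoc_of% hy, pullback.lift_snd]
  obtain ⟨w, hw₁, hw₂⟩ := (H.cmp_isPullback ψ).exists_lift (o ≫ z) y (by rw [Category.assoc]; exact hy₁)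
  have hw₁' : w ≫ H.cmp ψ' = o ≫ z' := by
    obtain ⟨w', hw'₁, hw'₂⟩ := (H.cmp_isPullback ψ').exists_lift (o ≫ z') y (by rw [Category.assoc]; exact hy₂)
    have : w = w' := by
      refine (H.cmp_isPullback (ψ.comp φc)).hom_ext ?_ (hw₂.trans hw'₂.symm)
      have hc' : ψ.comp φc = ψ'.comp φc' := NChart.Hom.ext' (by
        change (κ ≫ pullback.fst k k') ≫ φc.k = (κ ≫ pullback.snd k k') ≫ φc'.k
        rw [← hkc, ← hkc']; simp only [Category.assoc, pullback.condition_assoc])
      rw [H.cmp_comp, reassoc_of% hw₁, ← H.cmp_comp, hc', H.cmp_comp, reassoc_of% hw'₁, h₁]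
    rw [this]; exact hw'₁
  have hd : ψ.comp φd = ψ'.comp φd' := NChart.Hom.ext' (by
    change (κ ≫ pullback.fst k k') ≫ φd.k = (κ ≫ pullback.snd k k') ≫ φd'.k
    rw [← hkd, ← hkd']; simp only [Category.assoc, pullback.condition_assoc])
  change o ≫ z ≫ H.cmp φd = o ≫ z' ≫ H.cmp φd'
  rw [← reassoc_of% hw₁, ← H.cmp_comp, hd, H.cmp_comp, reassoc_of% hw₁']

theorem exists_isVal {c d : NChart X} {O' : Over S} (π : O' ⟶ H.N c) (x : O' ⟶ d.T)
    (h : (yon S).map π ≫ (yon S).map (H.n c) ≫ c.q = (yon S).map x ≫ d.q) :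
    ∃ s, IsVal H c d π x s ∧ s ≫ H.n d = x := by
  let R : Sieve O' :=
    { arrows := fun O'' l => ∃ (e : NChart X) (φc : e.Hom c) (φd : e.Hom d) (z : O'' ⟶ H.N e),
        z ≫ H.cmp φc = l ≫ π ∧ z ≫ H.n e ≫ φd.k = l ≫ x
      downward_closed := by
        rintro O₂ O₁ l ⟨e, φc, φd, z, h1, h2⟩ g
        exact ⟨e, φc, φd, g ≫ z, by rw [Category.assoc, h1, Category.assoc],
          by rw [Category.assoc, h2, Category.assoc]⟩ }
  obtain ⟨𝒰, h𝒰⟩ := cover_common H π x h
  have hR : R ∈ J S O' := AlgSpDec.mem_J_of_openCover 𝒰 R h𝒰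
  obtain ⟨a, ha⟩ := exists_amalgam (F := (yon S).obj (H.N d)) hR
    (fun O'' l hl => (yon S).map (hl.choose_spec.choose_spec.choose_spec.choose ≫
      H.cmp hl.choose_spec.choose_spec.choose))
    (fun T₁ T₂ Z g₁ g₂ l₁ l₂ h₁ h₂ hg => by
      rw [← Functor.map_comp, ← Functor.map_comp]
      congr 1
      obtain ⟨a1, a2⟩ := h₁.choose_spec.choose_spec.choose_spec.choose_spec
      obtain ⟨b1, b2⟩ := h₂.choose_spec.choose_spec.choose_spec.choose_spec
      rw [← Category.assoc, ← Category.assoc g₂]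
      refine val_congr H h₁.choose_spec.choose h₁.choose_spec.choose_spec.choose h₂.choose_spec.choose
        h₂.choose_spec.choose_spec.choose _ _ ?_ ?_
      · rw [Category.assoc, a1, Category.assoc, b1, reassoc_of% hg]
      · rw [Category.assoc, a2, Category.assoc, b2, reassoc_of% hg])
  obtain ⟨s, rfl⟩ := (yon S).map_surjective a
  have hs : IsVal H c d π x s := fun O'' l e φc φd z h1 h2 => by
    have hl : R l := ⟨e, φc, φd, z, h1, h2⟩
    obtain ⟨a1, a2⟩ := hl.choose_spec.choose_spec.choose_spec.choose_spec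
    have e1 := (yon S).map_injective (((yon S).map_comp l s).trans (ha l hl))
    rw [e1]
    exact val_congr H _ _ _ _ _ _ (a1.trans h1.symm) (a2.trans h2.symm)
  refine ⟨s, hs, hom_ext_openCover' 𝒰 _ _ fun i => ?_⟩
  obtain ⟨e, φc, φd, z, h1, h2⟩ := h𝒰 i
  rw [← Category.assoc, hs _ e φc φd z h1 h2, Category.assoc, H.cmp_n, h2]

/-- The point of the normalization given by a chart. -/
noncomputable def chartPt (c : NChart X) : NPt H (H.N c) where
  ξ := (yon S).map (H.n c) ≫ c.q
  σ π d x h := (exists_isVal H π x h).choose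
  over_eq π d x h := (exists_isVal H π x h).choose_spec.2
  nat := fun {O' O''} l π d x h h' => by
    refine IsVal.unique H h' (exists_isVal H (l ≫ π) (l ≫ x) h').choose_spec.1 fun O₃ m e φc φd z h1 h2 => ?_
    rw [← Category.assoc]
    exact (exists_isVal H π x h).choose_spec.1 (m ≫ l) e φc φd z (by rw [h1, Category.assoc])
      (by rw [h2, Category.assoc])
  compat := fun {O'} π {d d'} φ x h h' => by
    obtain ⟨𝒰, h𝒰⟩ := cover_common H π x h
    refine hom_ext_openCover' 𝒰 _ _ fun i => ?_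
    obtain ⟨e, φc, φd, z, h1, h2⟩ := h𝒰 i
    rw [← Category.assoc, (exists_isVal H π x h).choose_spec.1 _ e φc φd z h1 h2, Category.assoc, ← H.cmp_comp,
      (exists_isVal H π (x ≫ φ.k) h').choose_spec.1 _ e φc (φd.comp φ) z h1 (by
        rw [← Category.assoc _ x, ← h2]
        simp only [Category.assoc]
        rfl)]

theorem isVal_chartPt (c : NChart X) {O' : Over S} (π : O' ⟶ H.N c) (d : NChart X) (x : O' ⟶ d.T)
    (h : (yon S).map π ≫ (chartPt H c).ξ = (yon S).map x ≫ d.q) : IsVal H c d π x ((chartPt H c).σ π d x h) :=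
  (exists_isVal H π x h).choose_spec.1

/-- The chart of the normalization. -/
noncomputable def chartMap (c : NChart X) : (yon S).obj (H.N c) ⟶ normSp H := nMk H (chartPt H c)

theorem chartMap_normMap (c : NChart X) : chartMap H c ≫ normMap H = (yon S).map (H.n c) ≫ c.q := by
  rw [← nPt_ξ, chartMap, nPt_nMk]
  rfl

theorem nPt_chartMap (c : NChart X) {O : Over S} (z : O ⟶ H.N c) :
    nPt H ((yon S).map z ≫ chartMap H c) = (chartPt H c).map H z := by
  rw [nPt_comp, chartMap, nPt_nMk]

theorem σ_chartMap_self (c : NChart X) {O : Over S} (z : O ⟶ H.N c)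
    (h : (yon S).map (𝟙 O) ≫ (nPt H ((yon S).map z ≫ chartMap H c)).ξ = (yon S).map (z ≫ H.n c) ≫ c.q) :
    (nPt H ((yon S).map z ≫ chartMap H c)).σ (𝟙 O) c (z ≫ H.n c) h = z := by
  rw [NPt.σ_congr H (nPt_chartMap H c z) (rfl : 𝟙 O = 𝟙 O) (rfl : z ≫ H.n c = _) h
    (by rw [← nPt_chartMap]; exact h)]
  have hv := isVal_chartPt H c (𝟙 O ≫ z) c (z ≫ H.n c) (by
    simp [chartPt, Functor.map_comp])
  have := hv (𝟙 O) c (NChart.Hom.id c) (NChart.Hom.id c) z (by rw [H.cmp_id]; simp) (by simp [NChart.Hom.id])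
  rw [H.cmp_id, Category.comp_id, Category.id_comp] at this
  exact this

theorem isPullback_chartMap (c : NChart X) :
    IsPullback (chartMap H c) ((yon S).map (H.n c)) (normMap H) c.q := by
  let k : (yon S).obj (H.N c) ⟶ pullback (normMap H) c.q :=
    pullback.lift (chartMap H c) ((yon S).map (H.n c)) (chartMap_normMap H c)
  have hm : Mono k := by
    refine mono_of_yon_injective fun O a b hab => ?_
    obtain ⟨a, rfl⟩ := (yon S).map_surjective a
    obtain ⟨b, rfl⟩ := (yon S).map_surjective b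
    have h1 : (yon S).map a ≫ chartMap H c = (yon S).map b ≫ chartMap H c := by
      simpa [k] using congrArg (· ≫ pullback.fst _ _) hab
    have h2 : a ≫ H.n c = b ≫ H.n c := (yon S).map_injective (by
      simpa [k] using congrArg (· ≫ pullback.snd _ _) hab)
    congr 1
    have ha : ∀ z : O ⟶ H.N c, (yon S).map (𝟙 O) ≫ (nPt H ((yon S).map z ≫ chartMap H c)).ξ =
        (yon S).map (z ≫ H.n c) ≫ c.q := fun z => by
      rw [nPt_ξ, Category.assoc, chartMap_normMap, Functor.map_comp, CategoryTheory.Functor.map_id,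
        Category.id_comp, Category.assoc]
    refine (σ_chartMap_self H c a (ha a)).symm.trans (Eq.trans ?_ (σ_chartMap_self H c b (ha b)))
    exact NPt.σ_congr H (congrArg (nPt H) h1) rfl h2 _ _
  have hs : Sheaf.IsLocallySurjective k := by
    refine isLocallySurjective_of_lifts k fun O l => ?_
    obtain ⟨x, hx⟩ := (yon S).map_surjective (l ≫ pullback.snd _ _)
    let g := l ≫ pullback.fst (normMap H) c.q
    have hgx : (yon S).map (𝟙 O) ≫ (nPt H g).ξ = (yon S).map x ≫ c.q := by
      rw [nPt_ξ, CategoryTheory.Functor.map_id, Category.id_comp, hx, Category.assoc, Category.assoc,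
        pullback.condition]
    let z := (nPt H g).σ (𝟙 O) c x hgx
    have hz : z ≫ H.n c = x := (nPt H g).over_eq _ _ _ _
    refine ⟨O, 𝟙 O, (yon S).map z, fppf_of_etale (𝟙 O.left), ?_⟩
    rw [CategoryTheory.Functor.map_id, Category.id_comp]
    refine pullback.hom_ext ?_ (by rw [Category.assoc, pullback.lift_snd, ← Functor.map_comp, hz, hx])
    rw [Category.assoc, pullback.lift_fst]
    refine nPt_injective H ?_
    rw [nPt_chartMap]
    refine NPt.ext' H ?_ fun {O'} π d x' h h' => ?_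
    · rw [nPt_ξ]
      change (yon S).map z ≫ (yon S).map (H.n c) ≫ c.q = g ≫ normMap H
      rw [← Functor.map_comp_assoc, hz, ← hgx, nPt_ξ, CategoryTheory.Functor.map_id, Category.id_comp]
    · change (chartPt H c).σ (π ≫ z) d x' (by rw [Functor.map_comp, Category.assoc]; exact h) = (nPt H g).σ π d x' h'
      refine IsVal.unique H ?_ (isVal_chartPt H c (π ≫ z) d x' (by rw [Functor.map_comp, Category.assoc]; exact h)) fun O'' m e φc φd w h1 h2 => ?_
      · rw [← h', nPt_ξ, Functor.map_comp, Category.assoc, ← (yon S).map_comp_assoc z, hz, ← hgx, nPt_ξ,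
          CategoryTheory.Functor.map_id, Category.id_comp]
      have hwn : w ≫ H.n e ≫ φc.k = m ≫ π ≫ x := by
        rw [← H.cmp_n, reassoc_of% h1, hz]
      have hmx : (yon S).map (m ≫ π) ≫ (nPt H g).ξ = (yon S).map (w ≫ H.n e) ≫ e.q := by
        rw [Functor.map_comp _ m, Category.assoc, h', ← Functor.map_comp_assoc, ← h2, ← φd.w,
          ← Functor.map_comp_assoc, Category.assoc]
      have hwe : (nPt H g).σ (m ≫ π) e (w ≫ H.n e) hmx = w := by
        refine (H.cmp_isPullback φc).hom_ext ?_ ((nPt H g).over_eq _ _ _ _)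
        rw [← (nPt H g).compat _ φc _ _ (by rw [hmx, ← φc.w, ← Functor.map_comp_assoc]), h1,
          ← Category.assoc m]
        refine Eq.trans ?_ ((nPt H g).nat (m ≫ π) (𝟙 O) c x hgx (by
            rw [Category.comp_id, hmx, ← φc.w, ← Functor.map_comp_assoc, Category.assoc w, hwn, Category.assoc]))
        exact NPt.σ_congr H rfl (Category.comp_id _).symm (by rw [Category.assoc, hwn, Category.assoc]) _ _
      rw [← (nPt H g).nat m π d x' h' (by rw [Functor.map_comp, Functor.map_comp, Category.assoc, Category.assoc, h']),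
        ← hwe, ← (nPt H g).compat _ φd _ hmx (by rw [hmx, ← φd.w, ← Functor.map_comp_assoc])]
      exact NPt.σ_congr H rfl rfl (by rw [Category.assoc, h2]) _ _
  have := isIso_of_mono_of_locallySurjective k
  exact IsPullback.of_iso_pullback ⟨chartMap_normMap H c⟩ (asIso k) (pullback.lift_fst _ _ _) (pullback.lift_snd _ _ _)

/-- The point of the normalization given by a point of the source. -/
noncomputable def srcPt {O : Over S} (y : (yon S).obj O ⟶ Y) : NPt H O where
  ξ := y ≫ f
  σ {O'} π d x h := (yon S).preimage (pullback.lift ((yon S).map π ≫ y)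
    ((yon S).map x) (by rw [Category.assoc]; exact h) ≫ H.f' d)
  over_eq {O'} π d x h := (yon S).map_injective (by
    rw [Functor.map_comp, Functor.map_preimage, Category.assoc, H.f'_n, pullback.lift_snd])
  nat := fun {O' O''} l π d x h h' => (yon S).map_injective (by
    simp only [Functor.map_comp, Functor.map_preimage]
    refine Eq.trans ?_ (Category.assoc _ _ _)
    congr 1
    apply pullback.hom_ext <;> simp)
  compat := fun {O'} π {d d'} φ x h h' => (yon S).map_injective (by
    simp only [Functor.map_comp, Functor.map_preimage]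
    refine Eq.trans ?_ ((congrArg (_ ≫ ·) (H.f'_cmp φ)).symm.trans (Category.assoc _ _ _).symm)
    refine Eq.trans ?_ (Category.assoc _ _ _)
    congr 1
    apply pullback.hom_ext <;> simp)

theorem srcPt_comp {O O' : Over S} (φ : O' ⟶ O) (y : (yon S).obj O ⟶ Y) :
    srcPt H ((yon S).map φ ≫ y) = (srcPt H y).map H φ := by
  refine NPt.ext' H (Category.assoc _ _ _) fun {O''} π d x h h' => (yon S).map_injective ?_
  change (yon S).map ((yon S).preimage _) = (yon S).map ((yon S).preimage _)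
  rw [Functor.map_preimage, Functor.map_preimage]
  simp only [Functor.map_comp, Category.assoc]

/-- The map from the source to the normalization. -/
noncomputable def toNorm : Y ⟶ normSp H :=
  ObjectProperty.homMk
    { app := fun O => ↾ fun y => srcPt H ((J S).uliftYonedaEquiv.symm y : (yon S).obj O.unop ⟶ Y)
      naturality := fun O O' φ => by
        apply ConcreteCategory.hom_ext
        intro y
        have e : (J S).uliftYonedaEquiv.symm (Y.obj.map φ y) =
            (yon S).map φ.unop ≫ (J S).uliftYonedaEquiv.symm y := (J S).uliftYonedaEquiv.injective (by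
          rw [Equiv.apply_symm_apply, ← uliftYonedaEquiv_precomp φ.unop, Equiv.apply_symm_apply]
          rfl)
        exact (congrArg (srcPt H) e).trans (srcPt_comp H φ.unop _) }

theorem toNorm_normMap : toNorm H ≫ normMap H = f := by
  refine Sheaf.hom_ext (NatTrans.ext (funext fun O => ConcreteCategory.hom_ext _ _ fun y => ?_))
  obtain ⟨O⟩ := O
  change (J S).uliftYonedaEquiv (((J S).uliftYonedaEquiv.symm y : (yon S).obj O ⟶ Y) ≫ f) = _
  rw [GrothendieckTopology.uliftYonedaEquiv_comp, Equiv.apply_symm_apply]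

theorem nPt_comp_toNorm {O : Over S} (y : (yon S).obj O ⟶ Y) {O' : Over S} (π : O' ⟶ O) (d : NChart X)
    (x : O' ⟶ d.T) (h : (yon S).map π ≫ (nPt H (y ≫ toNorm H)).ξ = (yon S).map x ≫ d.q)
    (h' : ((yon S).map π ≫ y) ≫ f = (yon S).map x ≫ d.q) :
    (yon S).map ((nPt H (y ≫ toNorm H)).σ π d x h) = pullback.lift ((yon S).map π ≫ y) ((yon S).map x) h' ≫ H.f' d := by
  obtain ⟨v, rfl⟩ := (J S).uliftYonedaEquiv.symm.surjective y
  have e : nPt H ((J S).uliftYonedaEquiv.symm v ≫ toNorm H) = (toNorm H).hom.app (op O) v := by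
    change (J S).uliftYonedaEquiv _ = _
    rw [GrothendieckTopology.uliftYonedaEquiv_comp, Equiv.apply_symm_apply]
  rw [NPt.σ_congr H e rfl rfl h (by rw [← e]; exact h)]
  change (yon S).map ((yon S).preimage _) = _
  rw [Functor.map_preimage]

theorem f'_chartMap (c : NChart X) : H.f' c ≫ chartMap H c = pullback.fst f c.q ≫ toNorm H := by
  refine Sheaf.hom_ext (NatTrans.ext (funext fun O => ConcreteCategory.hom_ext _ _ fun y₀ => ?_))
  obtain ⟨O⟩ := O
  suffices hs : ∀ y : (yon S).obj O ⟶ pullback f c.q, (y ≫ H.f' c) ≫ chartMap H c =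
      (y ≫ pullback.fst f c.q) ≫ toNorm H by
    have := congrArg (J S).uliftYonedaEquiv (hs ((J S).uliftYonedaEquiv.symm y₀))
    simp only [GrothendieckTopology.uliftYonedaEquiv_comp, Equiv.apply_symm_apply] at this
    exact this
  intro y
  obtain ⟨z, hz⟩ := (yon S).map_surjective (y ≫ H.f' c)
  rw [← hz]
  refine nPt_injective H ?_
  rw [nPt_chartMap]
  have hξ : (nPt H ((y ≫ pullback.fst f c.q) ≫ toNorm H)).ξ = (y ≫ pullback.fst f c.q) ≫ f := by
    rw [nPt_ξ, Category.assoc (y ≫ _), toNorm_normMap]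
  refine NPt.ext' H ?_ fun {O'} π d x h h' => ?_
  · rw [hξ]
    change (yon S).map z ≫ (yon S).map (H.n c) ≫ c.q = _
    rw [← Category.assoc, hz, Category.assoc y, H.f'_n, Category.assoc, ← pullback.condition, Category.assoc]
  · change (chartPt H c).σ (π ≫ z) d x (by rw [Functor.map_comp, Category.assoc]; exact h) = _
    refine IsVal.unique H ?_ (isVal_chartPt H c (π ≫ z) d x (by rw [Functor.map_comp, Category.assoc]; exact h)) fun O'' m e φc φd w h1 h2 => ?_
    · have h₀ : (yon S).map π ≫ (yon S).map z ≫ (yon S).map (H.n c) ≫ c.q = (yon S).map x ≫ d.q := h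
      simpa only [Functor.map_comp, Category.assoc] using h₀
    have h'' : ((yon S).map π ≫ y ≫ pullback.fst f c.q) ≫ f = (yon S).map x ≫ d.q := by
      rw [Category.assoc, ← h', hξ]
    refine (yon S).map_injective ?_
    rw [Functor.map_comp, nPt_comp_toNorm H (y ≫ pullback.fst f c.q) π d x h' h'']
    let u : (yon S).obj O'' ⟶ pullback f e.q := pullback.lift ((yon S).map (m ≫ π) ≫ y ≫ pullback.fst f c.q)
      ((yon S).map (w ≫ H.n e)) (by
        rw [Category.assoc, Functor.map_comp _ m, Category.assoc, ← Category.assoc ((yon S).map π), h'',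
          ← Functor.map_comp_assoc, ← h2, ← φd.w, ← Functor.map_comp_assoc, Category.assoc])
    have hu : u ≫ H.f' e = (yon S).map w := by
      refine ((H.cmp_isPullback φc).map (yon S)).hom_ext ?_ ?_
      · rw [Category.assoc, H.f'_cmp, ← Functor.map_comp, h1]
        simp only [Functor.map_comp]
        rw [hz, ← Category.assoc u]
        rw [← Category.assoc ((yon S).map π), ← Category.assoc ((yon S).map m)]
        congr 1
        apply pullback.hom_ext
        · simp [u]
        · simp only [u, Category.assoc, pullback.lift_snd, pullback.lift_snd_assoc, ← Functor.map_comp]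
          rw [← H.cmp_n, reassoc_of% h1, Functor.map_comp, Functor.map_comp, Functor.map_comp,
            hz, Category.assoc, H.f'_n]
      · rw [Category.assoc, H.f'_n, pullback.lift_snd, Functor.map_comp]
    rw [Functor.map_comp, ← hu, Category.assoc, H.f'_cmp, ← Category.assoc u, ← Category.assoc ((yon S).map m)]
    congr 1
    apply pullback.hom_ext
    · simp [u]
    · simp only [u, Category.assoc, pullback.lift_snd, pullback.lift_snd_assoc, ← Functor.map_comp]
      rw [h2]

theorem isIntegralMor_normMap : IsIntegralMor (normMap H) := by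
  have haff : IsAffineMor (normMap H) :=
    AlgSpDec.isAffineMor_of_affine_etale H.target fun V hV b hb P fst snd sq =>
      ⟨H.N ⟨V, hV, b, hb⟩, H.affine_N _, ⟨(isPullback_chartMap H ⟨V, hV, b, hb⟩).isoIsPullback _ _ sq⟩⟩
  have hr := AlgSpDec.representable_of_isAffineMor haff
  obtain ⟨U, p, hpe, hps⟩ := H.target.atlas
  have := EtFound.fpqc_isIntegralHom.{u}
  have := AlgSpPts.isLocalAtTarget_fppf (@IsIntegralHom : MorphismProperty Scheme.{u})
  have := isLocallySurjective_of_etale_surjective hpe hps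
  refine AlgSpDec.isIntegralMor_iff_repWith.2
    (AlgSpPts.repWith_of_locallySurjective hr p (hr.isPullback p) _ ((repWith_yon_map_iff _ _).2 ?_))
  let snd := hr.snd p
  change IsIntegralHom snd.left
  rw [IsZariskiLocalAtTarget.iff_of_iSup_eq_top (P := @IsIntegralHom) (fun K : U.left.affineOpens => K.1)
    (iSup_affineOpens_eq_top _)]
  intro K
  let TU : Over S := Over.mk (K.1.ι ≫ U.hom)
  let inc : TU ⟶ U := Over.homMk K.1.ι rfl
  let WU : Over S := Over.mk ((snd.left ⁻¹ᵁ K.1).ι ≫ (hr.pullback p).hom)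
  let r : WU ⟶ TU := Over.homMk (snd.left ∣_ K.1) (by
    change _ ≫ K.1.ι ≫ U.hom = _ ≫ (hr.pullback p).hom
    rw [← Category.assoc, (isPullback_morphismRestrict snd.left K.1).w, Category.assoc, Over.w snd])
  let k : WU ⟶ hr.pullback p := Over.homMk (snd.left ⁻¹ᵁ K.1).ι rfl
  have sqk : IsPullback k r snd inc :=
    IsPullback.of_map (Over.forget S) (Over.OverMorphism.ext (isPullback_morphismRestrict snd.left K.1).w.symm)
      (isPullback_morphismRestrict snd.left K.1).flip
  let c : NChart X := ⟨TU, K.2, (yon S).map inc ≫ p,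
    repWith_comp ((repWith_yon_map_iff _ inc).2 (inferInstanceAs (Etale K.1.ι))) hpe⟩
  have sq₁ : IsPullback ((yon S).map k ≫ hr.fst p) ((yon S).map r) (normMap H) c.q :=
    (sqk.map (yon S)).paste_horiz (hr.isPullback p)
  let e := sq₁.isoIsPullback _ _ (isPullback_chartMap H c)
  let e' : WU ≅ H.N c := (yon S).preimageIso e
  have he : e'.hom ≫ H.n c = r := (yon S).map_injective (by
    rw [Functor.map_comp]
    simp only [e', Functor.preimageIso_hom, Functor.map_preimage]
    exact sq₁.isoIsPullback_hom_snd _ _ (isPullback_chartMap H c))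
  change IsIntegralHom r.left
  rw [← he, Over.comp_left]
  exact (MorphismProperty.cancel_left_of_respectsIso @IsIntegralHom e'.hom.left (H.n c).left).2 (H.integral_n c)

theorem isAlgSpace_normSp : IsAlgSpace (normSp H) :=
  AlgSpDec.isAlgSpace_of_representable H.target (normMap H)
    (AlgSpDec.isIntegralMor_iff_repWith.1 (isIntegralMor_normMap H)).rep

/-- The universal property holds on every affine scheme etale over the target. -/
theorem isNormGood_chart (c : NChart X) : IsNormGood f (normMap H) (toNorm H) c.q := by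
  have h := IsNormGood.of_baseChange (IsPullback.of_hasPullback f c.q) (isPullback_chartMap H c) (H.f'_n c)
    (f'_chartMap H c) (𝟙 c.T) (H.good c (𝟙 _) c.aff (inferInstanceAs (Smooth (𝟙 c.T.left))))
  exact h.congr (by rw [CategoryTheory.Functor.map_id, Category.id_comp])

/-- The universal property after an etale base change. -/
theorem isRelNormalization_normMap_baseChange {W PW QW : Sp S} (hW : IsAlgSpace W) {w : W ⟶ X}
    (hw : IsEtaleMor w) {a : PW ⟶ Y} {fW : PW ⟶ W} {b : QW ⟶ normSp H} {νW : QW ⟶ W} {fW' : PW ⟶ QW}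
    (sqP : IsPullback a fW f w) (sqQ : IsPullback b νW (normMap H) w) (w₁ : fW' ≫ νW = fW)
    (w₂ : fW' ≫ b = a ≫ toNorm H) : IsRelNormalization fW νW fW' := by
  obtain ⟨U, p, hpe, hps⟩ := hW.atlas
  let T : U.left.affineOpens → Over S := fun K => Over.mk (K.1.ι ≫ U.hom)
  let inc : ∀ K, T K ⟶ U := fun K => Over.homMk K.1.ι rfl
  refine isRelNormalization_of_family hW (isIntegralMor_normMap H) sqP sqQ w₁ w₂ T
    (fun K => (yon S).map (inc K) ≫ p) (fun K => K.2)
    (fun K => repWith_comp ((repWith_yon_map_iff _ (inc K)).2 (inferInstanceAs (Etale K.1.ι))) hpe)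
    (fun x => ?_) fun K T' k hT' hk => ?_
  · obtain ⟨t, rfl⟩ := surjective_ofPt hps x
    obtain ⟨V, hV, htV, -⟩ := exists_isAffineOpen_mem_and_subset (U := (⊤ : U.left.Opens)) (x := t) trivial
    exact ⟨⟨V, hV⟩, ⟨t, htV⟩, by rw [ofPt_comp]; rfl⟩
  · have he : RepWith @Etale (((yon S).map k ≫ (yon S).map (inc K) ≫ p) ≫ w) := by
      refine repWith_of_locP H.target (representable_from_yon' H.target _) ?_
      refine locP_comp (IsAlgSpace.yon_obj _) hW H.target (locP_of_repWith ?_) (locP_etale_of_isEtaleMor hw)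
      exact repWith_comp ((repWith_yon_map_iff _ k).2 hk)
        (repWith_comp ((repWith_yon_map_iff _ (inc K)).2 (inferInstanceAs (Etale K.1.ι))) hpe)
    exact (isNormGood_chart H ⟨T', hT', _, he⟩).congr (by simp only [Category.assoc])

end Groth.Agent.AlgSpOne
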