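import Groth.Agent.AlgSpOne.NormCodim
import Groth.Agent.S0566
import Groth.Agent.S0573
import Mathlib.AlgebraicGeometry.Morphisms.Finite

/-!
# Finiteness of relative normalizations over Nagata spaces
-/

set_option autoImplicit false
set_option backward.isDefEq.respectTransparency false
set_option backward.isDefEq.respectTransparency.types false

universe u

open CategoryTheory CategoryTheory.Limits AlgebraicGeometry AlgSp Groth.Agent.AlgSpLib

namespace Groth.Agent.AlgSpOne

variable {S : Scheme.{u}} {X Y : Sp S} {f : Y ⟶ X} (H : NormHyp f)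

/-- A property local on the target holds for the normalization when it holds over the charts of an atlas. -/
theorem repWith_normMap_of_atlas {P : MorphismProperty Scheme.{u}} [P.IsStableUnderBaseChange]
    [IsZariskiLocalAtTarget P] [P.IsLocalAtTarget Scheme.fppfPrecoverage] {U : Over S}
    {p : (yon S).obj U ⟶ X} (hpe : RepWith @Etale p) (hps : RepWith @Surjective p)
    (h : ∀ (K : U.left.affineOpens) (c : NChart X), c.T = Over.mk (K.1.ι ≫ U.hom) → P (H.n c).left) :
    RepWith P (normMap H) := by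
  have hr : Representable (normMap H) := (AlgSpDec.isIntegralMor_iff_repWith.1 (isIntegralMor_normMap H)).rep
  have := isLocallySurjective_of_etale_surjective hpe hps
  refine AlgSpPts.repWith_of_locallySurjective hr p (hr.isPullback p) _ ((repWith_yon_map_iff _ _).2 ?_)
  let snd := hr.snd p
  change P snd.left
  rw [IsZariskiLocalAtTarget.iff_of_iSup_eq_top (P := P) (fun K : U.left.affineOpens => K.1)
    (iSup_affineOpens_eq_top _)]
  intro K
  let TU : Over S := Over.mk (K.1.ι ≫ U.hom)
  let inc : TU ⟶ U := Over.homMk K.1.ι rfl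
  let WU : Over S := Over.mk ((snd.left ⁻¹ᵁ K.1).ι ≫ (hr.pullback p).hom)
  let r : WU ⟶ TU := Over.homMk (snd.left ∣_ K.1) (by
    change _ ≫ K.1.ι ≫ U.hom = _ ≫ (hr.pullback p).hom
    rw [← Category.assoc, (isPullback_morphismRestrict snd.left K.1).w, Category.assoc, Over.w snd])
  let k : WU ⟶ hr.pullback p := Over.homMk (snd.left ⁻¹ᵁ K.1).ι rfl
  have sqk : IsPullback k r snd inc :=
    IsPullback.of_map (Over.forget S) (Over.OverMorphism.ext (isPullback_morphismRestrict snd.left K.1).w.symm)
      (isPullback_morphismRestrict snd.left K.1).flip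
  let c : NChart X := ⟨TU, K.2, (yon S).map inc ≫ p,
    repWith_comp ((repWith_yon_map_iff _ inc).2 (inferInstanceAs (Etale K.1.ι))) hpe⟩
  have sq₁ : IsPullback ((yon S).map k ≫ hr.fst p) ((yon S).map r) (normMap H) c.q :=
    (sqk.map (yon S)).paste_horiz (hr.isPullback p)
  let e' : WU ≅ H.N c := (yon S).preimageIso (sq₁.isoIsPullback _ _ (isPullback_chartMap H c))
  have he : e'.hom ≫ H.n c = r := (yon S).map_injective (by
    rw [Functor.map_comp]
    simp only [e', Functor.preimageIso_hom, Functor.map_preimage]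
    exact sq₁.isoIsPullback_hom_snd _ _ (isPullback_chartMap H c))
  change P r.left
  rw [← he, Over.comp_left]
  exact (P.cancel_left_of_respectsIso e'.hom.left (H.n c).left).2 (h K c rfl)

theorem isNagata_of_ringEquiv {R R' : Type u} [CommRing R] [CommRing R'] (e : R ≃+* R') (h : CAlg.IsNagata R) :
    CAlg.IsNagata R' := by
  let _ : Algebra R R' := e.toRingHom.toAlgebra
  have : Algebra.FiniteType R R' := Algebra.FiniteType.of_surjective (Algebra.ofId R R') e.surjective
  exact S0566.result R h R'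

/-- Over a Nagata chart the normalization of a reduced source of finite type is finite. -/
theorem isFinite_n (hft : LocP @LocallyOfFiniteType f) (hred : IsReducedSp Y) (c : NChart X)
    (hc : CAlg.IsNagata Γ(c.T.left, ⊤)) : IsFinite (H.n c).left := by
  have := c.aff
  have := H.affine_N c
  have := H.integral_n c
  have hP : IsAlgSpace (pullback f c.q) := isAlgSpace_pullback H.source (IsAlgSpace.yon_obj _) H.target f c.q
  have hPqc : IsQuasiCompactSp (pullback f c.q) :=
    AlgSpPts.isQuasiCompactMor_of_isPullback (IsPullback.of_hasPullback f c.q) H.qc (IsAlgSpace.yon_obj _)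
      AlgSpVal.isQuasiCompactSp_yon (𝟙 _) (𝟙 _) (pullback.snd f c.q) (IsPullback.of_horiz_isIso ⟨by simp⟩)
  obtain ⟨W, b, hW, hbe, hbs⟩ := AlgSpLib.CartierRegular.exists_affine_atlas hP hPqc
  obtain ⟨γ, hγ⟩ := (yon S).map_surjective (b ≫ H.f' c)
  have hinj := injective_appTop_of_f' H c hW hbe hbs γ hγ
  have hb' : RepWith @Etale (b ≫ pullback.fst f c.q) :=
    repWith_comp hbe (repWith_of_isPullback (IsPullback.of_hasPullback f c.q).flip c.et)
  have : LocallyOfFiniteType (γ ≫ H.n c).left := hft (b ≫ pullback.fst f c.q) c.q (γ ≫ H.n c) hb' c.et (by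
    rw [Functor.map_comp, hγ, Category.assoc, Category.assoc, Category.assoc, pullback.condition,
      reassoc_of% (H.f'_n c)])
  have : IsReduced W.left := WeakAssUnit.isReduced_chart hred _ hb'
  let R := Γ(c.T.left, ⊤)
  let _ : Algebra Γ(c.T.left, ⊤) Γ(W.left, ⊤) := (γ ≫ H.n c).left.appTop.hom.toAlgebra
  let _ : Algebra Γ(c.T.left, ⊤) Γ((H.N c).left, ⊤) := (H.n c).left.appTop.hom.toAlgebra
  have : Algebra.FiniteType Γ(c.T.left, ⊤) Γ(W.left, ⊤) :=
    HasRingHomProperty.appTop (P := @LocallyOfFiniteType) _ ‹_›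
  have : _root_.IsReduced Γ(W.left, ⊤) := inferInstance
  have hfin : Module.Finite Γ(c.T.left, ⊤) (integralClosure Γ(c.T.left, ⊤) Γ(W.left, ⊤)) :=
    S0573.result _ hc _
  have : IsNoetherianRing Γ(c.T.left, ⊤) := hc.1
  have hint := ((HasAffineProperty.iff_of_isAffine (P := @IsIntegralHom)).1 (H.integral_n c)).2
  let g : Γ((H.N c).left, ⊤) →ₐ[Γ(c.T.left, ⊤)] Γ(W.left, ⊤) :=
    { γ.left.appTop.hom with commutes' := fun _ => rfl }
  let g' : Γ((H.N c).left, ⊤) →ₐ[Γ(c.T.left, ⊤)] integralClosure Γ(c.T.left, ⊤) Γ(W.left, ⊤) :=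
    g.codRestrict _ fun x => (show IsIntegral Γ(c.T.left, ⊤) x from hint x).map g
  have : Module.Finite Γ(c.T.left, ⊤) Γ((H.N c).left, ⊤) :=
    Module.Finite.of_injective g'.toLinearMap fun x y hxy => hinj (congrArg Subtype.val hxy)
  exact (HasAffineProperty.iff_of_isAffine (P := @IsFinite)).2 ⟨inferInstance, this⟩

/-- Over a Nagata space the normalization of a reduced source of finite type is finite. -/
theorem isFiniteMor_normMap (hft : LocP @LocallyOfFiniteType f) (hred : IsReducedSp Y)
    (hX : EtaleLocally (fun U => ∀ V : U.Opens, IsAffineOpen V → CAlg.IsNagata ↑Γ(U, V)) X) :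
    IsFiniteMor (normMap H) := by
  obtain ⟨U, p, hpe, hps, hU⟩ := hX
  have := EtFound.fpqc_isFinite.{u}
  have := AlgSpPts.isLocalAtTarget_fppf (@IsFinite : MorphismProperty Scheme.{u})
  refine AlgSpDec.isFiniteMor_iff_repWith.2 (repWith_normMap_of_atlas H hpe hps fun K c hc => isFinite_n H hft hred c ?_)
  obtain ⟨T, hT, q, hq⟩ := c
  subst hc
  exact isNagata_of_ringEquiv K.1.topIso.commRingCatIsoToRingEquiv.symm (hU K.1 K.2)

theorem isFiniteMor_of_iso_comp {F F' G : Sp S} (e : F ≅ F') {g : F' ⟶ G} (h : IsFiniteMor g) :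
    IsFiniteMor (e.hom ≫ g) :=
  AlgSpDec.isFiniteMor_iff_repWith.2
    (MorphismProperty.RespectsIso.precomp _ e.hom g (AlgSpDec.isFiniteMor_iff_repWith.1 h))

end Groth.Agent.AlgSpOne
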