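import Groth.Agent.AlgSpOne.NormChart
import Groth.Agent.AlgSpDec.Glue

/-!
# The sheaf of compatible points of the normalizations over affine etale charts
-/

set_option autoImplicit false
set_option backward.isDefEq.respectTransparency false
set_option backward.isDefEq.respectTransparency.types false

universe u

open CategoryTheory CategoryTheory.Limits AlgebraicGeometry Opposite AlgSp Groth.Agent.AlgSpLib

namespace Groth.Agent.AlgSpOne

variable {S : Scheme.{u}}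

/-- Amalgamation for a sheaf, for maps from schemes. -/
theorem exists_amalgam {F : Sp S} {T : Over S} {R : Sieve T} (hR : R ∈ J S T)
    (x : ∀ ⦃T' : Over S⦄ (l : T' ⟶ T), R l → ((yon S).obj T' ⟶ F))
    (hx : ∀ ⦃T₁ T₂ Z : Over S⦄ (g₁ : Z ⟶ T₁) (g₂ : Z ⟶ T₂) (l₁ : T₁ ⟶ T) (l₂ : T₂ ⟶ T) (h₁ : R l₁) (h₂ : R l₂),
      g₁ ≫ l₁ = g₂ ≫ l₂ → (yon S).map g₁ ≫ x l₁ h₁ = (yon S).map g₂ ≫ x l₂ h₂) :
    ∃ a : (yon S).obj T ⟶ F, ∀ ⦃T' : Over S⦄ (l : T' ⟶ T) (h : R l), (yon S).map l ≫ a = x l h := by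
  obtain ⟨a, ha, -⟩ := ((isSheaf_iff_isSheaf_of_type _ _).1 F.property) R hR
    (fun T' l h => (J S).uliftYonedaEquiv (x l h)) (fun Y₁ Y₂ Z g₁ g₂ l₁ l₂ h₁ h₂ hg => by
      rw [uliftYonedaEquiv_precomp, uliftYonedaEquiv_precomp, hx g₁ g₂ l₁ l₂ h₁ h₂ hg])
  refine ⟨(J S).uliftYonedaEquiv.symm a, fun T' l h => (J S).uliftYonedaEquiv.injective ?_⟩
  rw [← uliftYonedaEquiv_precomp, Equiv.apply_symm_apply]
  exact ha l h

variable {X Y : Sp S} {f : Y ⟶ X} (H : NormHyp f)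

/-- A point of the normalization. -/
@[ext]
structure NPt (O : Over S) : Type (u + 1) where
  /-- the point of the target -/
  ξ : (yon S).obj O ⟶ X
  /-- the lifts over all charts -/
  σ : ∀ {O' : Over S} (π : O' ⟶ O) (c : NChart X) (x : O' ⟶ c.T),
    (yon S).map π ≫ ξ = (yon S).map x ≫ c.q → (O' ⟶ H.N c)
  over_eq : ∀ {O' : Over S} (π : O' ⟶ O) (c : NChart X) (x : O' ⟶ c.T)
    (h : (yon S).map π ≫ ξ = (yon S).map x ≫ c.q), σ π c x h ≫ H.n c = x
  nat : ∀ {O' O'' : Over S} (l : O'' ⟶ O') (π : O' ⟶ O) (c : NChart X) (x : O' ⟶ c.T)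
    (h : (yon S).map π ≫ ξ = (yon S).map x ≫ c.q)
    (h' : (yon S).map (l ≫ π) ≫ ξ = (yon S).map (l ≫ x) ≫ c.q), σ (l ≫ π) c (l ≫ x) h' = l ≫ σ π c x h
  compat : ∀ {O' : Over S} (π : O' ⟶ O) {c d : NChart X} (φ : c.Hom d) (x : O' ⟶ c.T)
    (h : (yon S).map π ≫ ξ = (yon S).map x ≫ c.q) (h' : (yon S).map π ≫ ξ = (yon S).map (x ≫ φ.k) ≫ d.q),
    σ π d (x ≫ φ.k) h' = σ π c x h ≫ H.cmp φ

theorem NPt.σ_congr {O : Over S} {p q : NPt H O} (hpq : p = q) {O' : Over S} {π π' : O' ⟶ O} (hπ : π = π')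
    {c : NChart X} {x x' : O' ⟶ c.T} (hx : x = x') (h : (yon S).map π ≫ p.ξ = (yon S).map x ≫ c.q)
    (h' : (yon S).map π' ≫ q.ξ = (yon S).map x' ≫ c.q) : p.σ π c x h = q.σ π' c x' h' := by
  subst hpq hπ hx; rfl

theorem NPt.ext' {O : Over S} {p q : NPt H O} (hξ : p.ξ = q.ξ)
    (hσ : ∀ {O' : Over S} (π : O' ⟶ O) (c : NChart X) (x : O' ⟶ c.T)
      (h : (yon S).map π ≫ p.ξ = (yon S).map x ≫ c.q) (h' : (yon S).map π ≫ q.ξ = (yon S).map x ≫ c.q),
      p.σ π c x h = q.σ π c x h') : p = q := by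
  obtain ⟨ξ, σ, h1, h2, h3⟩ := p
  obtain ⟨ξ', σ', h1', h2', h3'⟩ := q
  obtain rfl : ξ = ξ' := hξ
  obtain rfl : @σ = @σ' := by
    funext O' π c x h
    exact hσ π c x h h
  rfl

/-- Restriction of points. -/
noncomputable def NPt.map {O O₂ : Over S} (φ : O₂ ⟶ O) (p : NPt H O) : NPt H O₂ where
  ξ := (yon S).map φ ≫ p.ξ
  σ π c x h := p.σ (π ≫ φ) c x (by rw [Functor.map_comp, Category.assoc]; exact h)
  over_eq π c x h := p.over_eq _ c x _
  nat l π c x h h' := by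
    rw [← p.nat l (π ≫ φ) c x _ (by rw [← Category.assoc, Functor.map_comp, Category.assoc]; exact h')]
    exact NPt.σ_congr H rfl (Category.assoc _ _ _) rfl _ _
  compat := fun {O'} π {c d} φ' x h h' => p.compat _ φ' x _ _

/-- The presheaf of compatible points. -/
noncomputable def nPre : (Over S)ᵒᵖ ⥤ Type (u + 1) where
  obj O := NPt H O.unop
  map φ := ↾ fun p => p.map H φ.unop
  map_id O := by
    apply ConcreteCategory.hom_ext
    intro p
    refine NPt.ext' H ?_ fun π c x h h' => NPt.σ_congr H rfl (Category.comp_id π) rfl _ _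
    exact (congrArg (· ≫ p.ξ) ((yon S).map_id _)).trans (Category.id_comp _)
  map_comp φ ψ := by
    apply ConcreteCategory.hom_ext
    intro p
    refine NPt.ext' H ?_ fun π c x h h' => NPt.σ_congr H rfl (Category.assoc π _ _).symm rfl _ _
    exact (congrArg (· ≫ p.ξ) ((yon S).map_comp _ _)).trans (Category.assoc _ _ _)

theorem isSheaf_nPre : Presheaf.IsSheaf (J S) (nPre H) := by
  rw [isSheaf_iff_isSheaf_of_type]
  intro O R hR
  rw [← Presieve.isSeparatedFor_and_exists_isAmalgamation_iff_isSheafFor]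
  refine ⟨fun z p q hp hq => ?_, fun p hp => ?_⟩
  · have e : ∀ ⦃O'⦄ (l : O' ⟶ O) (hl : R l), p.map H l = q.map H l := fun O' l hl => (hp l hl).trans (hq l hl).symm
    refine NPt.ext' H (hom_ext_of_covering _ _ hR fun O' l hl => congrArg NPt.ξ (e l hl)) fun π c x h h' => ?_
    refine (yon S).map_injective (hom_ext_of_covering _ _ ((J S).pullback_stable π hR) fun O'' l hl => ?_)
    rw [← Functor.map_comp, ← Functor.map_comp, ← p.nat l π c x h (by
        rw [Functor.map_comp, Functor.map_comp, Category.assoc, Category.assoc, h]),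
      ← q.nat l π c x h' (by rw [Functor.map_comp, Functor.map_comp, Category.assoc, Category.assoc, h'])]
    congr 1
    have hh : (yon S).map (𝟙 O'') ≫ (p.map H (l ≫ π)).ξ = (yon S).map (l ≫ x) ≫ c.q := by
      change (yon S).map (𝟙 O'') ≫ (yon S).map (l ≫ π) ≫ p.ξ = _
      rw [← Functor.map_comp_assoc, Category.id_comp, Functor.map_comp, Functor.map_comp, Category.assoc,
        Category.assoc, h]
    have := NPt.σ_congr H (e (l ≫ π) hl) (rfl : 𝟙 O'' = 𝟙 O'') (rfl : l ≫ x = l ≫ x) hh (by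
      rw [← e (l ≫ π) hl]; exact hh)
    exact (NPt.σ_congr H rfl (Category.id_comp _).symm rfl _ _).trans
      (this.trans (NPt.σ_congr H rfl (Category.id_comp _) rfl _ _))
  · have hp' : ∀ ⦃O₁ O₂ Z : Over S⦄ (g₁ : Z ⟶ O₁) (g₂ : Z ⟶ O₂) (l₁ : O₁ ⟶ O) (l₂ : O₂ ⟶ O) (h₁ : R l₁)
        (h₂ : R l₂), g₁ ≫ l₁ = g₂ ≫ l₂ → (p l₁ h₁).map H g₁ = (p l₂ h₂).map H g₂ :=
      fun O₁ O₂ Z g₁ g₂ l₁ l₂ h₁ h₂ h => hp g₁ g₂ h₁ h₂ h
    obtain ⟨ξ, hξ⟩ := exists_amalgam hR (fun O' l hl => (p l hl).ξ)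
      (fun O₁ O₂ Z g₁ g₂ l₁ l₂ h₁ h₂ hg => congrArg NPt.ξ (hp' g₁ g₂ l₁ l₂ h₁ h₂ hg))
    have hid : ∀ {O' O'' : Over S} (π : O' ⟶ O) (c : NChart X) (x : O' ⟶ c.T),
        (yon S).map π ≫ ξ = (yon S).map x ≫ c.q → ∀ (l : O'' ⟶ O') (hl : R (l ≫ π)),
        (yon S).map (𝟙 O'') ≫ (p (l ≫ π) hl).ξ = (yon S).map (l ≫ x) ≫ c.q := by
      intro O' O'' π c x h l hl
      rw [← hξ (l ≫ π) hl, CategoryTheory.Functor.map_id, Category.id_comp, Functor.map_comp, Functor.map_comp,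
        Category.assoc, Category.assoc, h]
    have hex : ∀ {O' : Over S} (π : O' ⟶ O) (c : NChart X) (x : O' ⟶ c.T)
        (h : (yon S).map π ≫ ξ = (yon S).map x ≫ c.q), ∃ s : O' ⟶ H.N c, ∀ ⦃O'' : Over S⦄ (l : O'' ⟶ O')
          (hl : R (l ≫ π)), l ≫ s = (p (l ≫ π) hl).σ (𝟙 _) c (l ≫ x) (hid π c x h l hl) := by
      intro O' π c x h
      obtain ⟨a, ha⟩ := exists_amalgam (F := (yon S).obj (H.N c)) ((J S).pullback_stable π hR)
        (fun O'' l hl => (yon S).map ((p (l ≫ π) hl).σ (𝟙 _) c (l ≫ x) (hid π c x h l hl)))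
        (fun T₁ T₂ Z g₁ g₂ l₁ l₂ h₁ h₂ hg => by
          have e := hp' g₁ g₂ (l₁ ≫ π) (l₂ ≫ π) h₁ h₂ (by rw [reassoc_of% hg])
          have hz : (yon S).map (𝟙 Z) ≫ ((p (l₁ ≫ π) h₁).map H g₁).ξ = (yon S).map ((g₁ ≫ l₁) ≫ x) ≫ c.q := by
            change (yon S).map (𝟙 Z) ≫ (yon S).map g₁ ≫ (p (l₁ ≫ π) h₁).ξ = _
            rw [← hξ (l₁ ≫ π) h₁]
            simp only [Functor.map_comp, Category.assoc, CategoryTheory.Functor.map_id, Category.id_comp, h]
          rw [← Functor.map_comp, ← Functor.map_comp, ← (p (l₁ ≫ π) h₁).nat g₁ (𝟙 _) c (l₁ ≫ x) _ (by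
              have := hid π c x h l₁ h₁
              simp only [Functor.map_comp, Category.assoc, CategoryTheory.Functor.map_id, Category.id_comp] at this ⊢
              rw [this]),
            ← (p (l₂ ≫ π) h₂).nat g₂ (𝟙 _) c (l₂ ≫ x) _ (by
              have := hid π c x h l₂ h₂
              simp only [Functor.map_comp, Category.assoc, CategoryTheory.Functor.map_id, Category.id_comp] at this ⊢
              rw [this])]
          congr 1
          exact (NPt.σ_congr H rfl (by simp : g₁ ≫ 𝟙 _ = 𝟙 Z ≫ g₁) (Category.assoc _ _ _).symm _ _).trans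
            ((NPt.σ_congr H e (rfl : 𝟙 Z = 𝟙 Z) (rfl : (g₁ ≫ l₁) ≫ x = _) hz (by rw [← e]; exact hz)).trans
              (NPt.σ_congr H rfl (by simp : 𝟙 Z ≫ g₂ = g₂ ≫ 𝟙 _) (by rw [hg, Category.assoc]) _ _)))
      obtain ⟨s, rfl⟩ := (yon S).map_surjective a
      exact ⟨s, fun O'' l hl => (yon S).map_injective (by rw [Functor.map_comp]; exact ha l hl)⟩
    choose s hs using @hex
    have hext : ∀ {O' : Over S} (π : O' ⟶ O) {M : Over S} (u v : O' ⟶ M),
        (∀ ⦃O'' : Over S⦄ (l : O'' ⟶ O'), R (l ≫ π) → l ≫ u = l ≫ v) → u = v := fun π M u v h =>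
      (yon S).map_injective (hom_ext_of_covering _ _ ((J S).pullback_stable π hR) fun O'' l hl => by
        rw [← Functor.map_comp, ← Functor.map_comp, h l hl])
    refine ⟨{ ξ := ξ, σ := fun π c x h => s π c x h, over_eq := ?_, nat := ?_, compat := ?_ }, fun O' l hl => ?_⟩
    · intro O' π c x h
      refine hext π _ _ fun O'' l hl => ?_
      rw [← Category.assoc, hs π c x h l hl, NPt.over_eq]
    · intro O' O'' l π c x h h'
      refine hext (l ≫ π) _ _ fun O₃ m hm => ?_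
      rw [hs _ _ _ _ m hm]
      refine Eq.trans ?_ ((hs π c x h (m ≫ l) (by rwa [Category.assoc])).symm.trans (Category.assoc _ _ _))
      have e := hp' (𝟙 O₃) (𝟙 O₃) (m ≫ l ≫ π) ((m ≫ l) ≫ π) hm (by rwa [Category.assoc]) (by simp)
      have hz : (yon S).map (𝟙 O₃) ≫ ((p (m ≫ l ≫ π) hm).map H (𝟙 O₃)).ξ = (yon S).map (m ≫ l ≫ x) ≫ c.q := by
        change (yon S).map (𝟙 O₃) ≫ (yon S).map (𝟙 O₃) ≫ (p (m ≫ l ≫ π) hm).ξ = _
        rw [← hξ _ hm]
        simp only [Functor.map_comp, Category.assoc, CategoryTheory.Functor.map_id, Category.id_comp, h]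
      exact (NPt.σ_congr H rfl (Category.id_comp _).symm rfl _ _).trans
        ((NPt.σ_congr H e (rfl : 𝟙 O₃ = 𝟙 O₃) (rfl : m ≫ l ≫ x = _) hz (by rw [← e]; exact hz)).trans
          (NPt.σ_congr H rfl (Category.id_comp _) (Category.assoc _ _ _).symm _ _))
    · intro O' π c d φ x h h'
      refine hext π _ _ fun O'' l hl => ?_
      rw [← Category.assoc, hs π c x h l hl, hs π d (x ≫ φ.k) h' l hl, ← NPt.compat _ _ φ _ _ (by
        have := hid π d (x ≫ φ.k) h' l hl; rwa [← Category.assoc] at this)]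
      exact NPt.σ_congr H rfl rfl (Category.assoc _ _ _).symm _ _
    · refine NPt.ext' H (hξ l hl) fun π c x h h' => ?_
      change s (π ≫ l) c x _ = _
      refine hext (π ≫ l) _ _ fun O'' m hm => ?_
      rw [hs _ _ _ _ m hm]
      have e := hp' (𝟙 O'') (m ≫ π) (m ≫ π ≫ l) l hm hl (by simp)
      have hz : (yon S).map (𝟙 O'') ≫ ((p (m ≫ π ≫ l) hm).map H (𝟙 O'')).ξ = (yon S).map (m ≫ x) ≫ c.q := by
        change (yon S).map (𝟙 O'') ≫ (yon S).map (𝟙 O'') ≫ (p (m ≫ π ≫ l) hm).ξ = _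
        rw [← hξ _ hm]
        simp only [Functor.map_comp, Category.assoc, CategoryTheory.Functor.map_id, Category.id_comp]
        rw [← h', ← hξ l hl]
      rw [← (p l hl).nat m π c x h' (by
        rw [Functor.map_comp, Functor.map_comp, Category.assoc, Category.assoc, h'])]
      exact (NPt.σ_congr H rfl (Category.id_comp _).symm rfl _ _).trans
        ((NPt.σ_congr H e (rfl : 𝟙 O'' = 𝟙 O'') (rfl : m ≫ x = _) hz (by rw [← e]; exact hz)).trans
          (NPt.σ_congr H rfl (Category.id_comp _) rfl _ _))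

/-- The normalization sheaf. -/
noncomputable def normSp : Sp S := ⟨nPre H, isSheaf_nPre H⟩

/-- A point of the normalization as a map. -/
noncomputable def nMk {O : Over S} (p : NPt H O) : (yon S).obj O ⟶ normSp H := (J S).uliftYonedaEquiv.symm p

/-- The point of a map. -/
noncomputable def nPt {O : Over S} (g : (yon S).obj O ⟶ normSp H) : NPt H O := (J S).uliftYonedaEquiv g

theorem nPt_nMk {O : Over S} (p : NPt H O) : nPt H (nMk H p) = p := Equiv.apply_symm_apply _ _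

theorem nPt_comp {O O₂ : Over S} (φ : O₂ ⟶ O) (g : (yon S).obj O ⟶ normSp H) :
    nPt H ((yon S).map φ ≫ g) = (nPt H g).map H φ :=
  (uliftYonedaEquiv_precomp φ g).symm

theorem nPt_injective {O : Over S} {g g' : (yon S).obj O ⟶ normSp H} (h : nPt H g = nPt H g') : g = g' :=
  (J S).uliftYonedaEquiv.injective h

/-- The structure map of the normalization. -/
noncomputable def normMap : normSp H ⟶ X :=
  ObjectProperty.homMk
    { app := fun O => ↾ fun p => (J S).uliftYonedaEquiv (NPt.ξ (O := O.unop) p)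
      naturality := fun O O' φ => by
        apply ConcreteCategory.hom_ext
        intro p
        exact (uliftYonedaEquiv_precomp φ.unop (NPt.ξ (O := O.unop) p)).symm }

theorem nPt_ξ {O : Over S} (g : (yon S).obj O ⟶ normSp H) : (nPt H g).ξ = g ≫ normMap H :=
  (J S).uliftYonedaEquiv.injective (by
    rw [GrothendieckTopology.uliftYonedaEquiv_comp]
    rfl)

end Groth.Agent.AlgSpOne
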