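import Groth.Agent.AlgSpOne.NormExists

/-!
# Uniqueness of relative normalizations and etale base change
-/

set_option autoImplicit false
set_option backward.isDefEq.respectTransparency false
set_option backward.isDefEq.respectTransparency.types false

universe u

open CategoryTheory CategoryTheory.Limits AlgebraicGeometry AlgSp Groth.Agent.AlgSpLib

namespace Groth.Agent.AlgSpOne

variable {S : Scheme.{u}} {X Y : Sp S} {f : Y ⟶ X}

theorem isEtaleMor_id (X : Sp S) : IsEtaleMor (𝟙 X) := fun U φ hφ => by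
  rw [Category.comp_id]; exact hφ

/-- The constructed normalization is a relative normalization. -/
theorem isRelNormalization_normMap (H : NormHyp f) : IsRelNormalization f (normMap H) (toNorm H) :=
  isRelNormalization_normMap_baseChange H H.target (isEtaleMor_id X) (IsPullback.id_vert f).flip
    (IsPullback.id_vert (normMap H)).flip (toNorm_normMap H) (by rw [Category.comp_id, Category.id_comp])

/-- Relative normalizations are unique. -/
theorem exists_iso_of_isRelNormalization {X' X'' : Sp S} (h' : IsAlgSpace X') (h'' : IsAlgSpace X'')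
    {ν : X' ⟶ X} {f' : Y ⟶ X'} {ν₂ : X'' ⟶ X} {f₂ : Y ⟶ X''}
    (hn : IsRelNormalization f ν f') (hn₂ : IsRelNormalization f ν₂ f₂) :
    ∃ e : X' ≅ X'', f' ≫ e.hom = f₂ ∧ e.hom ≫ ν₂ = ν := by
  obtain ⟨a, ⟨a₁, a₂⟩, -⟩ := hn.2.2 h'' ν₂ f₂ hn₂.2.1 hn₂.1
  obtain ⟨b, ⟨b₁, b₂⟩, -⟩ := hn₂.2.2 h' ν f' hn.2.1 hn.1
  obtain ⟨i, -, hi⟩ := hn.2.2 h' ν f' hn.2.1 hn.1
  obtain ⟨j, -, hj⟩ := hn₂.2.2 h'' ν₂ f₂ hn₂.2.1 hn₂.1
  refine ⟨⟨a, b, (hi _ ⟨by rw [reassoc_of% a₁, b₁], by rw [Category.assoc, b₂, a₂]⟩).trans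
    (hi _ ⟨Category.comp_id _, Category.id_comp _⟩).symm,
    (hj _ ⟨by rw [reassoc_of% b₁, a₁], by rw [Category.assoc, a₂, b₂]⟩).trans
    (hj _ ⟨Category.comp_id _, Category.id_comp _⟩).symm⟩, a₁, a₂⟩

/-- Relative normalization commutes with etale base change. -/
theorem isRelNormalization_etale_baseChange (H : NormHyp f) {X' W PW QW : Sp S} (hX' : IsAlgSpace X')
    {ν : X' ⟶ X} {f' : Y ⟶ X'} (hn : IsRelNormalization f ν f') (hW : IsAlgSpace W) {w : W ⟶ X}
    (hw : IsEtaleMor w) {a : PW ⟶ Y} {fW : PW ⟶ W} {b : QW ⟶ X'} {νW : QW ⟶ W} {fW' : PW ⟶ QW}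
    (sqP : IsPullback a fW f w) (sqQ : IsPullback b νW ν w) (w₁ : fW' ≫ νW = fW)
    (w₂ : fW' ≫ b = a ≫ f') : IsRelNormalization fW νW fW' := by
  obtain ⟨e, e₁, e₂⟩ := exists_iso_of_isRelNormalization hX' (isAlgSpace_normSp H) hn (isRelNormalization_normMap H)
  refine isRelNormalization_normMap_baseChange H hW hw sqP (b := b ≫ e.hom) ?_ w₁ ?_
  · exact sqQ.of_iso (Iso.refl _) e (Iso.refl _) (Iso.refl _) (by simp) (by simp) (by simpa using e₂.symm) (by simp)
  · rw [reassoc_of% w₂, e₁]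

end Groth.Agent.AlgSpOne
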