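import Groth.Agent.AlgSpOne.NormFinite
import Groth.Agent.AlgSpDec.LqfScheme
import Groth.Agent.AlgSpLib.AffineDescProps
import Mathlib.AlgebraicGeometry.ZariskisMainTheorem
import Mathlib.AlgebraicGeometry.Morphisms.FlatDescent

/-!
# Zariski's main theorem for relative normalizations
-/

set_option autoImplicit false
set_option backward.isDefEq.respectTransparency false
set_option backward.isDefEq.respectTransparency.types false

universe u

open CategoryTheory CategoryTheory.Limits AlgebraicGeometry AlgSp Groth.Agent.AlgSpLib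

namespace Groth.Agent.AlgSpOne

variable {S : Scheme.{u}} {X Y : Sp S} {f : Y ⟶ X} (H : NormHyp f)

/-- A representing scheme of a quasi-finite separated space over a chart maps by a quasi-compact open
immersion to the normalization. -/
theorem openImmersion_chart (hqf : LocP (@LocallyQuasiFinite ⊓ @LocallyOfFiniteType) f)
    (hsep : IsSeparatedMor f) (c : NChart X) {Q : Over S} (e : (yon S).obj Q ≅ pullback f c.q) (γ : Q ⟶ H.N c)
    (hγ : (yon S).map γ = e.hom ≫ H.f' c) : IsOpenImmersion γ.left ∧ QuasiCompact γ.left := by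
  have := c.aff
  have := H.affine_N c
  have := H.integral_n c
  let q : Q ⟶ c.T := γ ≫ H.n c
  have hq : (yon S).map q = e.hom ≫ pullback.snd f c.q := by
    rw [Functor.map_comp, hγ, Category.assoc, H.f'_n]
  have sqQ : IsPullback (e.hom ≫ pullback.fst f c.q) ((yon S).map q) f c.q :=
    (IsPullback.of_hasPullback f c.q).of_iso e.symm (Iso.refl _) (Iso.refl _) (Iso.refl _) (by simp) (by simp [hq])
      (by simp) (by simp)
  have hrep := repWith_of_locP H.target (AlgSpDec.representable_of_lqf_separated H.source H.target f hqf hsep) hqf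
  obtain ⟨_, _⟩ : (@LocallyQuasiFinite ⊓ @LocallyOfFiniteType) q.left := hrep.2 _ _ _ sqQ
  have : IsSeparated q.left := (isSeparatedMor_yon_map_iff q).1 (AlgSpPts.isSeparatedMor_of_isPullback sqQ hsep)
  have hQc : CompactSpace Q.left := by
    have h := H.qc (IsAlgSpace.yon_obj _) AlgSpVal.isQuasiCompactSp_yon c.q _ _ sqQ
    have := (AlgSpPts.isQuasiCompactSp_iff (IsAlgSpace.yon_obj Q)).1 h
    exact (Points.schemeHomeo Q).symm.compactSpace
  have : QuasiCompact q.left :=
    (HasAffineProperty.iff_of_isAffine (P := @QuasiCompact)).2 hQc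
  let N' : Over S := Over.mk (q.left.fromNormalization ≫ c.T.hom)
  let n' : N' ⟶ c.T := Over.homMk q.left.fromNormalization rfl
  let t : Q ⟶ N' := Over.homMk q.left.toNormalization (by
    change q.left.toNormalization ≫ q.left.fromNormalization ≫ c.T.hom = Q.hom
    rw [← Category.assoc, Scheme.Hom.toNormalization_fromNormalization, Over.w q])
  have htn : t ≫ n' = q := Over.OverMorphism.ext q.left.toNormalization_fromNormalization
  have hn' : IsIntegralHom n'.left := inferInstanceAs (IsIntegralHom q.left.fromNormalization)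
  obtain ⟨h, ⟨h1, h2⟩, -⟩ := H.up_self c n' hn' (e.inv ≫ (yon S).map t) (by
    rw [Category.assoc, ← Functor.map_comp, htn, hq, e.inv_hom_id_assoc])
  obtain ⟨i, -, hi⟩ := H.up_self c (H.n c) (H.integral_n c) (H.f' c) (H.f'_n c)
  obtain ⟨h, rfl⟩ := (yon S).map_surjective h
  have hq' : q.left = γ.left ≫ (H.n c).left := rfl
  let d : N' ⟶ H.N c := Over.homMk (q.left.normalizationDesc γ.left (H.n c).left hq') (by
    change _ ≫ (H.N c).hom = q.left.fromNormalization ≫ c.T.hom
    rw [← Over.w (H.n c), ← Category.assoc, q.left.normalizationDesc_comp γ.left (H.n c).left hq'])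
  have hdn : d ≫ H.n c = n' := Over.OverMorphism.ext (q.left.normalizationDesc_comp γ.left (H.n c).left hq')
  have htd : t ≫ d = γ := Over.OverMorphism.ext (q.left.toNormalization_normalizationDesc γ.left (H.n c).left hq')
  have e₁ : h ≫ d = 𝟙 _ := (yon S).map_injective
    ((hi _ ⟨by rw [Functor.map_comp, reassoc_of% h1, ← Functor.map_comp, htd, hγ, e.inv_hom_id_assoc],
        by rw [← Functor.map_comp, Category.assoc, hdn, Functor.map_comp, h2]⟩).trans
      (hi _ ⟨by rw [CategoryTheory.Functor.map_id, Category.comp_id],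
        by rw [CategoryTheory.Functor.map_id, Category.id_comp]⟩).symm)
  have ht : γ ≫ h = t := (yon S).map_injective (by
    rw [Functor.map_comp, hγ, Category.assoc, h1, e.hom_inv_id_assoc])
  have hhn : h ≫ n' = H.n c := (yon S).map_injective (by rw [Functor.map_comp, h2])
  have hdl : d.left ≫ h.left ≫ q.left.fromNormalization = q.left.fromNormalization := by
    have := congrArg CommaMorphism.left (show d ≫ h ≫ n' = n' by rw [hhn, hdn])
    exact this
  have e₂ : d.left ≫ h.left = 𝟙 _ := by
    refine Scheme.Hom.normalization.hom_ext _ _ _ q.left.fromNormalization ?_ (by rw [Category.assoc]; exact hdl)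
      (Category.id_comp _)
    refine Eq.trans ?_ (Category.comp_id _).symm
    rw [← Category.assoc]
    exact congrArg CommaMorphism.left (show (t ≫ d) ≫ h = t by rw [htd, ht])
  have : IsIso d.left := ⟨h.left, e₂, congrArg CommaMorphism.left e₁⟩
  rw [← htd, Over.comp_left]
  change IsOpenImmersion (q.left.toNormalization ≫ d.left) ∧ QuasiCompact (q.left.toNormalization ≫ d.left)
  exact ⟨inferInstance, inferInstance⟩

/-- The map to the normalization of a quasi-finite separated morphism is a quasi-compact open immersion. -/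
theorem repWith_toNorm {P : MorphismProperty Scheme.{u}} [P.IsStableUnderBaseChange]
    [IsZariskiLocalAtTarget P] [P.IsLocalAtTarget Scheme.fppfPrecoverage]
    (hqf : LocP (@LocallyQuasiFinite ⊓ @LocallyOfFiniteType) f) (hsep : IsSeparatedMor f)
    (hP : ∀ {A B : Scheme.{u}} (g : A ⟶ B), IsOpenImmersion g → QuasiCompact g → P g) :
    RepWith P (toNorm H) := by
  have hrf := AlgSpDec.representable_of_lqf_separated H.source H.target f hqf hsep
  have hr : Representable (toNorm H) :=
    AlgSpLib.representable_of_comp (isAlgSpace_normSp H) _ (normMap H) (by rw [toNorm_normMap]; exact hrf)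
  obtain ⟨U, p, hpe, hps⟩ := H.target.atlas
  have := isLocallySurjective_of_etale_surjective hpe hps
  have hν := (AlgSpDec.isIntegralMor_iff_repWith.1 (isIntegralMor_normMap H)).rep
  have sqM := hν.isPullback p
  let M := hν.pullback p
  let m : (yon S).obj M ⟶ normSp H := hν.fst p
  have hm : RepWith @Etale m := repWith_of_isPullback sqM.flip hpe
  have hms : RepWith @Surjective m := repWith_of_isPullback sqM.flip hps
  have := isLocallySurjective_of_etale_surjective hm hms
  refine AlgSpPts.repWith_of_locallySurjective hr m (hr.isPullback m) _ ((repWith_yon_map_iff _ _).2 ?_)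
  let ψ := hr.snd m
  let sn := hν.snd p
  change P ψ.left
  rw [IsZariskiLocalAtTarget.iff_of_iSup_eq_top (P := P) (fun K : U.left.affineOpens => sn.left ⁻¹ᵁ K.1)
    ((Scheme.Hom.preimage_iSup _ _).symm.trans (by rw [iSup_affineOpens_eq_top]; rfl))]
  intro K
  let TU : Over S := Over.mk (K.1.ι ≫ U.hom)
  let inc : TU ⟶ U := Over.homMk K.1.ι rfl
  let WU : Over S := Over.mk ((sn.left ⁻¹ᵁ K.1).ι ≫ M.hom)
  let r : WU ⟶ TU := Over.homMk (sn.left ∣_ K.1) (by
    change _ ≫ K.1.ι ≫ U.hom = _ ≫ M.hom
    rw [← Category.assoc, (isPullback_morphismRestrict sn.left K.1).w, Category.assoc, Over.w sn])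
  let k : WU ⟶ M := Over.homMk (sn.left ⁻¹ᵁ K.1).ι rfl
  have sqk : IsPullback k r sn inc :=
    IsPullback.of_map (Over.forget S) (Over.OverMorphism.ext (isPullback_morphismRestrict sn.left K.1).w.symm)
      (isPullback_morphismRestrict sn.left K.1).flip
  let c : NChart X := ⟨TU, K.2, (yon S).map inc ≫ p,
    repWith_comp ((repWith_yon_map_iff _ inc).2 (inferInstanceAs (Etale K.1.ι))) hpe⟩
  let V : Over S := Over.mk ((ψ.left ⁻¹ᵁ (sn.left ⁻¹ᵁ K.1)).ι ≫ (hr.pullback m).hom)
  let j : V ⟶ hr.pullback m := Over.homMk (ψ.left ⁻¹ᵁ (sn.left ⁻¹ᵁ K.1)).ι rfl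
  let s : V ⟶ WU := Over.homMk (ψ.left ∣_ (sn.left ⁻¹ᵁ K.1)) (by
    change _ ≫ (sn.left ⁻¹ᵁ K.1).ι ≫ M.hom = _ ≫ (hr.pullback m).hom
    rw [← Category.assoc, (isPullback_morphismRestrict ψ.left _).w, Category.assoc, Over.w ψ])
  have sqj : IsPullback j s ψ k :=
    IsPullback.of_map (Over.forget S) (Over.OverMorphism.ext (isPullback_morphismRestrict ψ.left _).w.symm)
      (isPullback_morphismRestrict ψ.left _).flip
  have sq₁ : IsPullback ((yon S).map k ≫ m) ((yon S).map r) (normMap H) c.q :=
    (sqk.map (yon S)).paste_horiz sqM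
  let e' : WU ≅ H.N c := (yon S).preimageIso (sq₁.isoIsPullback _ _ (isPullback_chartMap H c))
  have he : (yon S).map e'.hom ≫ chartMap H c = (yon S).map k ≫ m := by
    simp only [e', Functor.preimageIso_hom, Functor.map_preimage]
    exact sq₁.isoIsPullback_hom_fst _ _ _
  have sq₂ : IsPullback ((yon S).map j ≫ hr.fst m) ((yon S).map (s ≫ e'.hom)) (toNorm H) (chartMap H c) :=
    ((sqj.map (yon S)).paste_horiz (hr.isPullback m)).of_iso (Iso.refl _) (Iso.refl _) ((yon S).mapIso e') (Iso.refl _)
      (by simp) (by simp) (by simp) (by simpa using he.symm)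
  have sq₃ : IsPullback (pullback.fst f c.q) (H.f' c) (toNorm H) (chartMap H c) :=
    IsPullback.of_bot (by rw [toNorm_normMap, H.f'_n]; exact IsPullback.of_hasPullback f c.q)
      (f'_chartMap H c).symm (isPullback_chartMap H c)
  let e : (yon S).obj V ≅ pullback f c.q := sq₂.isoIsPullback _ _ sq₃
  have h := openImmersion_chart H hqf hsep c e (s ≫ e'.hom) (sq₂.isoIsPullback_hom_snd _ _ sq₃).symm
  exact (P.cancel_right_of_respectsIso s.left e'.hom.left).1 (hP _ h.1 h.2)

/-- A morphism factoring as a quasi-compact open immersion and an affine morphism is quasi-affine. -/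
theorem isQuasiAffineMor_comp {F F' G : Sp S} {g : F ⟶ F'} {h : F' ⟶ G} (hg : RepWith @IsOpenImmersion g)
    (hg' : RepWith @QuasiCompact g) (hh : IsAffineMor h) : IsQuasiAffineMor (g ≫ h) := by
  intro Z hZ z
  obtain ⟨W, i, fst, sq, hW⟩ := hh hZ z
  have sq' := (hg.rep.isPullback fst).paste_vert sq
  rw [← Functor.map_comp] at sq'
  have : IsOpenImmersion (hg.rep.snd fst).left := hg.2 _ _ _ (hg.rep.isPullback fst)
  have : QuasiCompact (hg.rep.snd fst).left := hg'.2 _ _ _ (hg.rep.isPullback fst)
  have : CompactSpace W.left := inferInstance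
  have : CompactSpace (hg.rep.pullback fst).left := QuasiCompact.compactSpace_of_compactSpace (hg.rep.snd fst).left
  exact ⟨_, _, _, sq', Scheme.IsQuasiAffine.of_isImmersion (hg.rep.snd fst).left⟩

theorem zmt (hqf : LocP (@LocallyQuasiFinite ⊓ @LocallyOfFiniteType) f) (hsep : IsSeparatedMor f) :
    RepWith @IsOpenImmersion (toNorm H) ∧ RepWith @QuasiCompact (toNorm H) := by
  have := EtFound.fpqc_quasiCompact.{u}
  have := AlgSpPts.isLocalAtTarget_fppf (@QuasiCompact : MorphismProperty Scheme.{u})
  have := AlgSpPts.isLocalAtTarget_fppf (@IsOpenImmersion : MorphismProperty Scheme.{u})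
  exact ⟨repWith_toNorm H hqf hsep fun _ h _ => h, repWith_toNorm H hqf hsep fun _ _ h => h⟩

end Groth.Agent.AlgSpOne
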