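import Groth.Agent.AlgSpDec.FieldFibre
import Groth.Agent.AlgSpDec.Fibres
import Groth.Agent.AlgSpDec.Basic
import Groth.Agent.AlgSpPts.Dim
import Groth.Agent.S9798
import Groth.Agent.FibDim.Top
import Groth.Agent.S10177

/-!
# Isolated points and dimension zero for spaces locally of finite type over a field
-/

set_option autoImplicit false
set_option backward.isDefEq.respectTransparency false
set_option backward.isDefEq.respectTransparency.types false

universe u

open CategoryTheory Limits Opposite AlgebraicGeometry AlgSp Groth.Agent.AlgSpLib Groth.Agent.AlgSpPts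
  Groth.Agent.AlgSpDec TopologicalSpace Order

namespace Groth.Agent.AlgSpOne.OverField

variable {k : Type u} [Field k] {X : Sp (Spec (CommRingCat.of k))}
  {p : X ⟶ (yon (Spec (CommRingCat.of k))).obj (Over.mk (𝟙 _))} {U : Over (Spec (CommRingCat.of k))}
  {a : (yon (Spec (CommRingCat.of k))).obj U ⟶ X}

theorem map_eq_of_terminal (a : (yon (Spec (CommRingCat.of k))).obj U ⟶ X) :
    a ≫ p = (yon (Spec (CommRingCat.of k))).map (Over.homMk U.hom (by simp)) := by
  obtain ⟨g, hg⟩ := (yon (Spec (CommRingCat.of k))).map_surjective (a ≫ p)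
  rw [← hg]
  congr 1
  apply Over.OverMorphism.ext
  have := Over.w g
  simpa using this

theorem lft_hom (hp : LocP @LocallyOfFiniteType p) (ha : RepWith @Etale a) : LocallyOfFiniteType U.hom :=
  hp a (𝟙 _) (Over.homMk U.hom (by simp)) ha (repWith_id _ _) (by rw [Category.comp_id]; exact map_eq_of_terminal a)

theorem apply_eq {T : Scheme.{u}} (h : T ⟶ Spec (CommRingCat.of k)) (z w : ↥T) : h z = h w :=
  Subsingleton.elim (α := PrimeSpectrum k) _ _

theorem rd_eq_of_ofPt_eq (hp : LocP @LocallyOfFiniteType p) (ha : RepWith @Etale a) {u u' : ↥U.left}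
    (h : Points.ofPt a u = Points.ofPt a u') : FibDim.rd U.hom u = FibDim.rd U.hom u' := by
  haveI := lft_hom hp ha
  have h1 := ResTrdeg.rdeg_congr (f := p) (u := u) (u' := u') ha (repWith_id _ _)
    (by rw [Category.comp_id]; exact map_eq_of_terminal a) ha (repWith_id _ _)
    (by rw [Category.comp_id]; exact map_eq_of_terminal a) h
  have h2 : (FibDim.rd U.hom u : Cardinal.{u}) = (FibDim.rd U.hom u' : Cardinal.{u}) := by
    rw [FibDim.rd_eq_rdeg, FibDim.rd_eq_rdeg]; exact h1
  exact_mod_cast h2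

theorem rd_eq_zero_of_locClosed (hp : LocP @LocallyOfFiniteType p) (ha : RepWith @Etale a) {u : ↥U.left}
    (h : IsLocallyClosed ({Points.ofPt a u} : Set (Points X))) : FibDim.rd U.hom u = 0 := by
  haveI := lft_hom hp ha
  haveI : JacobsonSpace ↥U.left := LocallyOfFiniteType.jacobsonSpace U.hom
  obtain ⟨u₀, hu₀, hc⟩ := nonempty_inter_closedPoints (Z := Points.ofPt a ⁻¹' {Points.ofPt a u}) ⟨u, rfl⟩
    (h.preimage (Points.continuous_ofPt a))
  rw [← rd_eq_of_ofPt_eq hp ha (show Points.ofPt a u₀ = Points.ofPt a u from hu₀)]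
  refine DimFormula.rd_eq_zero_of_closed U.hom fun x' _ hsp => ?_
  exact (hc.closure_eq ▸ hsp.mem_closure : x' ∈ ({u₀} : Set ↥U.left))

theorem isOpen_singleton_of_rd (hp : LocP @LocallyOfFiniteType p) (ha : RepWith @Etale a) {u : ↥U.left}
    (h : ∀ z, z ⤳ u → FibDim.rd U.hom z = 0) : IsOpen ({u} : Set ↥U.left) := by
  haveI := lft_hom hp ha
  haveI : IsLocallyNoetherian U.left := LocallyOfFiniteType.isLocallyNoetherian U.hom
  haveI : Subsingleton ↥(Spec (CommRingCat.of k)) := inferInstanceAs (Subsingleton (PrimeSpectrum k))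
  rw [← Groth.Agent.S9798.result, ← FieldFibre.fibreDimAt_of_subsingleton U.hom u,
    FieldFibre.fibreDimAt_eq_zero_iff_rd]
  exact fun z hz _ => h z hz

theorem rd_eq_zero_of_isOpen (hp : LocP @LocallyOfFiniteType p) (ha : RepWith @Etale a) {u : ↥U.left}
    (h : IsOpen ({u} : Set ↥U.left)) : FibDim.rd U.hom u = 0 := by
  haveI := lft_hom hp ha
  haveI : IsLocallyNoetherian U.left := LocallyOfFiniteType.isLocallyNoetherian U.hom
  haveI : Subsingleton ↥(Spec (CommRingCat.of k)) := inferInstanceAs (Subsingleton (PrimeSpectrum k))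
  rw [← Groth.Agent.S9798.result, ← FieldFibre.fibreDimAt_of_subsingleton U.hom u,
    FieldFibre.fibreDimAt_eq_zero_iff_rd] at h
  exact h u specializes_rfl (apply_eq U.hom _ _)

theorem isOpen_singleton_iff_chart (hp : LocP @LocallyOfFiniteType p) (ha : RepWith @Etale a) (u : ↥U.left) :
    IsOpen ({Points.ofPt a u} : Set (Points X)) ↔ IsOpen ({u} : Set ↥U.left) := by
  refine ⟨fun h => isOpen_singleton_of_rd hp ha fun z hz => ?_, fun h => ?_⟩
  · have : Points.ofPt a z = Points.ofPt a u :=
      (hz.map (Points.continuous_ofPt a)).mem_open h rfl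
    rw [rd_eq_of_ofPt_eq hp ha this]
    exact rd_eq_zero_of_locClosed hp ha h.isLocallyClosed
  · have := isOpenMap_ofPt ha _ h
    rwa [Set.image_singleton] at this

theorem isClosed_singleton_of_isOpen (hX : IsAlgSpace X) (hp : LocP @LocallyOfFiniteType p) {x : Points X}
    (h : IsOpen ({x} : Set (Points X))) : IsClosed ({x} : Set (Points X)) := by
  obtain ⟨U, a, ha, has⟩ := hX.atlas
  rw [← ((Groth.Agent.S10177.result ⟨X, hX⟩ a ha has).isClosed_preimage)]
  refine isClosed_of_closure_subset fun z hz => ?_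
  haveI := lft_hom hp ha
  haveI : IsLocallyNoetherian U.left := LocallyOfFiniteType.isLocallyNoetherian U.hom
  obtain ⟨_, ⟨W, hW, rfl⟩, hzW, -⟩ :=
    U.left.isBasis_affineOpens.exists_subset_of_mem_open (Set.mem_univ z) isOpen_univ
  haveI : IsNoetherianRing Γ(U.left, W) := IsLocallyNoetherian.component_noetherian ⟨W, hW⟩
  haveI : NoetherianSpace (W : Set ↥U.left) := noetherianSpace_of_isAffineOpen W hW
  let F : Set ↥U.left := Points.ofPt a ⁻¹' {x}
  have hFo : ∀ w ∈ F, IsOpen ({w} : Set ↥U.left) := fun w hw =>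
    (isOpen_singleton_iff_chart hp ha w).1 (by rw [show Points.ofPt a w = x from hw]; exact h)
  have hfin : ((W : Set ↥U.left) ∩ F).Finite := by
    haveI : DiscreteTopology ↥((W : Set ↥U.left) ∩ F) := discreteTopology_iff_isOpen_singleton.2 fun w => by
      convert (hFo w.1 w.2.2).preimage continuous_subtype_val using 1
      ext t; simp [Subtype.ext_iff]
    have hc : IsCompact ((W : Set ↥U.left) ∩ F) := by
      have := (NoetherianSpace.isCompact ((Subtype.val ⁻¹' F : Set (W : Set ↥U.left)))).image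
        continuous_subtype_val
      rwa [Subtype.image_preimage_coe] at this
    haveI : CompactSpace ↥((W : Set ↥U.left) ∩ F) := isCompact_iff_compactSpace.1 hc
    exact Set.finite_coe_iff.1 finite_of_compact_of_discrete
  obtain ⟨w, hw, hwz⟩ : ∃ w ∈ (W : Set ↥U.left) ∩ F, w ⤳ z := by
    have : z ∈ closure ((W : Set ↥U.left) ∩ F) := W.isOpen.inter_closure ⟨hzW, hz⟩
    rw [← Set.biUnion_of_singleton ((W : Set ↥U.left) ∩ F), hfin.closure_biUnion] at this
    obtain ⟨w, hw, hwz⟩ := Set.mem_iUnion₂.1 this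
    exact ⟨w, hw, specializes_iff_mem_closure.2 hwz⟩
  have h0 := rd_eq_zero_of_isOpen hp ha (hFo w hw.2)
  by_contra hne
  have := FibDim.rd_lt (f := U.hom) hwz (fun e => hne (e ▸ hw.2)) (apply_eq U.hom _ _)
  rw [h0] at this
  exact Nat.not_lt_zero _ this

theorem isOpen_of_isClosed_of_gen (hX : IsAlgSpace X) (hp : LocP @LocallyOfFiniteType p) {x : Points X}
    (hc : IsLocallyClosed ({x} : Set (Points X))) (hg : ∀ x', x' ⤳ x → x' = x) : IsOpen ({x} : Set (Points X)) := by
  obtain ⟨U, a, u, -, ha, rfl⟩ := exists_affine_chart_at hX x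
  rw [isOpen_singleton_iff_chart hp ha]
  refine isOpen_singleton_of_rd hp ha fun z hz => ?_
  rw [rd_eq_of_ofPt_eq hp ha (hg _ (hz.map (Points.continuous_ofPt a)))]
  exact rd_eq_zero_of_locClosed hp ha hc

theorem hasAt_localDim_iff (hX : IsAlgSpace X) (hp : LocP @LocallyOfFiniteType p) (x : Points X) :
    HasAt (fun U u => FlatMor.localDim ↥U u = 0) X x ↔ IsOpen ({x} : Set (Points X)) := by
  constructor
  · rintro ⟨U, a, u, ha, rfl, hu⟩
    haveI := lft_hom hp ha
    haveI : IsLocallyNoetherian U.left := LocallyOfFiniteType.isLocallyNoetherian U.hom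
    exact (isOpen_singleton_iff_chart hp ha u).2 ((Groth.Agent.S9798.result _ u).1 hu)
  · intro h
    obtain ⟨U, a, u, -, ha, rfl⟩ := exists_affine_chart_at hX x
    haveI := lft_hom hp ha
    haveI : IsLocallyNoetherian U.left := LocallyOfFiniteType.isLocallyNoetherian U.hom
    exact ⟨U, a, u, ha, rfl, (Groth.Agent.S9798.result _ u).2 ((isOpen_singleton_iff_chart hp ha u).1 h)⟩

theorem localDim_of_isOpen {α : Type*} [TopologicalSpace α] {x : α} (h : IsOpen ({x} : Set α)) :
    FlatMor.localDim α x = 0 := by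
  refine le_antisymm (iInf_le_of_le ⟨⟨{x}, h⟩, rfl⟩ (topologicalKrullDim_zero_of_discreteTopology ({x} : Set α)))
    (le_iInf fun U => ?_)
  exact Order.krullDim_nonneg_iff.2 ⟨⟨closure {(⟨x, U.2⟩ : (U.1 : Set α))},
    isIrreducible_singleton.closure, isClosed_closure⟩⟩

theorem eq_of_specializes_of_dim_le_zero {T : Type*} [TopologicalSpace T] [QuasiSober T] [T0Space T]
    (hd : topologicalKrullDim T ≤ 0) {a b : T} (h : a ⤳ b) : a = b := by
  by_contra hne
  have hlt : (⟨closure {b}, isIrreducible_singleton.closure, isClosed_closure⟩ : IrreducibleCloseds T) <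
      ⟨closure {a}, isIrreducible_singleton.closure, isClosed_closure⟩ := by
    refine lt_of_le_of_ne (specializes_iff_closure_subset.1 h) fun e => hne ?_
    exact (isGenericPoint_closure.eq (by
      show IsGenericPoint b (closure {a})
      rw [show closure ({a} : Set T) = closure {b} from (congrArg IrreducibleCloseds.carrier e).symm]
      exact isGenericPoint_closure))
  have : (1 : WithBot ℕ∞) ≤ topologicalKrullDim T := Order.one_le_krullDim_iff.2 ⟨_, _, hlt⟩
  exact absurd (this.trans hd) (by norm_num)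

theorem isOpen_of_localDim (hX : IsAlgSpace X) (hp : LocP @LocallyOfFiniteType p) (hd : IsDecent X)
    {x : Points X} (h : FlatMor.localDim (Points X) x = 0) : IsOpen ({x} : Set (Points X)) := by
  haveI := t0Space_points hX hd
  haveI := quasiSober_points hX hd
  haveI : Nonempty {U : Opens (Points X) // x ∈ U} := ⟨⟨⊤, trivial⟩⟩
  obtain ⟨O, hO⟩ := ciInf_mem fun U : {U : Opens (Points X) // x ∈ U} => topologicalKrullDim (U.1 : Set (Points X))
  haveI : QuasiSober (O.1 : Set (Points X)) := (IsOpen.isOpenEmbedding_subtypeVal O.1.isOpen).quasiSober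
  have hd0 : topologicalKrullDim (O.1 : Set (Points X)) ≤ 0 := (hO.trans_le h.le)
  refine isOpen_of_isClosed_of_gen hX hp ?_ fun x' hx' => ?_
  · refine ⟨O.1, closure {x}, O.1.isOpen, isClosed_closure, Set.Subset.antisymm ?_ ?_⟩
    · rintro y (rfl : y = x)
      exact ⟨O.2, subset_closure rfl⟩
    · rintro y ⟨hy, hxy⟩
      exact (congrArg Subtype.val (eq_of_specializes_of_dim_le_zero hd0
        (a := (⟨x, O.2⟩ : (O.1 : Set (Points X)))) (b := ⟨y, hy⟩)
        (Topology.IsInducing.subtypeVal.specializes_iff.1 (specializes_iff_mem_closure.2 hxy)))).symm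
  · exact congrArg Subtype.val (eq_of_specializes_of_dim_le_zero hd0
      (a := (⟨x', hx'.mem_open O.1.isOpen O.2⟩ : (O.1 : Set (Points X)))) (b := ⟨x, O.2⟩)
      (Topology.IsInducing.subtypeVal.specializes_iff.1 hx'))

theorem discrete_iff_dim (hX : IsAlgSpace X) (hp : LocP @LocallyOfFiniteType p) [Nonempty (Points X)] :
    DiscreteTopology (Points X) ↔ AlgSp.dim X = 0 := by
  constructor
  · intro _
    refine le_antisymm (dim_le_iff.2 fun U a ha u => ?_) ?_
    · haveI : DiscreteTopology ↥U.left := discreteTopology_iff_isOpen_singleton.2 fun w =>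
        (isOpen_singleton_iff_chart hp ha w).1 (isOpen_discrete _)
      rw [coheight_eq_zero.2 fun z hz => le_of_eq (Specializes.eq (Scheme.le_iff_specializes.1 hz))]
      rfl
    · obtain ⟨U, a, u, -, ha, -⟩ := exists_affine_chart_at hX (Classical.arbitrary (Points X))
      exact le_trans (WithBot.coe_le_coe.2 bot_le) (coheight_le_dim ha u)
  · intro h
    refine discreteTopology_iff_isOpen_singleton.2 fun x => ?_
    obtain ⟨U, a, u, -, ha, rfl⟩ := exists_affine_chart_at hX x
    haveI := lft_hom hp ha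
    haveI : IsLocallyNoetherian U.left := LocallyOfFiniteType.isLocallyNoetherian U.hom
    have hd : topologicalKrullDim ↥U.left ≤ 0 :=
      h ▸ le_iSup_of_le U (le_iSup_of_le a (le_iSup_of_le ha le_rfl))
    rw [isOpen_singleton_iff_chart hp ha, ← Groth.Agent.S9798.result]
    refine le_antisymm (iInf_le_of_le ⟨⊤, trivial⟩ ?_) (le_iInf fun O => ?_)
    · exact (Topology.IsInducing.subtypeVal.topologicalKrullDim_le).trans hd
    · exact Order.krullDim_nonneg_iff.2 ⟨⟨closure {(⟨u, O.2⟩ : (O.1 : Set ↥U.left))},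
        isIrreducible_singleton.closure, isClosed_closure⟩⟩

theorem discrete_of_finite (hX : IsAlgSpace X) (hp : LocP @LocallyOfFiniteType p) (hd : IsDecent X)
    [Finite (Points X)] : DiscreteTopology (Points X) := by
  haveI := t0Space_points hX hd
  have hlc : ∀ x : Points X, IsLocallyClosed ({x} : Set (Points X)) := fun x => by
    refine ⟨(⋃ y ∈ {y | x ⤳ y ∧ y ≠ x}, closure {y})ᶜ, closure {x},
      ((Set.toFinite _).isClosed_biUnion fun _ _ => isClosed_closure).isOpen_compl, isClosed_closure, ?_⟩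
    refine Set.Subset.antisymm ?_ ?_
    · rintro _ rfl
      refine ⟨fun hmem => ?_, subset_closure rfl⟩
      obtain ⟨y, ⟨hxy, hne⟩, hyx⟩ := Set.mem_iUnion₂.1 hmem
      exact hne ((hxy.antisymm (specializes_iff_mem_closure.2 hyx)).eq).symm
    · rintro y ⟨hyC, hy⟩
      by_contra hne
      exact hyC (Set.mem_iUnion₂.2 ⟨y, ⟨specializes_iff_mem_closure.2 hy, hne⟩, subset_closure rfl⟩)
  refine discreteTopology_iff_isOpen_singleton.2 fun x => ?_
  obtain ⟨U, a, u, -, ha, rfl⟩ := exists_affine_chart_at hX x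
  exact (isOpen_singleton_iff_chart hp ha u).2 (isOpen_singleton_of_rd hp ha fun z _ =>
    rd_eq_zero_of_locClosed hp ha (hlc _))

end Groth.Agent.AlgSpOne.OverField
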