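import Groth.Agent.AlgSpDec.LqfScheme
import Groth.Agent.AlgSpLib.Points
import Groth.Agent.AlgSpLib.Rep
import Groth.Agent.S10259

/-!
# Quasi-affine opens of etale pullbacks of separated locally quasi-finite spaces
-/

set_option autoImplicit false
set_option backward.isDefEq.respectTransparency false
set_option backward.isDefEq.respectTransparency.types false

universe u

open CategoryTheory Limits Opposite AlgebraicGeometry AlgSp Groth.Agent.AlgSpLib TopologicalSpace

namespace Groth.Agent.AlgSpOne.QaOpen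

variable {S : Scheme.{u}}

theorem exists_iso_yon {X : Sp S} (h : X.obj.IsRepresentable) : ∃ Z : Over S, Nonempty ((yon S).obj Z ≅ X) := by
  obtain ⟨Z, ⟨r⟩⟩ := h.has_representation
  refine ⟨Z, ⟨(sheafToPresheaf _ _).preimageIso (NatIso.ofComponents
    (fun T => (Equiv.ulift.trans r.homEquiv).toIso) fun {T T'} φ => ?_)⟩⟩
  ext ⟨g⟩
  exact r.homEquiv_comp φ.unop g

theorem range_map_yon {T : Over S} {F : Sp S} (a : (yon S).obj T ⟶ F) :
    Set.range (Points.map a) = Set.range (Points.ofPt a) := by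
  refine Set.Subset.antisymm ?_ ?_
  · rintro _ ⟨x, rfl⟩
    obtain ⟨T', g, t, -, rfl⟩ := exists_ofPt_eq x
    refine ⟨((yon S).preimage g).left t, ?_⟩
    rw [Points.map_ofPt, ← ofPt_comp, Functor.map_preimage]
  · rintro _ ⟨t, rfl⟩
    exact ⟨Points.ofPt (𝟙 _) t, by rw [Points.map_ofPt, Category.id_comp]⟩

theorem exists_open_scheme {T T' : Over S} [IsAffine T.left] [IsAffine T'.left] (e : T' ⟶ T) [Etale e.left]
    {X P V' : AlgSp.Space S} (f : X ⟶ (AlgSp.ofScheme S).obj T) (hsep : IsSeparatedMor f.hom)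
    (hqf : LocP (@LocallyQuasiFinite ⊓ @LocallyOfFiniteType) f.hom)
    (p1 : P ⟶ (AlgSp.ofScheme S).obj T') (p2 : P ⟶ X)
    (sq : IsPullback p2.hom p1.hom f.hom ((yon S).map e)) (j : V' ⟶ P)
    (hj : RepWith @IsOpenImmersion j.hom) (hqa : IsQuasiAffineMor (j ≫ p1).hom) :
    ∃ (W : Over S) (i : (yon S).obj W ⟶ X.obj), RepWith @IsOpenImmersion i ∧ CompactSpace ↥W.left ∧
      Set.range (Points.map i) = Set.range (Points.map (j ≫ p2).hom) := by
  obtain ⟨W₀, i₀, fst, hfst, hW₀⟩ := hqa (Z := T') inferInstance (𝟙 _)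
  haveI : IsIso fst := hfst.isIso_fst_of_isIso
  haveI : CompactSpace ↥W₀.left := hW₀.toCompactSpace
  have hrep := Groth.Agent.S10259.result T X f hqf hsep
  obtain ⟨X₀, ⟨eX⟩⟩ : ∃ X₀ : Over S, Nonempty ((yon S).obj X₀ ≅ X.obj) := exists_iso_yon hrep
  let c : (yon S).obj W₀ ⟶ X.obj := fst ≫ (j ≫ p2).hom
  have hc : RepWith @Etale c := by
    refine repWith_comp (repWith_of_isIso _ _) ?_
    change RepWith @Etale (j.hom ≫ p2.hom)
    exact repWith_comp (repWith_mono (fun _ _ g (_ : IsOpenImmersion g) => (inferInstance : Etale g)) _ hj)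
      (repWith_of_isPullback sq.flip ((repWith_yon_map_iff _ e).2 ‹_›))
  let h₀ : W₀ ⟶ X₀ := (yon S).preimage (c ≫ eX.inv)
  have hh₀ : (yon S).map h₀ = c ≫ eX.inv := (yon S).map_preimage _
  haveI : Etale h₀.left := (repWith_yon_map_iff @Etale h₀).1 (by
    rw [hh₀]; exact repWith_comp hc (repWith_of_isIso _ _))
  let O : X₀.left.Opens := ⟨Set.range h₀.left, h₀.left.isOpenMap.isOpen_range⟩
  let W : Over S := Over.mk (O.ι ≫ X₀.hom)
  let ι : W ⟶ X₀ := CategoryTheory.Over.homMk O.ι rfl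
  refine ⟨W, (yon S).map ι ≫ eX.hom, repWith_comp ((repWith_yon_map_iff _ ι).2
    (inferInstanceAs (IsOpenImmersion O.ι))) (repWith_of_isIso _ _), ?_, ?_⟩
  · exact isCompact_iff_compactSpace.1 (show IsCompact (O : Set X₀.left) from isCompact_range h₀.left.continuous)
  · have hrg : Set.range (Points.map (j ≫ p2).hom) = Set.range (Points.map c) := by
      refine Set.Subset.antisymm ?_ ?_
      · rintro _ ⟨x, rfl⟩
        exact ⟨Points.map (inv fst) x, by rw [← Points.map_comp, IsIso.inv_hom_id_assoc]⟩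
      · rintro _ ⟨x, rfl⟩
        exact ⟨Points.map fst x, by rw [← Points.map_comp]⟩
    have hc' : c = (yon S).map h₀ ≫ eX.hom := by rw [hh₀, Category.assoc, eX.inv_hom_id, Category.comp_id]
    rw [hrg, range_map_yon, range_map_yon, hc']
    refine Set.Subset.antisymm ?_ ?_
    · rintro _ ⟨w, rfl⟩
      obtain ⟨w₀, hw₀⟩ := w.2
      refine ⟨w₀, ?_⟩
      rw [ofPt_comp, ofPt_comp]
      exact congrArg _ hw₀
    · rintro _ ⟨w₀, rfl⟩
      refine ⟨⟨h₀.left w₀, w₀, rfl⟩, ?_⟩
      rw [ofPt_comp, ofPt_comp]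
      rfl

end Groth.Agent.AlgSpOne.QaOpen
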