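import Groth.Agent.AlgSpDec.SchImageChart
import Groth.Agent.AlgSpDec.MinimalNonScheme

/-!
# Scheme theoretic images of quasi-compact morphisms: etale base change and density
-/

set_option autoImplicit false
set_option backward.isDefEq.respectTransparency false
set_option backward.isDefEq.respectTransparency.types false

universe u

open CategoryTheory CategoryTheory.Limits AlgebraicGeometry AlgSp Groth.Agent.AlgSpLib Groth.Agent.AlgSpPts
  Groth.Agent.AlgSpDec

namespace Groth.Agent.AlgSpOne.SchImageBC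

variable {S : Scheme.{u}} {X Y Z : Sp S} {f : X ⟶ Y} {i : Z ⟶ Y}

theorem range_subset_closure (hX : IsAlgSpace X) (hY : IsAlgSpace Y) (hq : IsQuasiCompactMor f)
    (hi : IsSchImage f i) : Set.range (Points.map i) ⊆ closure (Set.range (Points.map f)) := by
  obtain ⟨U, T, b, c, k, hb, hbs, hc, hcs, hk, hqk⟩ := exists_qc_chart hX hY hq
  have hker := schImage_chart hX hY hb hbs hc hcs hk hi
  haveI : IsClosedImmersion (hi.1.rep.snd b).left := hi.1.property_snd b
  rintro _ ⟨x, rfl⟩
  obtain ⟨w, rfl⟩ := surjective_ofPt (repWith_of_isPullback (hi.1.rep.isPullback b).flip hbs) x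
  rw [Points.map_ofPt, hi.1.rep.w b, ofPt_comp]
  have hmem : (hi.1.rep.snd b).left w ∈ closure (Set.range k.left) := by
    rw [← Scheme.Hom.support_ker, ← hker]
    exact Scheme.Hom.range_subset_ker_support _ ⟨w, rfl⟩
  refine closure_mono ?_ (image_closure_subset_closure_image (Points.continuous_ofPt b) ⟨_, hmem, rfl⟩)
  rintro _ ⟨_, ⟨t, rfl⟩, rfl⟩
  refine ⟨Points.ofPt (c ≫ pullback.fst f b) t, ?_⟩
  rw [Points.map_ofPt, Category.assoc, pullback.condition, ← Category.assoc, hk, ofPt_comp]

theorem isSchImage_baseChange (hX : IsAlgSpace X) (hY : IsAlgSpace Y) (hq : IsQuasiCompactMor f)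
    (hi : IsSchImage f i) {V XV ZV : Sp S} (hV : IsAlgSpace V) (hXV : IsAlgSpace XV) {b : V ⟶ Y}
    (hb : IsEtaleMor b) {f₁ : XV ⟶ X} {fV : XV ⟶ V} {i₁ : ZV ⟶ Z} {iV : ZV ⟶ V}
    (sq₁ : IsPullback f₁ fV f b) (sq₂ : IsPullback i₁ iV i b) : IsSchImage fV iV := by
  obtain ⟨U, T, bU, c, k, hbU, hbUs, hc, hcs, hk, hqk⟩ := exists_qc_chart hX hY hq
  have hiV : RepWith @IsClosedImmersion iV := repWith_of_isPullback sq₂ hi.1
  obtain ⟨f', hf'⟩ := hi.2.1
  refine ⟨hiV, ⟨sq₂.lift (f₁ ≫ f') fV (by rw [Category.assoc, hf', sq₁.w]), sq₂.lift_snd _ _ _⟩,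
    fun Z' i' hZ' hi' hfac => ?_⟩
  -- a chart of the target
  obtain ⟨W, w, hw, hws⟩ := (isAlgSpace_pullback hV (IsAlgSpace.yon_obj U) hY b bU).atlas
  let bW : (yon S).obj W ⟶ V := w ≫ pullback.fst b bU
  have hbW : RepWith @Etale bW := repWith_comp hw (repWith_fst b hbU)
  have hbWs : RepWith @Surjective bW := repWith_comp hws (repWith_fst b hbUs)
  obtain ⟨h, hh⟩ := (yon S).map_surjective (w ≫ pullback.snd b bU)
  have hhb : (yon S).map h ≫ bU = bW ≫ b := by rw [hh, Category.assoc, Category.assoc, pullback.condition]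
  haveI hhe : Etale h.left := (repWith_yon_map_iff @Etale h).1
    (repWith_etale_of_comp _ bU (by rw [hhb]; exact hb bW hbW) hbU)
  let n : pullback fV bW ⟶ pullback f bU :=
    pullback.lift (pullback.fst fV bW ≫ f₁) (pullback.snd fV bW ≫ (yon S).map h)
      (by simp only [Category.assoc, sq₁.w, hhb]; rw [pullback.condition_assoc])
  have hn : IsPullback n (pullback.snd fV bW) (pullback.snd f bU) ((yon S).map h) := by
    refine IsPullback.of_right ?_ (pullback.lift_snd _ _ _) (IsPullback.of_hasPullback f bU)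
    rw [pullback.lift_fst, hhb]
    exact (IsPullback.of_hasPullback fV bW).paste_horiz sq₁
  let k' := pullback.snd k h
  have sqT : IsPullback ((yon S).map (pullback.fst k h)) ((yon S).map k') ((yon S).map k) ((yon S).map h) :=
    (IsPullback.of_hasPullback k h).map (yon S)
  let d : (yon S).obj (pullback k h) ⟶ pullback fV bW :=
    hn.lift ((yon S).map (pullback.fst k h) ≫ c) ((yon S).map k') (by rw [Category.assoc, hk, sqT.w])
  have hd : IsPullback ((yon S).map (pullback.fst k h)) d c n := by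
    refine IsPullback.of_bot ?_ (hn.lift_fst _ _ _).symm hn
    rw [hn.lift_snd, hk]
    exact sqT
  have hde : RepWith @Etale d := repWith_of_isPullback hd hc
  have hds : RepWith @Surjective d := repWith_of_isPullback hd hcs
  have hdk : d ≫ pullback.snd fV bW = (yon S).map k' := hn.lift_snd _ _ _
  have sqF : IsPullback (pullback.fst k h).left k'.left k.left h.left :=
    (IsPullback.of_hasPullback k h).map (Over.forget S)
  haveI : QuasiCompact k'.left := MorphismProperty.of_isPullback sqF hqk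
  have hkk : k'.left.ker = k.left.ker.comap h.left := by
    rw [← Groth.Agent.S4667.result k.left h.left, ← Scheme.Hom.ker_comp_of_isIso sqF.isoPullback.hom]
    congr 1
    exact sqF.isoPullback_hom_snd.symm
  -- the image on the chart
  obtain ⟨Z₁, j, hj⟩ := exists_schImage hXV hV fV
  have hkj := schImage_chart hXV hV hbW hbWs hde hds hdk hj
  have hkZ := schImage_chart hX hY hbU hbUs hc hcs hk hi
  let ZU := hi.1.rep.pullback bU
  let ι := hi.1.rep.snd bU
  haveI : IsClosedImmersion ι.left := hi.1.property_snd bU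
  let ιW := hiV.rep.snd bW
  have s₁ : IsPullback (hiV.rep.fst bW ≫ i₁) ((yon S).map ιW) i ((yon S).map h ≫ bU) := by
    rw [hhb]; exact (hiV.rep.isPullback bW).paste_horiz sq₂
  obtain ⟨t, ht⟩ := (yon S).map_surjective ((hi.1.rep.isPullback bU).lift (hiV.rep.fst bW ≫ i₁)
    ((yon S).map ιW ≫ (yon S).map h) (s₁.w.trans (Category.assoc _ _ _).symm))
  have sqι : IsPullback t.left ιW.left ι.left h.left := by
    have s₂ : IsPullback ((yon S).map t) ((yon S).map ιW) ((yon S).map ι) ((yon S).map h) := by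
      refine IsPullback.of_right ?_ (by rw [ht, IsPullback.lift_snd]) (hi.1.rep.isPullback bU)
      rw [ht, IsPullback.lift_fst]
      exact s₁
    exact (IsPullback.of_map (yon S) ((yon S).map_injective (by rw [Functor.map_comp, Functor.map_comp]; exact s₂.w))
      s₂).map (Over.forget S)
  have hιW : ιW.left.ker = k'.left.ker := by
    rw [hkk, ← hkZ, ← Groth.Agent.S4667.result ι.left h.left, ← Scheme.Hom.ker_comp_of_isIso sqι.isoPullback.hom]
    congr 1
    exact sqι.isoPullback_hom_snd.symm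
  obtain ⟨g, hg⟩ := (ker_le_iff_exists_factor hj.1 hbW hbWs hiV).1 (by rw [hkj, hιW])
  obtain ⟨l, hl⟩ := hj.2.2 i' hZ' hi' hfac
  exact ⟨g ≫ l, by rw [Category.assoc, hl, hg]⟩

end Groth.Agent.AlgSpOne.SchImageBC
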