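import Groth.Agent.AlgSpOne.SchImageBC
import Groth.Agent.AlgSpLib.EtaleSmoothLocal

/-!
# Scheme theoretic images of sections over quasi-compact opens
-/

set_option autoImplicit false
set_option backward.isDefEq.respectTransparency false
set_option backward.isDefEq.respectTransparency.types false

universe u

open CategoryTheory CategoryTheory.Limits AlgebraicGeometry AlgSp Groth.Agent.AlgSpLib Groth.Agent.AlgSpPts
  Groth.Agent.AlgSpDec

namespace Groth.Agent.AlgSpOne.SchImageSection

variable {S : Scheme.{u}}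

theorem isIso_snd {X Y V Y' : Sp S} (hX : IsAlgSpace X) (hY : IsAlgSpace Y) (hV : IsAlgSpace V)
    (f : X ⟶ Y) (j : V ⟶ Y) (hj : RepWith @IsOpenImmersion j) (hjq : IsQuasiCompactMor j) (hf : IsSeparatedMor f)
    (s : V ⟶ X) (hs : s ≫ f = j) (c : Y' ⟶ X) (hc : IsSchImage s c)
    {P : Sp S} (fst : P ⟶ Y') (snd : P ⟶ V) (sq : IsPullback fst snd (c ≫ f) j) : IsIso snd := by
  let XV := pullback f j
  let e : XV ⟶ X := pullback.fst f j
  have hje : RepWith @IsOpenImmersion e := repWith_fst f hj
  haveI : Mono j := mono_of_openImmersion hj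
  let σ : V ⟶ XV := pullback.lift s (𝟙 V) (by rw [hs, Category.id_comp])
  have hσ : RepWith @IsClosedImmersion σ :=
    section_property (f := pullback.snd f j) (pullback.lift_snd _ _ _)
      (isSeparatedMor_of_isPullback (IsPullback.of_hasPullback f j) hf)
  have hXV : IsAlgSpace XV := isAlgSpace_pullback hX hV hY f j
  have hsq : IsQuasiCompactMor s := by
    rw [← pullback.lift_fst (f := f) (g := j) s (𝟙 V) (by rw [hs, Category.id_comp])]
    exact isQuasiCompactMor_comp hXV hX (isQuasiCompactMor_of_repWith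
      (repWith_mono (fun _ _ g (_ : IsClosedImmersion g) => (inferInstance : QuasiCompact g)) _ hσ))
      (isQuasiCompactMor_of_isPullback (IsPullback.of_hasPullback f j).flip hjq)
  have sq₁ : IsPullback (𝟙 V) σ s e := by
    haveI : Mono e := mono_of_openImmersion hje
    refine ⟨⟨by rw [Category.id_comp, pullback.lift_fst]⟩, ⟨PullbackCone.IsLimit.mk _ (fun t => t.fst)
      (fun t => Category.comp_id _) (fun t => ?_) (fun t m h₁ _ => (Category.comp_id m).symm.trans h₁)⟩⟩
    rw [← cancel_mono e, Category.assoc, pullback.lift_fst]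
    exact t.condition
  have sq₂ : IsPullback (pullback.fst c e) (pullback.snd c e) c e := IsPullback.of_hasPullback c e
  obtain ⟨hiV, ⟨f', hf'⟩, hmin⟩ := SchImageBC.isSchImage_baseChange hV hX hsq hc hXV hV
    (isEtaleMor_of_repWith_isOpenImmersion hje) sq₁ sq₂
  obtain ⟨k, hk⟩ := hmin σ hV hσ ⟨𝟙 V, Category.id_comp _⟩
  haveI := mono_of_closedImmersion hiV
  haveI := mono_of_closedImmersion hσ
  haveI : IsIso k := ⟨f', (cancel_mono (pullback.snd c e)).1 (by rw [Category.assoc, hf', hk, Category.id_comp]),
    (cancel_mono σ).1 (by rw [Category.assoc, hk, hf', Category.id_comp])⟩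
  have sq' : IsPullback (pullback.fst c e) (pullback.snd c e ≫ pullback.snd f j) (c ≫ f) j :=
    sq₂.flip.paste_horiz (IsPullback.of_hasPullback f j).flip |>.flip
  have : snd = (sq.isoIsPullback _ _ sq').hom ≫ k := by
    refine (sq.isoIsPullback_hom_snd _ _ sq').symm.trans (congrArg (_ ≫ ·) ?_)
    rw [← hk, Category.assoc, pullback.lift_snd, Category.comp_id]
  rw [this]
  infer_instance

end Groth.Agent.AlgSpOne.SchImageSection
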