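import Mathlib.AlgebraicGeometry.Stalk
import Mathlib.AlgebraicGeometry.AffineTransitionLimit
import Mathlib.Algebra.Category.Ring.FilteredColimits
import Mathlib.CategoryTheory.Limits.Constructions.Over.Connected

/-!
# The spectrum of a local ring as a limit of affine neighbourhoods
-/

set_option autoImplicit false
set_option backward.isDefEq.respectTransparency false
set_option backward.isDefEq.respectTransparency.types false

universe u

open CategoryTheory Limits Opposite AlgebraicGeometry TopologicalSpace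

namespace Groth.Agent.AlgSpOne.StalkLimit

variable {S : Scheme.{u}}

/-- Inside an open `U`, the spectrum of a local ring is a limit of affine open neighbourhoods. -/
theorem exists_stalk_system {U : S.Opens} (hU : IsAffineOpen U) (s : ↥S) (hs : s ∈ U) :
    ∃ (J : Type u) (_ : SmallCategory J) (_ : IsCofiltered J) (W : J ⥤ Over (U : Scheme.{u})) (cW : Cone W)
      (_ : IsLimit ((Over.forget _).mapCone cW)) (e : cW.pt.left ≅ Spec (S.presheaf.stalk s)),
      (e.inv ≫ cW.pt.hom ≫ U.ι = S.fromSpecStalk s) ∧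
      ∀ j, IsAffine (W.obj j).left ∧ IsOpenImmersion (W.obj j).hom ∧ ∃ z, ((W.obj j).hom ≫ U.ι) z = s := by
  let Jt := {V : S.affineOpens // s ∈ V.1 ∧ V.1 ≤ U}
  haveI : Nonempty Jtᵒᵈ := ⟨OrderDual.toDual ⟨⟨U, hU⟩, hs, le_rfl⟩⟩
  haveI : IsDirectedOrder Jtᵒᵈ := ⟨fun a b => by
    obtain ⟨V, hV, hsV, hle⟩ := exists_isAffineOpen_mem_and_subset
      (U := (OrderDual.ofDual a).1.1 ⊓ (OrderDual.ofDual b).1.1) (x := s)
      ⟨(OrderDual.ofDual a).2.1, (OrderDual.ofDual b).2.1⟩
    exact ⟨OrderDual.toDual ⟨⟨V, hV⟩, hsV, (le_trans (fun x hx => (hle hx).1) (OrderDual.ofDual a).2.2)⟩,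
      show V ≤ _ from fun x hx => (hle hx).1, show V ≤ _ from fun x hx => (hle hx).2⟩⟩
  let F : Jtᵒᵈ ⥤ CommRingCat.{u} :=
    { obj := fun j => Γ(S, (OrderDual.ofDual j).1.1)
      map := fun {i j} f => S.presheaf.map (homOfLE (show (OrderDual.ofDual j).1.1 ≤ (OrderDual.ofDual i).1.1 from
        leOfHom f)).op
      map_id := fun j => S.presheaf.map_id _
      map_comp := fun f g => by rw [← Functor.map_comp]; rfl }
  let co : Cocone F :=
    { pt := S.presheaf.stalk s
      ι := { app := fun j => S.presheaf.germ _ s (OrderDual.ofDual j).2.1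
             naturality := fun i j f => by
               dsimp [F]
               rw [S.presheaf.germ_res, Category.comp_id] } }
  have hco : IsColimit co := by
    haveI : ReflectsColimit F (forget CommRingCat.{u}) := reflectsColimit_of_reflectsIsomorphisms _ _
    refine isColimitOfReflects (forget CommRingCat.{u})
      (Types.FilteredColimit.isColimitOf' _ _ (fun z => ?_) fun j x y h => ?_)
    · obtain ⟨V, hsV, t, ht⟩ := S.presheaf.germ_exist z
      obtain ⟨V', hV', hsV', hle⟩ := exists_isAffineOpen_mem_and_subset (U := V ⊓ U) (x := s) ⟨hsV, hs⟩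
      refine ⟨OrderDual.toDual ⟨⟨V', hV'⟩, hsV', fun x hx => (hle hx).2⟩,
        S.presheaf.map (homOfLE (fun x hx => (hle hx).1 : V' ≤ V)).op t, ?_⟩
      exact ht.symm.trans (TopCat.Presheaf.germ_res_apply _ _ _ _ t).symm
    · obtain ⟨V, hsV, i₁, i₂, he⟩ :=
        S.presheaf.germ_eq s (OrderDual.ofDual j).2.1 (OrderDual.ofDual j).2.1 x y h
      obtain ⟨V', hV', hsV', hle⟩ := exists_isAffineOpen_mem_and_subset (U := V) (x := s) hsV
      have h1 : V' ≤ (OrderDual.ofDual j).1.1 := fun x hx => i₁.le (hle hx)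
      refine ⟨OrderDual.toDual ⟨⟨V', hV'⟩, hsV', h1.trans (OrderDual.ofDual j).2.2⟩, homOfLE h1, ?_⟩
      have := congrArg (S.presheaf.map (homOfLE (show V' ≤ V from hle)).op) he
      rw [← Functor.map_comp_apply, ← Functor.map_comp_apply] at this
      exact this
  haveI : PreservesLimitsOfSize.{u, u} Scheme.Spec.{u} := ΓSpec.adjunction.rightAdjoint_preservesLimits
  let m : ∀ j : Jtᵒᵈ, Spec (F.obj j) ⟶ (U : Scheme.{u}) := fun j =>
    IsOpenImmersion.lift U.ι (OrderDual.ofDual j).1.2.fromSpec (by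
      rw [IsAffineOpen.range_fromSpec, Scheme.Opens.range_ι]; exact (OrderDual.ofDual j).2.2)
  have hm : ∀ j, m j ≫ U.ι = (OrderDual.ofDual j).1.2.fromSpec := fun j => IsOpenImmersion.lift_fac _ _ _
  let W : Jtᵒᵈᵒᵖ ⥤ Over (U : Scheme.{u}) :=
    { obj := fun j => Over.mk (m j.unop)
      map := fun {i j} f => Over.homMk (Spec.map (F.map f.unop)) (by
        rw [← cancel_mono U.ι]
        dsimp
        rw [Category.assoc, hm, hm]
        exact IsAffineOpen.map_fromSpec _ _ _)
      map_id := fun j => Over.OverMorphism.ext ((congrArg Spec.map (F.map_id _)).trans (Spec.map_id _))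
      map_comp := fun f g => Over.OverMorphism.ext ((congrArg Spec.map (F.map_comp _ _)).trans (Spec.map_comp _ _)) }
  let j₀ : Jtᵒᵈ := OrderDual.toDual ⟨⟨U, hU⟩, hs, le_rfl⟩
  have hst : ∀ j : Jtᵒᵈ, Spec.map (co.ι.app j) ≫ m j ≫ U.ι = S.fromSpecStalk s := fun j => by
    rw [hm]
    exact (OrderDual.ofDual j).1.2.fromSpecStalk_eq_fromSpecStalk (OrderDual.ofDual j).2.1
  let cW : Cone W :=
    { pt := Over.mk (Spec.map (co.ι.app j₀) ≫ m j₀)
      π :=
        { app := fun j => Over.homMk (Spec.map (co.ι.app j.unop)) (by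
            rw [← cancel_mono U.ι]
            dsimp only [W, Over.mk_hom]
            rw [Category.assoc, hst j.unop]
            exact ((Category.assoc _ _ _).trans (hst j₀)).symm)
          naturality := fun i j f => Over.OverMorphism.ext ((Category.id_comp _).trans
            ((congrArg Spec.map (co.w f.unop).symm).trans (Spec.map_comp _ _))) } }
  refine ⟨Jtᵒᵈᵒᵖ, inferInstance, inferInstance, W, cW, isLimitOfPreserves Scheme.Spec hco.op, Iso.refl _,
    ?_, fun j => ⟨inferInstanceAs (IsAffine (Spec _)), ?_, ?_⟩⟩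
  · simp only [Iso.refl_inv, cW, Over.mk_hom]
    exact (Category.id_comp _).trans ((Category.assoc _ _ _).trans (hst j₀))
  · haveI : IsOpenImmersion (m j.unop ≫ U.ι) := by rw [hm]; infer_instance
    exact IsOpenImmersion.of_comp (m j.unop) U.ι
  · obtain ⟨z, hz⟩ : s ∈ Set.range (OrderDual.ofDual j.unop).1.2.fromSpec := by
      rw [IsAffineOpen.range_fromSpec]; exact (OrderDual.ofDual j.unop).2.1
    exact ⟨z, by rw [show (W.obj j).hom = m j.unop from rfl, hm]; exact hz⟩

end Groth.Agent.AlgSpOne.StalkLimit
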