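import Groth.Agent.AlgSpLib.ThickRep
import Groth.Agent.AlgSpDec.AffineRep
import Mathlib.AlgebraicGeometry.Morphisms.FiniteType
import Mathlib.AlgebraicGeometry.Morphisms.FinitePresentation
import Mathlib.RingTheory.Nilpotent.Lemmas

/-!
# A morphism which is a closed immersion over a thickening
-/

set_option autoImplicit false
set_option backward.isDefEq.respectTransparency false
set_option backward.isDefEq.respectTransparency.types false

universe u

open CategoryTheory CategoryTheory.Limits AlgebraicGeometry AlgSp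

namespace Groth.Agent.AlgSpOne

variable {A C : Type u} [CommRing A] [CommRing C]

/-- A ring map, surjective modulo a finitely generated nil ideal of the source, is surjective. -/
theorem surjective_of_surjective_mod_fg {φ : A →+* C} {J : Ideal A} (hfg : J.FG) (hJ : J ≤ nilradical A)
    (h : ∀ c, ∃ a, c - φ a ∈ J.map φ) : Function.Surjective φ := by
  obtain ⟨n, hn⟩ := Ideal.exists_pow_le_of_le_radical_of_fg (J := (⊥ : Ideal A)) (I := J) hJ hfg
  let _ := φ.toAlgebra
  have hk : ∀ k, ∀ c, ∃ a, c - φ a ∈ (J ^ k).map φ := by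
    intro k
    induction k with
    | zero => intro c; exact ⟨0, by simp [Ideal.map_top]⟩
    | succ k ih =>
      intro c
      obtain ⟨a, ha⟩ := ih c
      suffices h' : ∀ x ∈ (J ^ k).map φ, ∃ b, x - φ b ∈ (J ^ (k + 1)).map φ by
        obtain ⟨b, hb⟩ := h' _ ha
        exact ⟨a + b, by rw [map_add, ← sub_sub]; exact hb⟩
      intro x hx
      induction hx using Submodule.span_induction with
      | mem x hx =>
        obtain ⟨j, hj, rfl⟩ := hx
        exact ⟨j, by simp⟩
      | zero => exact ⟨0, by simp⟩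
      | add x y _ _ hx hy =>
        obtain ⟨b, hb⟩ := hx
        obtain ⟨b', hb'⟩ := hy
        exact ⟨b + b', by rw [map_add, add_sub_add_comm]; exact add_mem hb hb'⟩
      | smul r x hx' hx =>
        obtain ⟨b, hb⟩ := hx
        obtain ⟨a', ha'⟩ := h r
        refine ⟨a' * b, ?_⟩
        have e : r • x - φ (a' * b) = r * (x - φ b) + (r - φ a') * x - (r - φ a') * (x - φ b) := by
          rw [map_mul, smul_eq_mul]; ring
        rw [e]
        refine sub_mem (add_mem (Ideal.mul_mem_left _ _ hb) ?_) (Ideal.mul_mem_left _ _ hb)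
        rw [pow_succ', Ideal.map_mul]
        exact Ideal.mul_mem_mul ha' hx'
  intro c
  obtain ⟨a, ha⟩ := hk n c
  rw [le_bot_iff.1 hn, Ideal.map_bot] at ha
  exact ⟨a, (sub_eq_zero.1 ((Submodule.mem_bot _).1 ha)).symm⟩

/-- A ring map of finite type, surjective modulo a nil ideal of the source, is surjective. -/
theorem surjective_of_surjective_mod_nil {φ : A →+* C} (hφ : φ.FiniteType) {I : Ideal A} (hI : I ≤ nilradical A)
    (h : ∀ c, ∃ a, c - φ a ∈ I.map φ) : Function.Surjective φ := by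
  classical
  let _ := φ.toAlgebra
  obtain ⟨s, hs⟩ := (hφ : Algebra.FiniteType A C).out
  have hc : ∀ c : C, ∃ J : Ideal A, J.FG ∧ J ≤ I ∧ ∃ a, c - φ a ∈ J.map φ := by
    intro c
    obtain ⟨a, ha⟩ := h c
    suffices h' : ∀ x ∈ I.map φ, ∃ J : Ideal A, J.FG ∧ J ≤ I ∧ x ∈ J.map φ by
      obtain ⟨J, h1, h2, h3⟩ := h' _ ha
      exact ⟨J, h1, h2, a, h3⟩
    intro x hx
    induction hx using Submodule.span_induction with
    | mem x hx =>
      obtain ⟨j, hj, rfl⟩ := hx
      exact ⟨Ideal.span {j}, Submodule.fg_span_singleton j, (Ideal.span_singleton_le_iff_mem _).2 hj,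
        Ideal.mem_map_of_mem φ (Ideal.mem_span_singleton_self j)⟩
    | zero => exact ⟨⊥, Submodule.fg_bot, bot_le, zero_mem _⟩
    | add x y _ _ hx hy =>
      obtain ⟨J, h1, h2, h3⟩ := hx
      obtain ⟨J', h1', h2', h3'⟩ := hy
      exact ⟨J ⊔ J', Submodule.FG.sup h1 h1', sup_le h2 h2', add_mem (Ideal.map_mono le_sup_left h3) (Ideal.map_mono le_sup_right h3')⟩
    | smul r x _ hx =>
      obtain ⟨J, h1, h2, h3⟩ := hx
      exact ⟨J, h1, h2, Ideal.mul_mem_left _ r h3⟩
  choose J hJfg hJI hJ using hc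
  refine surjective_of_surjective_mod_fg (J := s.sup J) ?_ ((Finset.sup_le fun c _ => hJI c).trans hI) ?_
  · exact Submodule.fg_finset_sup s J fun c _ => hJfg c
  intro c
  have hmem : c ∈ Algebra.adjoin A (s : Set C) := hs.symm ▸ Algebra.mem_top
  induction hmem using Algebra.adjoin_induction with
  | mem x hx =>
    obtain ⟨a, ha⟩ := hJ x
    exact ⟨a, Ideal.map_mono (Finset.le_sup (f := J) hx) ha⟩
  | algebraMap r => exact ⟨r, by simp [RingHom.algebraMap_toAlgebra]⟩
  | add x y _ _ hx hy =>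
    obtain ⟨a, ha⟩ := hx
    obtain ⟨b, hb⟩ := hy
    exact ⟨a + b, by rw [map_add, add_sub_add_comm]; exact add_mem ha hb⟩
  | mul x y _ _ hx hy =>
    obtain ⟨a, ha⟩ := hx
    obtain ⟨b, hb⟩ := hy
    refine ⟨a * b, ?_⟩
    rw [map_mul, show x * y - φ a * φ b = (x - φ a) * y + φ a * (y - φ b) by ring]
    exact add_mem (Ideal.mul_mem_right _ _ ha) (Ideal.mul_mem_left _ _ hb)

/-- A morphism of affine schemes which is a closed immersion over a thickening of the target is a closed
immersion, when it is of finite type or the thickening is of finite presentation. -/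
theorem isClosedImmersion_of_thick {W' W T' T : Scheme.{u}} [IsAffine W] [IsAffine T] {i : W ⟶ T} {c : T' ⟶ T}
    {i' : W' ⟶ T'} {c' : W' ⟶ W} [IsClosedImmersion c] [Surjective c] [IsClosedImmersion i']
    (sq : IsPullback c' i' i c) (h : LocallyOfFiniteType i ∨ LocallyOfFinitePresentation c) :
    IsClosedImmersion i := by
  have hc : IsAffine T' ∧ Function.Surjective c.appTop :=
    (HasAffineProperty.iff_of_isAffine (P := @IsClosedImmersion)).1 ‹_›
  have := hc.1
  have : IsAffine W' := isAffine_of_isAffineHom i'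
  have hi' : Function.Surjective i'.appTop :=
    ((HasAffineProperty.iff_of_isAffine (P := @IsClosedImmersion)).1 ‹_›).2
  have hpo : IsPushout i.appTop c.appTop c'.appTop i'.appTop := isPushout_appTop_of_isPullback sq
  refine (HasAffineProperty.iff_of_isAffine (P := @IsClosedImmersion)).2 ⟨inferInstance, ?_⟩
  let φ := i.appTop.hom
  let ψ := c.appTop.hom
  have hker : ∀ x, c'.appTop.hom x = 0 → x ∈ (RingHom.ker ψ).map φ := fun x hx => by
    let q : Γ(W, ⊤) ⟶ CommRingCat.of (Γ(W, ⊤) ⧸ (RingHom.ker ψ).map φ) := CommRingCat.ofHom (Ideal.Quotient.mk _)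
    have hle : RingHom.ker ψ ≤ RingHom.ker ((Ideal.Quotient.mk ((RingHom.ker ψ).map φ)).comp φ) := fun a ha =>
      (Ideal.Quotient.eq_zero_iff_mem.2 (Ideal.mem_map_of_mem φ ha) :)
    let r₀ := ψ.liftOfSurjective hc.2 ⟨(Ideal.Quotient.mk _).comp φ, hle⟩
    let r : Γ(T', ⊤) ⟶ CommRingCat.of (Γ(W, ⊤) ⧸ (RingHom.ker ψ).map φ) := CommRingCat.ofHom r₀
    have hw : i.appTop ≫ q = c.appTop ≫ r := CommRingCat.hom_ext
      (RingHom.liftOfSurjective_comp ψ hc.2 ⟨(Ideal.Quotient.mk _).comp φ, hle⟩).symm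
    have := congrArg (fun m => m.hom x) (hpo.inl_desc q r hw)
    simp only [CommRingCat.hom_comp, RingHom.comp_apply, hx, map_zero] at this
    exact Ideal.Quotient.eq_zero_iff_mem.1 this.symm
  have hmod : ∀ x, ∃ a, x - φ a ∈ (RingHom.ker ψ).map φ := fun x => by
    obtain ⟨t, ht⟩ := hi' (c'.appTop.hom x)
    obtain ⟨a, rfl⟩ := hc.2 t
    refine ⟨a, hker _ ?_⟩
    rw [map_sub, sub_eq_zero, ← ht]
    exact (RingHom.congr_fun (congrArg CommRingCat.Hom.hom hpo.w) a :).symm
  have hnil : RingHom.ker ψ ≤ nilradical Γ(T, ⊤) := AlgSpLib.ker_appTop_le_nilradical c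
  rcases h with h | h
  · exact surjective_of_surjective_mod_nil
      ((HasRingHomProperty.iff_of_isAffine (P := @LocallyOfFiniteType)).1 h) hnil hmod
  · refine surjective_of_surjective_mod_fg ?_ hnil hmod
    have hfp := (HasRingHomProperty.iff_of_isAffine (P := @LocallyOfFinitePresentation)).1 h
    let _ := ψ.toAlgebra
    have : Algebra.FinitePresentation Γ(T, ⊤) Γ(T', ⊤) := hfp
    exact Algebra.FinitePresentation.ker_fG_of_surjective (Algebra.ofId Γ(T, ⊤) Γ(T', ⊤)) hc.2

end Groth.Agent.AlgSpOne
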