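import Groth.Agent.AlgSpOne.NormAffine
import Groth.Agent.AlgSpDec.LimDescentRep
import Groth.Agent.AlgSpDec.AffineProps
import Groth.Agent.S10278
import Groth.Agent.S10279

/-!
# Global functions of a universally closed space over an affine scheme are integral
-/

set_option autoImplicit false
set_option backward.isDefEq.respectTransparency false
set_option backward.isDefEq.respectTransparency.types false

universe u

open CategoryTheory CategoryTheory.Limits AlgebraicGeometry Opposite AlgSp Groth.Agent.AlgSpLib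

namespace Groth.Agent.AlgSpOne

theorem appTop_injective_of_flat_surjective {P Q : Scheme.{u}} (e : P ⟶ Q) [Flat e] [Surjective e] :
    Function.Injective e.appTop.hom := by
  intro a b hab
  refine TopCat.Presheaf.section_ext Q.sheaf ⊤ a b fun y _ => ?_
  obtain ⟨x, rfl⟩ := e.surjective y
  algebraize [(e.stalkMap x).hom]
  have : Module.FaithfullyFlat (Q.presheaf.stalk (e x)) (P.presheaf.stalk x) :=
    @Module.FaithfullyFlat.of_flat_of_isLocalHom _ _ _ _ _ _ _ (Flat.stalkMap e x) (e.toLRSHom.prop x)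
  refine (‹RingHom.FaithfullyFlat _›).injective ?_
  change (e.stalkMap x).hom (Q.presheaf.germ ⊤ (e x) trivial a) = (e.stalkMap x).hom (Q.presheaf.germ ⊤ (e x) trivial b)
  rw [Scheme.Hom.germ_stalkMap_apply, Scheme.Hom.germ_stalkMap_apply]
  exact congrArg _ hab

variable {S : Scheme.{u}}

theorem isIntegralElem_of_univClosed {V W R : Over S} [IsAffine V.left] [IsAffine W.left] {X : Space S}
    (f : X ⟶ (ofScheme S).obj V) (huc : IsUnivClosedMor f.hom) {b : (yon S).obj W ⟶ X.obj}
    (hbe : RepWith @Etale b) (hbs : RepWith @Surjective b) {t t' : R ⟶ W}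
    (sq : IsPullback ((yon S).map t) ((yon S).map t') b b) (w : W ⟶ V) (hw : (yon S).map w = b ≫ f.hom)
    (σ : Γ(W.left, ⊤)) (hσ : t.left.appTop.hom σ = t'.left.appTop.hom σ) :
    w.left.appTop.hom.IsIntegralElem σ := by
  let ev : Polynomial Γ(V.left, ⊤) →+* Γ(W.left, ⊤) := Polynomial.eval₂RingHom w.left.appTop.hom σ
  let I := RingHom.ker ev
  let B : CommRingCat.{u} := CommRingCat.of (Polynomial Γ(V.left, ⊤) ⧸ I)
  let c : Γ(V.left, ⊤) ⟶ B := CommRingCat.ofHom ((Ideal.Quotient.mk I).comp Polynomial.C)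
  let v : B ⟶ Γ(W.left, ⊤) := CommRingCat.ofHom (Ideal.Quotient.lift I ev fun a ha => ha)
  have hv : Function.Injective v.hom :=
    RingHom.lift_injective_of_ker_le_ideal I (fun a ha => ha) le_rfl
  let Z : Over S := Over.mk ((Spec.map c ≫ V.left.isoSpec.inv) ≫ V.hom)
  let π : Z ⟶ V := Over.homMk (Spec.map c ≫ V.left.isoSpec.inv) rfl
  have : IsAffine Z.left := inferInstanceAs (IsAffine (Spec B))
  let θ : B ⟶ Γ(Z.left, ⊤) := (Scheme.ΓSpecIso B).inv
  have hθ : Function.Bijective θ.hom := ConcreteCategory.bijective_of_isIso θ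
  have hπθ : π.left.appTop = c ≫ θ := by
    change (Spec.map c ≫ V.left.isoSpec.inv).appTop = c ≫ (Scheme.ΓSpecIso B).inv
    rw [Scheme.Hom.comp_appTop, Scheme.ΓSpecIso_inv_naturality]
    congr 1
    rw [← cancel_mono V.left.isoSpec.hom.appTop, ← Scheme.Hom.comp_appTop, Iso.hom_inv_id]
    simp [Scheme.isoSpec]
  have hcv : c ≫ v = w.left.appTop := CommRingCat.hom_ext (RingHom.ext fun a => Polynomial.eval₂_C _ _)
  obtain ⟨γ, hγ, hγπ⟩ := exists_overHom π w ((Scheme.ΓSpecIso B).hom ≫ v) (by
    rw [hπθ, Category.assoc, ← hcv]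
    exact congrArg (c ≫ ·) ((Scheme.ΓSpecIso B).inv_hom_id_assoc v))
  have htw : t ≫ w = t' ≫ w := (yon S).map_injective (by
    rw [Functor.map_comp, Functor.map_comp, hw, reassoc_of% sq.w])
  have hγt : t ≫ γ = t' ≫ γ := Over.OverMorphism.ext (ext_of_isAffine (by
    simp only [Over.comp_left, Scheme.Hom.comp_appTop, hγ, Category.assoc]
    congr 1
    refine CommRingCat.hom_ext (Ideal.Quotient.ringHom_ext (Polynomial.ringHom_ext (fun a => ?_) ?_))
    · change t.left.appTop.hom (Polynomial.eval₂ w.left.appTop.hom σ (Polynomial.C a)) =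
        t'.left.appTop.hom (Polynomial.eval₂ w.left.appTop.hom σ (Polynomial.C a))
      rw [Polynomial.eval₂_C]
      exact congrArg (fun m : R ⟶ V => m.left.appTop.hom a) htw
    · change t.left.appTop.hom (Polynomial.eval₂ w.left.appTop.hom σ Polynomial.X) =
        t'.left.appTop.hom (Polynomial.eval₂ w.left.appTop.hom σ Polynomial.X)
      rw [Polynomial.eval₂_X]
      exact hσ))
  obtain ⟨g, hg⟩ := exists_desc_atlas hbe hbs sq ((yon S).map γ) (by
    rw [← Functor.map_comp, ← Functor.map_comp, hγt])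
  have : Epi b := epi_of_etale_surjective hbe hbs
  have hgπ : g ≫ (yon S).map π = f.hom := by
    rw [← cancel_epi b, reassoc_of% hg, ← Functor.map_comp, hγπ, hw]
  let g' : X ⟶ (ofScheme S).obj Z := ObjectProperty.homMk g
  have hcomm : g' ≫ (ofScheme S).map π = f := ObjectProperty.hom_ext _ hgπ
  have hsep : IsSeparatedMor ((ofScheme S).map π).hom :=
    AlgSpDec.isSeparatedMor_of_repWith_affine ((repWith_yon_map_iff _ π).2 (inferInstance : IsAffineHom π.left))
  have hcl : IsClosed (Set.range (Points.map g)) := ((S10278.result g' f _ hcomm hsep).1 huc).2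
  have hγinj : Function.Injective γ.left.appTop.hom := by
    rw [hγ]
    exact hv.comp (ConcreteCategory.bijective_of_isIso (Scheme.ΓSpecIso B).hom).1
  have : IsDominant γ.left := isDominant_of_of_appTop_injective hγinj
  have hsurj : IsSurjectiveMor g'.hom := by
    intro z
    obtain ⟨z, rfl⟩ := surjective_ofPt (repWith_of_isIso @Surjective (𝟙 ((yon S).obj Z))) z
    have hcl' : IsClosed ((Points.schemeHomeo Z) ⁻¹' Set.range (Points.map g)) :=
      hcl.preimage (Points.schemeHomeo Z).continuous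
    have hsub : Set.range γ.left ⊆ (Points.schemeHomeo Z) ⁻¹' Set.range (Points.map g) := by
      rintro _ ⟨x, rfl⟩
      refine ⟨Points.ofPt b x, ?_⟩
      rw [Points.map_ofPt, hg, ← Category.comp_id ((yon S).map γ), ofPt_comp]
      rfl
    exact closure_minimal hsub hcl' (by rw [γ.left.denseRange.closure_range]; trivial)
  have huπ : IsUnivClosedMor ((yon S).map π) := S10279.result g' f _ hcomm huc hsurj
  have : UniversallyClosed π.left := (repWith_yon_map_iff _ π).1
    (AlgSpDec.repWith_universallyClosed_of_univClosed (representable_from_yon' (IsAlgSpace.yon_obj _) _) huπ)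
  have hint : IsIntegralHom π.left :=
    IsIntegralHom.iff_universallyClosed_and_isAffineHom.2 ⟨inferInstance, inferInstance⟩
  obtain ⟨m, hm, hm'⟩ := ((HasAffineProperty.iff_of_isAffine (P := @IsIntegralHom)).1 hint).2
    (θ.hom (Ideal.Quotient.mk I Polynomial.X))
  refine ⟨m, hm, ?_⟩
  replace hm' : Polynomial.eval₂ π.left.appTop.hom (θ.hom (Ideal.Quotient.mk I Polynomial.X)) m = 0 := hm'
  rw [hπθ] at hm'
  change Polynomial.eval₂ (θ.hom.comp c.hom) (θ.hom (Ideal.Quotient.mk I Polynomial.X)) m = 0 at hm'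
  rw [← Polynomial.hom_eval₂] at hm'
  have h0 := congrArg v.hom (hθ.1 (hm'.trans (map_zero _).symm))
  rw [map_zero, Polynomial.hom_eval₂] at h0
  rw [← h0, ← hcv]
  congr 1
  exact (Polynomial.eval₂_X _ _).symm

theorem exists_monic_gsectEt {V : Over S} [IsAffine V.left] {X : Space S} (f : X ⟶ (ofScheme S).obj V)
    (hqc : IsQuasiCompactMor f.hom) (huc : IsUnivClosedMor f.hom)
    (s : ↥(gsectEt (OEt X.obj) : CommRingCat.{u + 1})) :
    ∃ p : Polynomial Γ(V.left, ⊤), p.Monic ∧
      ∀ E : EtOver X.obj, Polynomial.eval₂ ((yon S).preimage (E.obj.hom ≫ f.hom)).left.appTop.hom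
        ((limit.π (OEt X.obj).obj (op E)) s).down p = 0 := by
  have hXqc : IsQuasiCompactSp X.obj := hqc (IsAlgSpace.yon_obj V) AlgSpVal.isQuasiCompactSp_yon (𝟙 _) (𝟙 _) f.hom
    (IsPullback.of_horiz_isIso ⟨by simp [ofScheme]⟩)
  obtain ⟨W, b, hW, hbe, hbs⟩ := AlgSpLib.CartierRegular.exists_affine_atlas X.property hXqc
  let val : ∀ E : EtOver X.obj, Γ(E.obj.left.left, ⊤) := fun E => ((limit.π (OEt X.obj).obj (op E)) s).down
  have hnat : ∀ {E E' : EtOver X.obj} (k : E' ⟶ E), k.hom.left.left.appTop.hom (val E) = val E' := fun {E E'} k => by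
    have := congrArg (fun m => ((ConcreteCategory.hom m) s).down) (limit.w (OEt X.obj).obj k.op)
    exact this
  let EW : EtOver X.obj := EtOver.mk b hbe
  let R := hbe.rep.pullback b
  let t : R ⟶ W := hbe.rep.fst' b
  let t' : R ⟶ W := hbe.rep.snd b
  have sq : IsPullback ((yon S).map t) ((yon S).map t') b b := hbe.rep.isPullback' b
  have : Etale t.left := hbe.2 _ _ _ sq.flip
  let ER : EtOver X.obj := EtOver.mk ((yon S).map t ≫ b)
    (repWith_comp ((repWith_yon_map_iff _ t).2 ‹_›) hbe)
  let w : W ⟶ V := (yon S).preimage (b ≫ f.hom)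
  have hw : (yon S).map w = b ≫ f.hom := (yon S).map_preimage _
  obtain ⟨p, hp, hp'⟩ := isIntegralElem_of_univClosed f huc hbe hbs sq w hw (val EW)
    ((hnat (EtOver.homMk (E := ER) (E' := EW) t rfl)).trans
      (hnat (EtOver.homMk (E := ER) (E' := EW) t' sq.w.symm)).symm)
  refine ⟨p, hp, fun E => ?_⟩
  let P := hbe.rep.pullback E.obj.hom
  let a : P ⟶ W := hbe.rep.fst' E.obj.hom
  let e : P ⟶ E.obj.left := hbe.rep.snd E.obj.hom
  have sqP : IsPullback ((yon S).map a) ((yon S).map e) b E.obj.hom := hbe.rep.isPullback' E.obj.hom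
  have : Etale e.left := hbe.2 _ _ _ sqP
  have : Surjective e.left := hbs.2 _ _ _ sqP
  let EP : EtOver X.obj := EtOver.mk ((yon S).map e ≫ E.obj.hom)
    (repWith_comp ((repWith_yon_map_iff _ e).2 ‹_›) E.property)
  let k := (yon S).preimage (E.obj.hom ≫ f.hom)
  have hke : a ≫ w = e ≫ k := (yon S).map_injective (by
    simp only [k, Functor.map_comp, hw, Functor.map_preimage, reassoc_of% sqP.w])
  apply appTop_injective_of_flat_surjective e.left
  rw [map_zero, Polynomial.hom_eval₂]
  have h1 : e.left.appTop.hom.comp k.left.appTop.hom = a.left.appTop.hom.comp w.left.appTop.hom := by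
    rw [← CommRingCat.hom_comp, ← CommRingCat.hom_comp, ← Scheme.Hom.comp_appTop, ← Scheme.Hom.comp_appTop,
      ← Over.comp_left, ← Over.comp_left, hke]
  have h2 : e.left.appTop.hom (val E) = a.left.appTop.hom (val EW) :=
    (hnat (EtOver.homMk (E := EP) (E' := E) e rfl)).trans
      (hnat (EtOver.homMk (E := EP) (E' := EW) a sqP.w)).symm
  change Polynomial.eval₂ (e.left.appTop.hom.comp k.left.appTop.hom) (e.left.appTop.hom (val E)) p = 0
  rw [h1, h2, ← Polynomial.hom_eval₂, hp', map_zero]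

end Groth.Agent.AlgSpOne
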